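import Cfsg.Agent.Lib.Classical.Quad.Basic

/-!
Classification of symmetric bilinear forms over finite fields of odd characteristic, and small
facts about binary and ternary quadratic forms.
-/

set_option autoImplicit false

namespace CfsgLib.Classical.Quad

open LinearMap (BilinForm)
open QuadraticMap (polar polarBilin)

variable {F : Type*} [Field F] {V : Type*} [AddCommGroup V] [Module F V]

theorem exists_sum_two_squares [Finite F] (h2 : (2 : F) ≠ 0) {d₁ d₂ : F} (h₁ : d₁ ≠ 0)
    (h₂ : d₂ ≠ 0) (c : F) : ∃ x y : F, d₁ * x ^ 2 + d₂ * y ^ 2 = c := by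
  classical
  have : Fintype F := Fintype.ofFinite F
  have hodd : Fintype.card F % 2 = 1 := by
    refine FiniteField.odd_card_of_char_ne_two fun h => h2 ?_
    have := ringChar.eq_iff.1 h
    exact CharTwo.two_eq_zero
  obtain ⟨x, y, hxy⟩ := FiniteField.exists_root_sum_quadratic
    (f := Polynomial.C d₁ * Polynomial.X ^ 2 + Polynomial.C 0 * Polynomial.X + Polynomial.C (-c))
    (g := Polynomial.C d₂ * Polynomial.X ^ 2 + Polynomial.C 0 * Polynomial.X + Polynomial.C 0)
    (Polynomial.degree_quadratic h₁) (Polynomial.degree_quadratic h₂) hodd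
  refine ⟨x, y, ?_⟩
  simp at hxy
  linear_combination hxy

theorem exists_square_class [Finite F] (h2 : (2 : F) ≠ 0) {d α : F} (hd : d ≠ 0)
    (hα : ¬ IsSquare α) : ∃ c : F, c ≠ 0 ∧ (c * c * d = 1 ∨ c * c * d = α) := by
  classical
  have : Fintype F := Fintype.ofFinite F
  have hα0 : α ≠ 0 := by rintro rfl; exact hα IsSquare.zero
  by_cases hs : IsSquare d
  · obtain ⟨r, hr⟩ := hs
    have hr0 : r ≠ 0 := by rintro rfl; exact hd (by simpa using hr)
    exact ⟨r⁻¹, inv_ne_zero hr0, Or.inl (by rw [hr]; field_simp)⟩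
  · have hF : ringChar F ≠ 2 := fun h => h2 (by
      have := ringChar.eq_iff.1 h
      exact CharTwo.two_eq_zero)
    have hsq : IsSquare (α * d) := by
      rw [FiniteField.isSquare_iff hF (mul_ne_zero hα0 hd), mul_pow]
      rcases FiniteField.pow_dichotomy hF hα0 with ha | ha
      · exact absurd ((FiniteField.isSquare_iff hF hα0).2 ha) hα
      rcases FiniteField.pow_dichotomy hF hd with hb | hb
      · exact absurd ((FiniteField.isSquare_iff hF hd).2 hb) hs
      rw [ha, hb, neg_one_mul, neg_neg]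
    obtain ⟨r, hr⟩ := hsq
    have hr0 : r ≠ 0 := by rintro rfl; exact mul_ne_zero hα0 hd (by simpa using hr)
    refine ⟨α / r, div_ne_zero hα0 hr0, Or.inr ?_⟩
    field_simp
    linear_combination hr

theorem exists_norm_one [Finite F] [FiniteDimensional F V] (h2 : (2 : F) ≠ 0) {B : BilinForm F V}
    (hS : B.IsSymm) (hB : B.Nondegenerate) (hn : 2 ≤ Module.finrank F V) :
    ∃ x : V, B x x = 1 := by
  have : Invertible (2 : F) := invertibleOfNonzero h2
  obtain ⟨v, hv⟩ := LinearMap.BilinForm.exists_orthogonal_basis (LinearMap.BilinForm.isSymm_iff.1 hS)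
  have hne := LinearMap.IsOrthoᵢ.not_isOrtho_basis_self_of_separatingLeft hv hB.1
  let i : Fin (Module.finrank F V) := ⟨0, by omega⟩
  let j : Fin (Module.finrank F V) := ⟨1, by omega⟩
  have hij : i ≠ j := by simp [i, j, Fin.ext_iff]
  obtain ⟨x, y, hxy⟩ := exists_sum_two_squares h2 (hne i) (hne j) 1
  refine ⟨x • v i + y • v j, ?_⟩
  have h1 : B (v i) (v j) = 0 := hv hij
  have h1' : B (v j) (v i) = 0 := hv hij.symm
  simp only [map_add, map_smul, LinearMap.add_apply, LinearMap.smul_apply, smul_eq_mul, h1, h1']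
  linear_combination hxy

theorem exists_normal_basis [Finite F] (h2 : (2 : F) ≠ 0) {α : F} (hα : ¬ IsSquare α) (n : ℕ) :
    ∀ {V : Type*} [AddCommGroup V] [Module F V] [FiniteDimensional F V] (B : BilinForm F V),
      B.IsSymm → B.Nondegenerate → Module.finrank F V = n + 1 →
      ∃ b : Module.Basis (Fin (n + 1)) F V, (∀ i j, i ≠ j → B (b i) (b j) = 0) ∧
        (∀ i, i ≠ Fin.last n → B (b i) (b i) = 1) ∧
        (B (b (Fin.last n)) (b (Fin.last n)) = 1 ∨ B (b (Fin.last n)) (b (Fin.last n)) = α) := by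
  induction n with
  | zero =>
    intro V _ _ _ B hS hB hn
    have : Subsingleton (Fin (0 + 1)) := Fin.subsingleton_one
    let b := Module.finBasisOfFinrankEq F V hn
    have hd : B (b 0) (b 0) ≠ 0 := by
      intro h0
      refine b.ne_zero 0 (hB.1 _ fun y => ?_)
      rw [← b.sum_repr y]
      simp [h0]
    obtain ⟨c, hc, hcd⟩ := exists_square_class h2 hd hα
    refine ⟨b.unitsSMul fun _ => Units.mk0 c hc, fun i j hij => absurd (Subsingleton.elim i j) hij,
      fun i hi => absurd (Subsingleton.elim i _) hi, ?_⟩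
    rw [Subsingleton.elim (Fin.last 0) 0]
    simp only [Module.Basis.unitsSMul_apply, Units.smul_def, Units.val_mk0, map_smul,
      LinearMap.smul_apply, smul_eq_mul, ← mul_assoc]
    exact hcd
  | succ n ih =>
    intro V _ _ _ B hS hB hn
    obtain ⟨x, hx⟩ := exists_norm_one h2 hS hB (by omega)
    have hx' : ¬ B.IsOrtho x x := by
      rw [LinearMap.BilinForm.isOrtho_def, hx]; exact one_ne_zero
    have hc := LinearMap.BilinForm.isCompl_span_singleton_orthogonal hx'
    have hx0 : x ≠ 0 := fun h0 => by simp [h0] at hx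
    have hf := Submodule.finrank_add_eq_of_isCompl hc
    rw [finrank_span_singleton hx0, hn] at hf
    have hR : B.IsRefl := hS.isRefl
    have hB' : (B.restrict (B.orthogonal (F ∙ x))).Nondegenerate := by
      refine LinearMap.BilinForm.nondegenerate_restrict_of_disjoint_orthogonal B hR ?_
      rw [LinearMap.BilinForm.orthogonal_orthogonal hB hR]
      exact hc.symm.disjoint
    obtain ⟨c, hc1, hc2, hc3⟩ := ih (B.restrict (B.orthogonal (F ∙ x)))
      (⟨fun u v => hS.eq _ _⟩) hB' (by omega)
    have hperp : ∀ i, B x (c i : V) = 0 := fun i =>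
      LinearMap.BilinForm.mem_orthogonal_iff.1 (c i).2 x (Submodule.mem_span_singleton_self x)
    let v : Fin (n + 2) → V := Fin.cons x fun i => (c i : V)
    have hdisj : Disjoint (F ∙ x) (Submodule.span F (Set.range fun i => (c i : V))) :=
      hc.disjoint.mono_right (Submodule.span_le.2 (Set.range_subset_iff.2 fun i => (c i).2))
    have hli : LinearIndependent F v := by
      refine linearIndependent_finCons.2
        ⟨c.linearIndependent.map' (Submodule.subtype _) (Submodule.ker_subtype _), fun h => ?_⟩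
      exact hx0 (Submodule.disjoint_def.1 hdisj x (Submodule.mem_span_singleton_self x) h)
    refine ⟨basisOfLinearIndependentOfCardEqFinrank hli (by simp [hn]), ?_, ?_, ?_⟩
    · simp only [coe_basisOfLinearIndependentOfCardEqFinrank, v]
      intro i j hij
      induction i using Fin.cases with
      | zero =>
        induction j using Fin.cases with
        | zero => exact absurd rfl hij
        | succ j => simpa using hperp j
      | succ i =>
        induction j using Fin.cases with
        | zero => simpa using (hS.eq _ _).trans (hperp i)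
        | succ j => simpa using hc1 i j fun h => hij (by rw [h])
    · simp only [coe_basisOfLinearIndependentOfCardEqFinrank, v]
      intro i hi
      induction i using Fin.cases with
      | zero => simpa using hx
      | succ i => simpa using hc2 i fun h => hi (by rw [h, Fin.succ_last])
    · simp only [coe_basisOfLinearIndependentOfCardEqFinrank, v, ← Fin.succ_last, Fin.cons_succ]
      exact hc3

theorem det_gram_of_isometry [FiniteDimensional F V] {ι : Type*} [Fintype ι] [DecidableEq ι]
    {W : Type*} [AddCommGroup W] [Module F W] (b : Module.Basis ι F V) (c : Module.Basis ι F W)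
    (B : BilinForm F V) (B' : BilinForm F W) (g : V ≃ₗ[F] W)
    (hg : ∀ u v, B' (g u) (g v) = B u v) :
    (LinearMap.BilinForm.toMatrix b B).det =
      (LinearMap.toMatrix b c (g : V →ₗ[F] W)).det ^ 2 * (LinearMap.BilinForm.toMatrix c B').det := by
  have h : B = B'.comp (g : V →ₗ[F] W) (g : V →ₗ[F] W) :=
    LinearMap.ext fun u => LinearMap.ext fun v => (hg u v).symm
  rw [h, LinearMap.BilinForm.toMatrix_comp c, Matrix.det_mul, Matrix.det_mul, Matrix.det_transpose]
  ring

theorem det_gram_diag {ι : Type*} [Fintype ι] [DecidableEq ι] (b : Module.Basis ι F V)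
    (B : BilinForm F V) (h : ∀ i j, i ≠ j → B (b i) (b j) = 0) :
    (LinearMap.BilinForm.toMatrix b B).det = ∏ i, B (b i) (b i) := by
  have : LinearMap.BilinForm.toMatrix b B = Matrix.diagonal fun i => B (b i) (b i) := by
    ext i j
    rw [LinearMap.BilinForm.toMatrix_apply]
    by_cases hij : i = j
    · rw [hij, Matrix.diagonal_apply_eq]
    · rw [Matrix.diagonal_apply_ne _ hij, h i j hij]
  rw [this, Matrix.det_diagonal]

theorem equiv_of_gram {ι : Type*} [Fintype ι] [DecidableEq ι] {W : Type*} [AddCommGroup W]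
    [Module F W] (b : Module.Basis ι F V) (c : Module.Basis ι F W) (B : BilinForm F V)
    (B' : BilinForm F W) (h : ∀ i j, B' (c i) (c j) = B (b i) (b j)) (u v : V) :
    B' (b.equiv c (Equiv.refl ι) u) (b.equiv c (Equiv.refl ι) v) = B u v := by
  have h2 : B'.comp (b.equiv c (Equiv.refl ι) : V →ₗ[F] W)
      (b.equiv c (Equiv.refl ι) : V →ₗ[F] W) = B := by
    refine LinearMap.BilinForm.ext_basis b fun i j => ?_
    simp [h]
  exact LinearMap.congr_fun₂ h2 u v

variable {n : ℕ}

theorem polar_nondeg_ne_zero {Q : QuadraticForm F V} (hQ : (polarBilin Q).Nondegenerate)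
    [Nontrivial V] : ∃ x y, polar Q x y ≠ 0 := by
  obtain ⟨x, hx⟩ := exists_ne (0 : V)
  by_contra hc
  push Not at hc
  exact hx (hQ.1 x fun y => hc x y)

theorem similar_of_odd [Finite F] [FiniteDimensional F V] (h2 : (2 : F) ≠ 0)
    (hn : Odd (Module.finrank F V)) (Q₁ Q₂ : QuadraticForm F V)
    (h₁ : (polarBilin Q₁).Nondegenerate) (h₂ : (polarBilin Q₂).Nondegenerate) :
    ∃ (g : V ≃ₗ[F] V) (c : F), c ≠ 0 ∧ ∀ v, Q₂ (g v) = c * Q₁ v := by
  obtain ⟨α, hα⟩ : ∃ α : F, ¬ IsSquare α := FiniteField.exists_nonsquare fun h => h2 (by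
    have := ringChar.eq_iff.1 h
    exact CharTwo.two_eq_zero)
  have hα0 : α ≠ 0 := by rintro rfl; exact hα IsSquare.zero
  obtain ⟨k, hk⟩ := hn
  obtain ⟨b, hb1, hb2, hb3⟩ := exists_normal_basis h2 hα (2 * k) (polarBilin Q₁)
    ⟨fun u v => QuadraticMap.polar_comm _ u v⟩ h₁ hk
  obtain ⟨c, hc1, hc2, hc3⟩ := exists_normal_basis h2 hα (2 * k) (polarBilin Q₂)
    ⟨fun u v => QuadraticMap.polar_comm _ u v⟩ h₂ hk
  have hα1 : (α : F) ≠ 1 := fun h => hα (h ▸ IsSquare.one)
  -- the scaled form
  have hnd : (α • polarBilin Q₁).Nondegenerate := by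
    constructor
    · intro x hx
      exact h₁.1 x fun y => (mul_eq_zero.1 (hx y)).resolve_left hα0
    · intro x hx
      exact h₁.2 x fun y => (mul_eq_zero.1 (hx y)).resolve_left hα0
  obtain ⟨d, hd1, hd2, hd3⟩ := exists_normal_basis h2 hα (2 * k) (α • polarBilin Q₁)
    ⟨fun u v => by
      show α * polar Q₁ u v = α * polar Q₁ v u
      rw [QuadraticMap.polar_comm]⟩ hnd hk
  have finish : ∀ (s : F), s ≠ 0 → ∀ (e : Module.Basis (Fin (2 * k + 1)) F V),
      (∀ i j, polar Q₂ (c i) (c j) = s * polar Q₁ (e i) (e j)) →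
      ∃ (g : V ≃ₗ[F] V) (t : F), t ≠ 0 ∧ ∀ v, Q₂ (g v) = t * Q₁ v := by
    intro s hs e h
    refine ⟨e.equiv c (Equiv.refl _), s, hs, fun v => ?_⟩
    have h3 := equiv_of_gram e c (s • polarBilin Q₁) (polarBilin Q₂) h v v
    have h4 : polar Q₂ (e.equiv c (Equiv.refl _) v) (e.equiv c (Equiv.refl _) v) =
        s * polar Q₁ v v := h3
    rw [polar_self', polar_self'] at h4
    exact mul_left_cancel₀ h2 (by rw [h4]; ring)
  have last : ∀ i, i = Fin.last (2 * k) ∨ i ≠ Fin.last (2 * k) := fun i => em _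
  have gram : ∀ (B B' : BilinForm F V) (e e' : Module.Basis (Fin (2 * k + 1)) F V),
      (∀ i j, i ≠ j → B (e i) (e j) = 0) → (∀ i j, i ≠ j → B' (e' i) (e' j) = 0) →
      (∀ i, i ≠ Fin.last (2 * k) → B (e i) (e i) = 1) →
      (∀ i, i ≠ Fin.last (2 * k) → B' (e' i) (e' i) = 1) →
      B (e (Fin.last _)) (e (Fin.last _)) = B' (e' (Fin.last _)) (e' (Fin.last _)) →
      ∀ i j, B' (e' i) (e' j) = B (e i) (e j) := by
    intro B B' e e' a a' o o' hl i j
    by_cases hij : i = j
    · subst hij
      rcases last i with rfl | hi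
      · exact hl.symm
      · rw [o i hi, o' i hi]
    · rw [a i j hij, a' i j hij]
  have hprod : ∀ (B : BilinForm F V) (e : Module.Basis (Fin (2 * k + 1)) F V),
      (∀ i j, i ≠ j → B (e i) (e j) = 0) → (∀ i, i ≠ Fin.last (2 * k) → B (e i) (e i) = 1) →
      (LinearMap.BilinForm.toMatrix e B).det = B (e (Fin.last _)) (e (Fin.last _)) := by
    intro B e a o
    rw [det_gram_diag e B a, Finset.prod_eq_single (Fin.last _) (fun i _ hi => o i hi) (by simp)]
  by_cases heq : polar Q₁ (b (Fin.last _)) (b (Fin.last _)) = polar Q₂ (c (Fin.last _)) (c (Fin.last _))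
  · exact finish 1 one_ne_zero b fun i j => by
      rw [one_mul]
      exact gram (polarBilin Q₁) (polarBilin Q₂) b c hb1 hc1 hb2 hc2 heq i j
  · refine finish α hα0 d fun i j => ?_
    refine gram (α • polarBilin Q₁) (polarBilin Q₂) d c hd1 hc1 hd2 hc2 ?_ i j
    show α * polar Q₁ (d (Fin.last _)) (d (Fin.last _)) = polar Q₂ (c (Fin.last _)) (c (Fin.last _))
    have hne : α * polar Q₁ (d (Fin.last _)) (d (Fin.last _)) ≠
        polar Q₁ (b (Fin.last _)) (b (Fin.last _)) := by
      intro h
      have h5 := det_gram_of_isometry d b (α • polarBilin Q₁) (α • polarBilin Q₁)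
        (LinearEquiv.refl F V) fun _ _ => rfl
      rw [hprod _ d hd1 hd2, map_smul, Matrix.det_smul, Fintype.card_fin, hprod _ b hb1 hb2,
        show ((α • polarBilin Q₁) (d (Fin.last _))) (d (Fin.last _)) =
          α * polar Q₁ (d (Fin.last _)) (d (Fin.last _)) from rfl, h,
        QuadraticMap.polarBilin_apply_apply] at h5
      have hd0 : polar Q₁ (b (Fin.last _)) (b (Fin.last _)) ≠ 0 := by
        rcases hb3 with h6 | h6 <;> rw [QuadraticMap.polarBilin_apply_apply] at h6 <;> rw [h6]
        · exact one_ne_zero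
        · exact hα0
      have h7 : (LinearMap.toMatrix d b ((LinearEquiv.refl F V : V ≃ₗ[F] V) : V →ₗ[F] V)).det ^ 2 *
          α ^ (2 * k + 1) = 1 := by
        apply mul_right_cancel₀ hd0
        linear_combination -h5
      refine hα ⟨1 / ((LinearMap.toMatrix d b
        ((LinearEquiv.refl F V : V ≃ₗ[F] V) : V →ₗ[F] V)).det * α ^ k), ?_⟩
      have h8 : (LinearMap.toMatrix d b ((LinearEquiv.refl F V : V ≃ₗ[F] V) : V →ₗ[F] V)).det *
          α ^ k ≠ 0 := by
        intro h0
        have h9 : ((LinearMap.toMatrix d b ((LinearEquiv.refl F V : V ≃ₗ[F] V) : V →ₗ[F] V)).det *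
            α ^ k) ^ 2 * α = 1 := by linear_combination h7
        rw [h0] at h9
        simp at h9
      generalize (LinearMap.toMatrix d b ((LinearEquiv.refl F V : V ≃ₗ[F] V) : V →ₗ[F] V)).det = D
        at h7 h8 ⊢
      have hD : D ≠ 0 := left_ne_zero_of_mul h8
      have hak : α ^ k ≠ 0 := pow_ne_zero _ hα0
      field_simp
      linear_combination h7
    have two : ∀ x y z : F, (x = 1 ∨ x = α) → (y = 1 ∨ y = α) → (z = 1 ∨ z = α) → x ≠ y → z ≠ y →
        z = x := by
      intro x y z hx hy hz h1 h2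
      rcases hx with rfl | rfl <;> rcases hy with rfl | rfl <;> rcases hz with rfl | rfl <;>
        first
          | rfl
          | exact absurd rfl h1
          | exact absurd rfl h2
    exact two _ _ _ hc3 hb3 hd3 (Ne.symm heq) hne

theorem exists_singular_char_two [Finite F] [CharP F 2] [FiniteDimensional F V]
    (Q : QuadraticForm F V) (h3 : 3 ≤ Module.finrank F V) : ∃ v : V, v ≠ 0 ∧ Q v = 0 := by
  have : Nontrivial V := Module.nontrivial_of_finrank_pos (R := F) (by omega)
  obtain ⟨v, hv⟩ := exists_ne (0 : V)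
  by_cases hQv : Q v = 0
  · exact ⟨v, hv, hQv⟩
  let φ : V →ₗ[F] F := polarBilin Q v
  have hk : 2 ≤ Module.finrank F (LinearMap.ker φ) := by
    have h1 := LinearMap.finrank_range_add_finrank_ker φ
    have h2 := Submodule.finrank_le (LinearMap.range φ)
    rw [Module.finrank_self] at h2
    omega
  obtain ⟨w, hwk, hw⟩ : ∃ w ∈ LinearMap.ker φ, w ∉ Submodule.span F {v} := by
    by_contra hc
    push Not at hc
    have := Submodule.finrank_mono (show LinearMap.ker φ ≤ Submodule.span F {v} from hc)
    rw [finrank_span_singleton hv] at this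
    omega
  obtain ⟨a, ha⟩ := isSquare_of_charTwo' (Q w / Q v)
  refine ⟨w + a • v, fun h => hw ?_, ?_⟩
  · rw [eq_neg_of_add_eq_zero_left h]
    exact Submodule.neg_mem _ (Submodule.smul_mem _ _ (Submodule.mem_span_singleton_self v))
  · have hvw : polar Q v w = 0 := LinearMap.mem_ker.1 hwk
    rw [apply_add, apply_smul, polar_smul_right', QuadraticMap.polar_comm (⇑Q) w v, hvw, ← ha,
      div_mul_cancel₀ _ hQv, mul_zero, add_zero]
    exact CharTwo.add_self_eq_zero _

theorem binary_char_two [Finite F] [CharP F 2] (Q : QuadraticForm F V)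
    (h2 : Module.finrank F V = 2) (hQ : (polarBilin Q).Nondegenerate) :
    (∃ v w : V, LinearIndependent F ![v, w] ∧ Q v = 0 ∧ Q w = 0 ∧ polar Q v w = 1) ∨
    (∃ (v w : V) (μ : F), LinearIndependent F ![v, w] ∧ (∀ x : F, x ^ 2 + x + μ ≠ 0) ∧ Q v = 1 ∧
      Q w = μ ∧ polar Q v w = 1) := by
  have : FiniteDimensional F V := Module.finite_of_finrank_eq_succ h2
  have : Nontrivial V := Module.nontrivial_of_finrank_pos (R := F) (by omega)
  have hself : ∀ x : V, polar Q x x = 0 := fun x => by
    rw [polar_self', CharTwo.two_eq_zero, zero_mul]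
  have hli : ∀ v w : V, polar Q v w = 1 → LinearIndependent F ![v, w] := fun v w h => by
    rw [LinearIndependent.pair_iff]
    intro r s hrs
    have e1 := congrArg (polarBilin Q v) hrs
    have e2 := congrArg (polarBilin Q w) hrs
    simp [hself, h, QuadraticMap.polar_comm (⇑Q) w v] at e1 e2
    exact ⟨e2, e1⟩
  have hpartner : ∀ v : V, v ≠ 0 → ∃ w, polar Q v w = 1 := fun v hv => by
    obtain ⟨a, ha, -⟩ := Bilin.exists_sep hQ (U := ⊥) (x := v) (by simpa using hv)
    exact ⟨a, ha⟩
  by_cases hsing : ∃ v : V, v ≠ 0 ∧ Q v = 0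
  · obtain ⟨v, hv, hQv⟩ := hsing
    obtain ⟨a, ha⟩ := hpartner v hv
    left
    refine ⟨v, a + Q a • v, ?_, hQv, ?_, ?_⟩
    · exact hli _ _ (by rw [polar_add_right', polar_smul_right', ha, hself, mul_zero, add_zero])
    · rw [apply_add, apply_smul, polar_smul_right', hQv, QuadraticMap.polar_comm (⇑Q) a v, ha,
        mul_zero, mul_one, add_zero]
      exact CharTwo.add_self_eq_zero _
    · rw [polar_add_right', polar_smul_right', ha, hself, mul_zero, add_zero]
  · push Not at hsing
    obtain ⟨v₀, hv₀⟩ := exists_ne (0 : V)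
    obtain ⟨r, hr⟩ := isSquare_of_charTwo' (Q v₀)
    have hr0 : r ≠ 0 := by
      rintro rfl
      exact hsing v₀ hv₀ (by simpa using hr)
    obtain ⟨w, hw⟩ := hpartner (r⁻¹ • v₀) (smul_ne_zero (inv_ne_zero hr0) hv₀)
    have hv1 : Q (r⁻¹ • v₀) = 1 := by rw [apply_smul, hr]; field_simp
    right
    refine ⟨r⁻¹ • v₀, w, Q w, hli _ _ hw, fun x hx => ?_, hv1, rfl, hw⟩
    refine hsing (w + x • r⁻¹ • v₀) (fun h => ?_) ?_
    · have := LinearIndependent.pair_iff.1 (hli _ _ hw) x 1 (by rw [one_smul, add_comm]; exact h)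
      exact one_ne_zero this.2
    · rw [apply_add, apply_smul x, polar_smul_right', hv1, QuadraticMap.polar_comm (⇑Q) w, hw]
      linear_combination hx

theorem not_equiv_nonsquare (h2 : (2 : F) ≠ 0) (n : ℕ) (α : F) (hα : ¬ IsSquare α) :
    ¬ (QuadraticMap.weightedSumSquares F (fun _ : Fin (n + 1) => (1 : F))).Equivalent
      (QuadraticMap.weightedSumSquares F
        (fun i : Fin (n + 1) => if i = Fin.last n then α else (1 : F))) := by
  classical
  rintro ⟨e⟩
  set w₁ : Fin (n + 1) → F := fun _ => 1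
  set w₂ : Fin (n + 1) → F := fun i => if i = Fin.last n then α else 1 with hw₂
  have hgram : ∀ w : Fin (n + 1) → F,
      (LinearMap.BilinForm.toMatrix (Pi.basisFun F (Fin (n + 1)))
        (polarBilin (QuadraticMap.weightedSumSquares F w))).det = ∏ i, 2 * w i := by
    intro w
    rw [det_gram_diag]
    · refine Finset.prod_congr rfl fun i _ => ?_
      rw [QuadraticMap.polarBilin_apply_apply, polar_self', QuadraticMap.weightedSumSquares_apply,
        Finset.sum_eq_single i (fun j _ hj => by simp [hj]) (by simp)]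
      simp
    · intro i j hij
      simp only [QuadraticMap.polarBilin_apply_apply, polar, Pi.basisFun_apply,
        QuadraticMap.weightedSumSquares_apply, ← Finset.sum_sub_distrib]
      refine Finset.sum_eq_zero fun k _ => ?_
      by_cases hki : k = i
      · simp [hki, hij]
      · simp [hki]
  have hd := det_gram_of_isometry (Pi.basisFun F _) (Pi.basisFun F _)
    (polarBilin (QuadraticMap.weightedSumSquares F w₁))
    (polarBilin (QuadraticMap.weightedSumSquares F w₂)) e.toLinearEquiv fun u v => by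
      simp only [QuadraticMap.polarBilin_apply_apply, polar, ← map_add]
      exact congrArg₂ (· - ·) (congrArg₂ (· - ·) (e.map_app _) (e.map_app _)) (e.map_app _)
  rw [hgram, hgram, Finset.prod_mul_distrib, Finset.prod_mul_distrib,
    Finset.prod_eq_single (f := w₂) (Fin.last n) (fun i _ hi => by simp [hw₂, hi]) (by simp)] at hd
  generalize (LinearMap.toMatrix (Pi.basisFun F (Fin (n + 1))) (Pi.basisFun F (Fin (n + 1)))
    (e.toLinearEquiv : (Fin (n + 1) → F) →ₗ[F] Fin (n + 1) → F)).det = D at hd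
  simp [w₁, hw₂] at hd
  have hp : (2 : F) ^ (n + 1) ≠ 0 := pow_ne_zero _ h2
  have h1 : D ^ 2 * α = 1 := by
    apply mul_right_cancel₀ hp
    linear_combination -hd
  have hD : D ≠ 0 := by rintro rfl; simp at h1
  exact hα ⟨1 / D, by field_simp; linear_combination h1⟩

theorem isotropic_iff_mod_four [Fintype F] (h2 : (2 : F) ≠ 0) (α : F) (hα : ¬ IsSquare α) :
    ((∃ x y : F, (x ≠ 0 ∨ y ≠ 0) ∧ x ^ 2 + y ^ 2 = 0) ↔ Fintype.card F % 4 = 1) ∧
    ((∃ x y : F, (x ≠ 0 ∨ y ≠ 0) ∧ x ^ 2 + α * y ^ 2 = 0) ↔ Fintype.card F % 4 = 3) := by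
  have hF : ringChar F ≠ 2 := fun h => h2 (by
    have := ringChar.eq_iff.1 h
    exact CharTwo.two_eq_zero)
  have hodd := FiniteField.odd_card_of_char_ne_two hF
  have key : ∀ d : F, d ≠ 0 →
      ((∃ x y : F, (x ≠ 0 ∨ y ≠ 0) ∧ x ^ 2 + d * y ^ 2 = 0) ↔ IsSquare (-d)) := by
    intro d hd
    constructor
    · rintro ⟨x, y, hne, h⟩
      have hy : y ≠ 0 := by
        rintro rfl
        rcases hne with hx | hy
        · exact hx (pow_eq_zero_iff two_ne_zero |>.1 (by linear_combination h))
        · exact hy rfl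
      exact ⟨x / y, by field_simp; linear_combination -h⟩
    · rintro ⟨r, hr⟩
      exact ⟨r, 1, Or.inr one_ne_zero, by linear_combination -hr⟩
  have hα0 : α ≠ 0 := by rintro rfl; exact hα IsSquare.zero
  constructor
  · have h1 := key 1 one_ne_zero
    simp only [one_mul] at h1
    rw [h1, FiniteField.isSquare_neg_one_iff]
    omega
  · rw [key α hα0]
    constructor
    · intro hs
      by_contra h3
      refine hα ?_
      have h1 : IsSquare (-1 : F) := FiniteField.isSquare_neg_one_iff.2 h3
      simpa using h1.mul hs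
    · intro h3
      have h1 : ¬ IsSquare (-1 : F) := fun h => (FiniteField.isSquare_neg_one_iff.1 h) h3
      rw [FiniteField.isSquare_iff hF (neg_ne_zero.2 hα0), neg_eq_neg_one_mul, mul_pow]
      rcases FiniteField.pow_dichotomy hF hα0 with ha | ha
      · exact absurd ((FiniteField.isSquare_iff hF hα0).2 ha) hα
      rcases FiniteField.pow_dichotomy hF (neg_ne_zero.2 (one_ne_zero (α := F))) with hb | hb
      · exact absurd ((FiniteField.isSquare_iff hF (neg_ne_zero.2 one_ne_zero)).2 hb) h1
      rw [ha, hb, neg_one_mul, neg_neg]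

end CfsgLib.Classical.Quad
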