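import Cfsg.Agent.Lib.Classical.Quad.OmegaIndex

/-!
When `-1` lies in `Ω` of the plus and minus type forms.
-/

set_option autoImplicit false

namespace CfsgLib.Classical.Quad

variable {F : Type*} [Field F] [Fintype F]

theorem two_ne_zero_of_odd {q : ℕ} (hF : Fintype.card F = q) (hodd : Odd q) : (2 : F) ≠ 0 :=
  fun h => by
    have : CharP F 2 := CharTwo.of_one_ne_zero_of_two_eq_zero one_ne_zero h
    have h1 := FiniteField.even_card_of_char_two (F := F) (ringChar.eq_iff.2 this)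
    rw [hF] at h1
    exact (Nat.not_even_iff_odd.2 hodd) (Nat.even_iff.2 h1)

theorem isSquare_neg_one_pow {q : ℕ} (hF : Fintype.card F = q) (hodd : Odd q) (m : ℕ) :
    IsSquare ((-1 : F) ^ m) ↔ q ^ m % 4 = 1 := by
  have hq : q % 4 = 1 ∨ q % 4 = 3 := by obtain ⟨k, rfl⟩ := hodd; omega
  rcases Nat.even_or_odd m with ⟨k, rfl⟩ | ⟨k, rfl⟩
  · simp only [Even.neg_one_pow (Even.add_self k), IsSquare.one, true_iff]
    rw [← two_mul, pow_mul, Nat.pow_mod, Nat.pow_mod q 2 4]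
    rcases hq with h | h <;> simp [h]
  · rw [Odd.neg_one_pow ⟨k, rfl⟩, FiniteField.isSquare_neg_one_iff, hF, pow_succ, pow_mul,
      Nat.mul_mod, Nat.pow_mod, Nat.pow_mod q 2 4]
    rcases hq with h | h <;> simp [h]

theorem isSquare_mul_iff_not (h2 : (2 : F) ≠ 0) {x d : F} (hx : x ≠ 0) (hd : ¬ IsSquare d) :
    IsSquare (x * d) ↔ ¬ IsSquare x := by
  have hd0 : d ≠ 0 := by rintro rfl; exact hd IsSquare.zero
  constructor
  · rintro ⟨r, hr⟩ ⟨s, rfl⟩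
    have hs : s ≠ 0 := left_ne_zero_of_mul hx
    exact hd ⟨r / s, by field_simp; linear_combination hr⟩
  · intro hxn
    obtain ⟨c, hc, h | h⟩ := exists_square_class h2 hd0 hxn
    · exact absurd ⟨c⁻¹, by field_simp; linear_combination h⟩ hd
    · rw [← h]
      exact ⟨c * d, by ring⟩

theorem neg_one_mem_plus_iff {q : ℕ} (hF : Fintype.card F = q) (hodd : Odd q) (m : ℕ)
    (hm : 1 ≤ m) :
    (∃ g : ↥(Cfsg.isometryGroup F (Cfsg.quadFormPlus m F)),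
      g ∈ Cfsg.Omega F (Cfsg.quadFormPlus m F) ∧
      ((g : Matrix.GeneralLinearGroup (Fin m ⊕ Fin m) F) :
        Matrix (Fin m ⊕ Fin m) (Fin m ⊕ Fin m) F) = -1) ↔ q ^ m % 4 = 1 := by
  rw [← isSquare_neg_one_pow hF hodd m, ← det_gram_qPlus (F := F) m, ← coe_qPlus m F]
  exact neg_one_mem_Omega_iff (qPlus_nondeg m) (two_ne_zero_of_odd hF hodd) (by simp; omega)
    ⟨m, by simp⟩

theorem neg_one_mem_minus_iff {q : ℕ} (hF : Fintype.card F = q) (hodd : Odd q) (k : ℕ) (a b : F)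
    (hab : ∀ z₁ z₂ : F, z₁ ^ 2 + a * z₁ * z₂ + b * z₂ ^ 2 = 0 → z₁ = 0 ∧ z₂ = 0) :
    (∃ g : ↥(Cfsg.isometryGroup F (Cfsg.quadFormMinus k F a b)),
      g ∈ Cfsg.Omega F (Cfsg.quadFormMinus k F a b) ∧
      ((g : Matrix.GeneralLinearGroup ((Fin k ⊕ Fin k) ⊕ Fin 2) F) :
        Matrix ((Fin k ⊕ Fin k) ⊕ Fin 2) ((Fin k ⊕ Fin k) ⊕ Fin 2) F) = -1) ↔
      q ^ (k + 1) % 4 = 3 := by
  have h2 := two_ne_zero_of_odd hF hodd
  have hd : ¬ IsSquare (a ^ 2 - 4 * b) := by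
    rintro ⟨r, hr⟩
    have h3 := hab (r - a) 2 (by linear_combination -hr)
    exact h2 h3.2
  rw [← coe_qMinus k F a b]
  refine (neg_one_mem_Omega_iff (qMinus_nondeg hab k) h2 (by simp)
    ⟨k + 1, by simp; ring⟩).trans ?_
  rw [det_gram_qMinus, show (-1 : F) ^ k * (4 * b - a ^ 2) = (-1) ^ (k + 1) * (a ^ 2 - 4 * b) by ring,
    isSquare_mul_iff_not h2 (pow_ne_zero _ (by simp)) hd, isSquare_neg_one_pow hF hodd]
  have : q ^ (k + 1) % 2 = 1 := Nat.odd_iff.1 (hodd.pow)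
  omega

end CfsgLib.Classical.Quad
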