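import Cfsg.Agent.Lib.Classical.Quad.OmegaStructure
import Cfsg.Agent.Lib.Classical.Quad.NegOne

/-!
Orders and simplicity of the groups `PΩ` of the standard forms.
-/

set_option autoImplicit false

namespace CfsgLib.Classical.Quad

open QuadraticMap (polar polarBilin)

variable {F : Type*} [Field F] {ι : Type} [Fintype ι] [DecidableEq ι] {Q : QuadraticForm F (ι → F)}

/-- `Ω` in the matrix and in the linear description. -/
noncomputable def omegaEquiv (Q : QuadraticForm F (ι → F)) :
    Cfsg.Omega F (⇑Q) ≃* commutator (OQ Q) :=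
  ((oEquiv Q).subgroupMap _).trans (MulEquiv.subgroupCongr (by
    show (commutator ↥(Cfsg.isometryGroup F (⇑Q))).map (oEquiv Q).toMonoidHom = _
    rw [commutator_def, commutator_def, Subgroup.map_commutator,
      Subgroup.map_top_of_surjective _ (oEquiv Q).surjective]))

theorem map_center_eq {G H : Type*} [Group G] [Group H] (e : G ≃* H) :
    (Subgroup.center G).map e.toMonoidHom = Subgroup.center H := by
  ext x
  rw [Subgroup.mem_map_equiv, Subgroup.mem_center_iff, Subgroup.mem_center_iff]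
  constructor
  · intro h y
    apply e.symm.injective
    rw [map_mul, map_mul, h]
  · intro h y
    apply e.injective
    rw [map_mul, map_mul, e.apply_symm_apply, h]

/-- `PΩ` in the matrix and in the linear description. -/
noncomputable def pOmegaEquiv (Q : QuadraticForm F (ι → F)) :
    Cfsg.POmega F (⇑Q) ≃* commutator (OQ Q) ⧸ Subgroup.center (commutator (OQ Q)) :=
  QuotientGroup.congr _ _ (omegaEquiv Q) (map_center_eq _)

theorem isSimpleGroup_POmega [Finite F] (hQ : (polarBilin Q).Nondegenerate)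
    (hn : 7 ≤ Fintype.card ι) : IsSimpleGroup (Cfsg.POmega F (⇑Q)) := by
  have := isSimpleGroup_Omega_quotient hQ (by rwa [Module.finrank_pi])
  exact MulEquiv.isSimpleGroup (pOmegaEquiv Q)

theorem negIsom_mem_iff [Finite F] (hQ : (polarBilin Q).Nondegenerate) :
    negIsom hQ ∈ commutator (OQ Q) ↔
      ∃ g : ↥(Cfsg.isometryGroup F (⇑Q)), g ∈ Cfsg.Omega F (⇑Q) ∧
        ((g : Matrix.GeneralLinearGroup ι F) : Matrix ι ι F) = -1 := by
  have hmap : (commutator ↥(Cfsg.isometryGroup F (⇑Q))).map (oEquiv Q).toMonoidHom =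
      commutator (OQ Q) := by
    rw [commutator_def, commutator_def, Subgroup.map_commutator,
      Subgroup.map_top_of_surjective _ (oEquiv Q).surjective]
  rw [← hmap, Subgroup.mem_map_equiv]
  constructor
  · intro h
    refine ⟨_, h, Matrix.toLin'.injective (LinearMap.ext fun z => ?_)⟩
    rw [Matrix.toLin'_apply, Matrix.toLin'_apply, ← oEquiv_apply, MulEquiv.apply_symm_apply,
      Matrix.neg_mulVec, Matrix.one_mulVec, negIsom_apply]
  · rintro ⟨g, hg, hval⟩
    have : (oEquiv Q).symm (negIsom hQ) = g := by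
      refine (oEquiv Q).injective ?_
      rw [MulEquiv.apply_symm_apply]
      refine Subtype.ext (LinearEquiv.ext fun z => ?_)
      rw [negIsom_apply, oEquiv_apply, hval, Matrix.neg_mulVec, Matrix.one_mulVec]
    rwa [this]

theorem two_card_POmega [Finite F] (hQ : (polarBilin Q).Nondegenerate) (hn : 7 ≤ Fintype.card ι)
    (P : Prop) [Decidable P]
    (hP : P ↔ (∃ g : ↥(Cfsg.isometryGroup F (⇑Q)), g ∈ Cfsg.Omega F (⇑Q) ∧
      ((g : Matrix.GeneralLinearGroup ι F) : Matrix ι ι F) = -1) ∧ (2 : F) ≠ 0) :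
    2 * (Nat.card (SqClass F) * (if P then 2 else 1) * Nat.card (Cfsg.POmega F (⇑Q))) =
      Nat.card (OQ Q) := by
  have h5 : 5 ≤ Module.finrank F (ι → F) := by rw [Module.finrank_pi]; omega
  have hR : reflGroup Q = ⊤ := reflGroup_eq_top hQ (Or.inr (by omega))
  have h1 := Subgroup.card_mul_index (commutator (OQ Q))
  rw [index_commutator_OQ hQ hR (by omega),
    Subgroup.card_eq_card_quotient_mul_card_subgroup
      (Subgroup.center (commutator (OQ Q)))] at h1
  rw [← card_center_Omega hQ h5 P (by rw [negIsom_mem_iff hQ]; exact hP),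
    Nat.card_congr (pOmegaEquiv Q).toEquiv, ← h1]
  ring

theorem card_POmega_odd [Fintype F] {q : ℕ} (hF : Fintype.card F = q) (hodd : Odd q) (m : ℕ)
    (hm : 3 ≤ m) :
    2 * Nat.card (Cfsg.POmega F (Cfsg.quadFormOdd m F)) =
      q ^ (m ^ 2) * ∏ i ∈ Finset.range m, (q ^ (2 * (i + 1)) - 1) := by
  classical
  have h2 := two_ne_zero_of_odd hF hodd
  have hQ := qOdd_nondeg (F := F) h2 m
  have hex := hex_of_two_ne_zero h2 (n := Fintype.card (Unit ⊕ (Fin m ⊕ Fin m)))
  have hno : ¬ ∃ g : ↥(Cfsg.isometryGroup F (⇑(qOdd m F))), g ∈ Cfsg.Omega F (⇑(qOdd m F)) ∧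
      ((g : Matrix.GeneralLinearGroup (Unit ⊕ (Fin m ⊕ Fin m)) F) :
        Matrix (Unit ⊕ (Fin m ⊕ Fin m)) (Unit ⊕ (Fin m ⊕ Fin m)) F) = -1 := by
    rintro ⟨g, hg, hval⟩
    have hle := Omega_le_squares hQ hex hg
    have hdet : g ∈ Cfsg.specialIsometryGroup F (⇑(qOdd m F)) :=
      (Subgroup.closure_le _).2 (by rintro _ ⟨x, hx, rfl⟩; exact mul_mem hx hx) hle
    have h3 := congrArg (fun u : Fˣ => (u : F)) (show Matrix.GeneralLinearGroup.det
      (g : Matrix.GeneralLinearGroup (Unit ⊕ (Fin m ⊕ Fin m)) F) = 1 from hdet)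
    simp only [Matrix.GeneralLinearGroup.val_det_apply, hval, Matrix.det_neg, Matrix.det_one,
      Units.val_one, Fintype.card_sum, Fintype.card_unit, Fintype.card_fin, mul_one] at h3
    rw [Odd.neg_one_pow ⟨m, by ring⟩] at h3
    exact h2 (by linear_combination -h3)
  have h := two_card_POmega hQ (by simp; omega) False
    ⟨False.elim, fun h => hno h.1⟩
  rw [card_sqClass_of_odd h2, if_neg not_false, card_OQ_qOdd hF h2 m, coe_qOdd] at h
  linarith

theorem card_POmega_plus [Fintype F] {q : ℕ} (hF : Fintype.card F = q) (m : ℕ) (hm : 4 ≤ m) :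
    Nat.gcd 4 (q ^ m - 1) * Nat.card (Cfsg.POmega F (Cfsg.quadFormPlus m F)) =
      q ^ (m * (m - 1)) * (q ^ m - 1) * ∏ i ∈ Finset.range (m - 1), (q ^ (2 * (i + 1)) - 1) := by
  classical
  have hQ := qPlus_nondeg (F := F) m
  obtain ⟨k, rfl⟩ : ∃ k, m = k + 1 := ⟨m - 1, by omega⟩
  simp only [Nat.add_sub_cancel]
  have hpos : 1 ≤ q ^ (k + 1) := Nat.one_le_pow _ _ (hF ▸ Fintype.card_pos)
  have hc := card_OQ_qPlus hF k
  rcases Nat.even_or_odd q with hev | hodd
  · have h2 : (2 : F) = 0 := by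
      by_contra h2
      have h1 := FiniteField.odd_card_of_char_ne_two (F := F) fun h => h2 (by
        have := ringChar.eq_iff.1 h
        exact CharTwo.two_eq_zero)
      rw [hF] at h1
      rw [Nat.even_iff] at hev
      omega
    have h := two_card_POmega hQ (by simp; omega) False ⟨False.elim, fun h => h.2 h2⟩
    rw [card_sqClass_of_two_eq_zero h2, if_neg not_false, hc, coe_qPlus] at h
    have hg : Nat.gcd 4 (q ^ (k + 1) - 1) = 1 := by
      have he : Even (q ^ (k + 1)) := hev.pow_of_ne_zero (by omega)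
      rw [Nat.gcd_rec, Nat.gcd_comm]
      have h4 : (q ^ (k + 1) - 1) % 4 = 1 ∨ (q ^ (k + 1) - 1) % 4 = 3 := by
        rw [Nat.even_iff] at he; omega
      rcases h4 with h4 | h4 <;> rw [h4] <;> rfl
    rw [hg]
    linarith
  · have h2 := two_ne_zero_of_odd hF hodd
    have h := two_card_POmega hQ (by simp; omega) (q ^ (k + 1) % 4 = 1) (by
      rw [coe_qPlus, neg_one_mem_plus_iff hF hodd (k + 1) (by omega)]
      exact ⟨fun h => ⟨h, h2⟩, fun h => h.1⟩)
    rw [card_sqClass_of_odd h2, hc, coe_qPlus] at h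
    have hodd' : q ^ (k + 1) % 2 = 1 := Nat.odd_iff.1 hodd.pow
    split_ifs at h with hP
    · have hg : Nat.gcd 4 (q ^ (k + 1) - 1) = 4 :=
        Nat.gcd_eq_left (by omega)
      rw [hg]
      linarith
    · have hg : Nat.gcd 4 (q ^ (k + 1) - 1) = 2 := by
        rw [Nat.gcd_rec, Nat.gcd_comm, show (q ^ (k + 1) - 1) % 4 = 2 by omega]
        rfl
      rw [hg]
      linarith

theorem card_POmega_minus [Fintype F] {q : ℕ} (hF : Fintype.card F = q) (k : ℕ) (hk : 3 ≤ k)
    (a b : F) (hab : ∀ z₁ z₂ : F, z₁ ^ 2 + a * z₁ * z₂ + b * z₂ ^ 2 = 0 → z₁ = 0 ∧ z₂ = 0) :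
    Nat.gcd 4 (q ^ (k + 1) + 1) * Nat.card (Cfsg.POmega F (Cfsg.quadFormMinus k F a b)) =
      q ^ ((k + 1) * k) * (q ^ (k + 1) + 1) * ∏ i ∈ Finset.range k, (q ^ (2 * (i + 1)) - 1) := by
  classical
  have hQ := qMinus_nondeg hab k
  have hc := card_OQ_qMinus hF k hab
  rcases Nat.even_or_odd q with hev | hodd
  · have h2 : (2 : F) = 0 := by
      by_contra h2
      have h1 := FiniteField.odd_card_of_char_ne_two (F := F) fun h => h2 (by
        have := ringChar.eq_iff.1 h
        exact CharTwo.two_eq_zero)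
      rw [hF] at h1
      rw [Nat.even_iff] at hev
      omega
    have h := two_card_POmega hQ (by simp; omega) False ⟨False.elim, fun h => h.2 h2⟩
    rw [card_sqClass_of_two_eq_zero h2, if_neg not_false, hc, coe_qMinus] at h
    have hg : Nat.gcd 4 (q ^ (k + 1) + 1) = 1 := by
      have he : Even (q ^ (k + 1)) := hev.pow_of_ne_zero (by omega)
      rw [Nat.gcd_rec, Nat.gcd_comm]
      have h4 : (q ^ (k + 1) + 1) % 4 = 1 ∨ (q ^ (k + 1) + 1) % 4 = 3 := by
        rw [Nat.even_iff] at he; omega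
      rcases h4 with h4 | h4 <;> rw [h4] <;> rfl
    rw [hg]
    linarith
  · have h2 := two_ne_zero_of_odd hF hodd
    have h := two_card_POmega hQ (by simp; omega) (q ^ (k + 1) % 4 = 3) (by
      rw [coe_qMinus, neg_one_mem_minus_iff hF hodd k a b hab]
      exact ⟨fun h => ⟨h, h2⟩, fun h => h.1⟩)
    rw [card_sqClass_of_odd h2, hc, coe_qMinus] at h
    have hodd' : q ^ (k + 1) % 2 = 1 := Nat.odd_iff.1 hodd.pow
    split_ifs at h with hP
    · have hg : Nat.gcd 4 (q ^ (k + 1) + 1) = 4 := Nat.gcd_eq_left (by omega)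
      rw [hg]
      linarith
    · have hg : Nat.gcd 4 (q ^ (k + 1) + 1) = 2 := by
        rw [Nat.gcd_rec, Nat.gcd_comm, show (q ^ (k + 1) + 1) % 4 = 2 by omega]
        rfl
      rw [hg]
      linarith

end CfsgLib.Classical.Quad
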