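import Cfsg.Agent.Lib.Classical.Quad.CommutatorIndex

/-!
Eichler transformations: the group they generate is the commutator subgroup of the isometry group
in dimension at least five over a finite field, and is transitive on singular vectors and on
hyperbolic pairs.
-/

set_option autoImplicit false

namespace CfsgLib.Classical.Quad

open QuadraticMap (polar polarBilin)
open scoped commutatorElement

/-- A normal subgroup modulo which a generating set commutes contains the commutator subgroup. -/
theorem commutator_le_of_generators_commute {G : Type*} [Group G] (S : Subgroup G) [S.Normal]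
    (R : Set G) (hR : Subgroup.closure R = ⊤)
    (h : ∀ r ∈ R, ∀ r' ∈ R, (r : G ⧸ S) * r' = (r' : G ⧸ S) * r) : commutator G ≤ S := by
  let π := QuotientGroup.mk' S
  rw [commutator_def, Subgroup.commutator_le]
  rintro x - y -
  have h3 : ∀ a, ∀ r ∈ R, π a * π r = π r * π a := by
    intro a r hr
    have hle : Subgroup.closure R ≤ (Subgroup.centralizer {π r}).comap π :=
      (Subgroup.closure_le _).2 fun r' hr' =>
        Subgroup.mem_centralizer_iff.2 fun z hz => by
          rw [Set.mem_singleton_iff.1 hz]; exact h r hr r' hr'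
    exact (Subgroup.mem_centralizer_iff.1 (hle (hR ▸ Subgroup.mem_top a)) (π r) rfl).symm
  have hle : Subgroup.closure R ≤ (Subgroup.centralizer {π x}).comap π :=
    (Subgroup.closure_le _).2 fun r hr => Subgroup.mem_centralizer_iff.2 fun z hz => by
      rw [Set.mem_singleton_iff.1 hz]; exact h3 x r hr
  have h4 : π x * π y = π y * π x :=
    Subgroup.mem_centralizer_iff.1 (hle (hR ▸ Subgroup.mem_top y)) (π x) rfl
  rw [← QuotientGroup.eq_one_iff]
  show π ⁅x, y⁆ = 1
  rw [map_commutatorElement, commutatorElement_eq_one_iff_mul_comm, h4]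

variable {F : Type*} [Field F] {V : Type*} [AddCommGroup V] [Module F V] [FiniteDimensional F V]
  {Q : QuadraticForm F V} (hQ : (polarBilin Q).Nondegenerate)
include hQ

/-- The Eichler transformation of a singular `w` and `a ⊥ w`. -/
noncomputable def eich {w a : V} (hw : Q w = 0) (ha : polar Q w a = 0) : OQ Q :=
  ofPreserves hQ (twoMap ((polarBilin Q).flip a - Q a • (polarBilin Q).flip w)
    (-(polarBilin Q).flip w) w a) fun z => by
    simp only [twoMap_apply, LinearMap.sub_apply, LinearMap.neg_apply, LinearMap.smul_apply,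
      LinearMap.flip_apply, QuadraticMap.polarBilin_apply_apply, smul_eq_mul, apply_add,
      apply_smul, polar_add_left', polar_smul_left', polar_smul_right', hw, ha]
    ring

theorem eich_apply {w a : V} (hw : Q w = 0) (ha : polar Q w a = 0) (z : V) :
    (eich hQ hw ha : V ≃ₗ[F] V) z =
      z + (polar Q z a - Q a * polar Q z w) • w + (-polar Q z w) • a := by
  simp [eich, twoMap_apply]

theorem eich_congr {w w' a a' : V} {hw : Q w = 0} {ha : polar Q w a = 0} (h₁ : w = w')
    (h₂ : a = a') :
    eich hQ hw ha = eich hQ (w := w') (a := a') (h₁ ▸ hw) (h₂ ▸ h₁ ▸ ha) := by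
  subst h₁ h₂
  rfl

theorem eich_mul {w a b : V} (hw : Q w = 0) (ha : polar Q w a = 0) (hb : polar Q w b = 0) :
    eich hQ hw ha * eich hQ hw hb =
      eich hQ hw (a := a + b) (by rw [polar_add_right', ha, hb, add_zero]) := by
  refine Subtype.ext (LinearEquiv.ext fun z => ?_)
  show (eich hQ hw ha : V ≃ₗ[F] V) ((eich hQ hw hb : V ≃ₗ[F] V) z) = _
  simp only [eich_apply, apply_add, polar_add_right', polar_add_left', polar_smul_left',
    polar_self', hw, ha, QuadraticMap.polar_comm (⇑Q) b w, hb, QuadraticMap.polar_comm (⇑Q) b a]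
  match_scalars <;> ring

theorem eich_zero_right {w : V} (hw : Q w = 0) :
    eich hQ hw (a := 0) (QuadraticMap.polar_zero_right _ _) = 1 := by
  refine Subtype.ext (LinearEquiv.ext fun z => ?_)
  simp [eich_apply]

theorem eich_zero_left {a : V} :
    eich hQ (w := 0) (a := a) (QuadraticMap.map_zero _) (QuadraticMap.polar_zero_left _ _) = 1 := by
  refine Subtype.ext (LinearEquiv.ext fun z => ?_)
  simp [eich_apply]

theorem eich_inv {w a : V} (hw : Q w = 0) (ha : polar Q w a = 0) :
    (eich hQ hw ha)⁻¹ = eich hQ hw (a := -a) (by rw [QuadraticMap.polar_neg_right, ha, neg_zero]) := by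
  refine inv_eq_of_mul_eq_one_right ?_
  rw [eich_mul, eich_congr hQ rfl (add_neg_cancel a), eich_zero_right]

theorem eich_add_smul {w a : V} (hw : Q w = 0) (ha : polar Q w a = 0) (c : F) :
    eich hQ hw (a := a + c • w) (by rw [polar_add_right', polar_smul_right', ha, polar_self', hw,
      mul_zero, mul_zero, add_zero]) = eich hQ hw ha := by
  refine Subtype.ext (LinearEquiv.ext fun z => ?_)
  simp only [eich_apply, apply_add, apply_smul, polar_add_right', polar_smul_right', hw,
    QuadraticMap.polar_comm (⇑Q) a w, ha]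
  match_scalars <;> ring

theorem eich_smul_left {w a : V} (hw : Q w = 0) (ha : polar Q w a = 0) (c : F) :
    eich hQ (w := c • w) (a := a) (by rw [apply_smul, hw, mul_zero])
        (by rw [polar_smul_left', ha, mul_zero]) =
      eich hQ hw (a := c • a) (by rw [polar_smul_right', ha, mul_zero]) := by
  refine Subtype.ext (LinearEquiv.ext fun z => ?_)
  simp only [eich_apply, apply_smul, polar_smul_right']
  match_scalars <;> ring

theorem eich_swap {w a : V} (hw : Q w = 0) (ha : polar Q w a = 0) (hqa : Q a = 0) :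
    eich hQ hw ha = eich hQ (w := a) (a := -w) hqa
      (by rw [QuadraticMap.polar_neg_right, QuadraticMap.polar_comm, ha, neg_zero]) := by
  refine Subtype.ext (LinearEquiv.ext fun z => ?_)
  simp only [eich_apply, hqa, QuadraticMap.map_neg, hw, QuadraticMap.polar_neg_right]
  module

theorem eich_conj (g : OQ Q) {w a : V} (hw : Q w = 0) (ha : polar Q w a = 0) :
    g * eich hQ hw ha * g⁻¹ = eich hQ (w := (g : V ≃ₗ[F] V) w) (a := (g : V ≃ₗ[F] V) a)
      (by rw [OQ.map_apply, hw]) (by rw [OQ.map_polar, ha]) := by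
  refine Subtype.ext (LinearEquiv.ext fun z => ?_)
  show (g : V ≃ₗ[F] V) ((eich hQ hw ha : V ≃ₗ[F] V) ((g : V ≃ₗ[F] V).symm z)) = _
  obtain ⟨y, rfl⟩ := (g : V ≃ₗ[F] V).surjective z
  rw [LinearEquiv.symm_apply_apply, eich_apply, eich_apply, map_add, map_add, map_smul, map_smul,
    OQ.map_polar, OQ.map_polar, OQ.map_apply]

theorem eich_eq_refl_mul {w a : V} (hw : Q w = 0) (ha : polar Q w a = 0) (hqa : Q a ≠ 0) :
    ∃ hb : Q (a + (-Q a) • w) ≠ 0, Q (a + (-Q a) • w) = Q a ∧
      eich hQ hw ha = refl hqa * refl hb := by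
  have ha' : polar Q a w = 0 := by rw [QuadraticMap.polar_comm]; exact ha
  have hb : Q (a + (-Q a) • w) = Q a := by
    rw [apply_add, apply_smul, polar_smul_right', ha', hw]; ring
  have hb' : Q (a + (-Q a) • w) ≠ 0 := by rw [hb]; exact hqa
  refine ⟨hb', hb, Subtype.ext (LinearEquiv.ext fun z => ?_)⟩
  rw [refl_mul_refl_apply, refl_apply hb', refl_apply hqa, eich_apply, hb]
  simp only [polar_add_right', polar_smul_right', QuadraticMap.polar_sub_left, polar_smul_left',
    polar_add_left', polar_self', ha, QuadraticMap.polar_comm (⇑Q) w a, ha']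
  match_scalars <;> field_simp <;> ring

/-- The subgroup generated by the Eichler transformations of pairs of singular vectors. -/
def eichGroup : Subgroup (OQ Q) :=
  Subgroup.closure {g | ∃ (w a : V) (hw : Q w = 0) (ha : polar Q w a = 0),
    Q a = 0 ∧ g = eich hQ hw ha}

theorem eich_mem_of_singular {w a : V} (hw : Q w = 0) (ha : polar Q w a = 0) (hqa : Q a = 0) :
    eich hQ hw ha ∈ eichGroup hQ :=
  Subgroup.subset_closure ⟨w, a, hw, ha, hqa, rfl⟩

instance eichGroup_normal : (eichGroup hQ).Normal := by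
  refine ⟨fun n hn g => ?_⟩
  have hle : eichGroup hQ ≤ (eichGroup hQ).comap (MulAut.conj g).toMonoidHom := by
    refine (Subgroup.closure_le _).2 ?_
    rintro _ ⟨w, a, hw, ha, hqa, rfl⟩
    show g * eich hQ hw ha * g⁻¹ ∈ eichGroup hQ
    rw [eich_conj]
    exact eich_mem_of_singular hQ _ _ (by rw [OQ.map_apply, hqa])
  exact hle hn

theorem exists_polar_one {u w : V} (h : LinearIndependent F ![u, w]) :
    ∃ a, polar Q u a = 1 ∧ polar Q w a = 1 := by
  have hu : u ∉ Submodule.span F {w} := fun hc => by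
    obtain ⟨c, hc⟩ := Submodule.mem_span_singleton.1 hc
    exact one_ne_zero (LinearIndependent.pair_iff.1 h 1 (-c) (by rw [one_smul, ← hc]; module)).1
  have hw : w ∉ Submodule.span F {u} := fun hc => by
    obtain ⟨c, hc⟩ := Submodule.mem_span_singleton.1 hc
    exact one_ne_zero (LinearIndependent.pair_iff.1 h (-c) 1 (by rw [one_smul, ← hc]; module)).2
  obtain ⟨a, h1, h2⟩ := exists_sep_polar hQ hu
  obtain ⟨b, h3, h4⟩ := exists_sep_polar hQ hw
  exact ⟨a + b, by rw [polar_add_right', h1, h4 u (Submodule.mem_span_singleton_self u), add_zero],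
    by rw [polar_add_right', h3, h2 w (Submodule.mem_span_singleton_self w), zero_add]⟩

variable [Finite F]

theorem eich_mem (hn : 5 ≤ Module.finrank F V) {w a : V} (hw : Q w = 0) (ha : polar Q w a = 0) :
    eich hQ hw ha ∈ eichGroup hQ := by
  by_cases hw0 : w = 0
  · subst hw0
    rw [eich_zero_left]
    exact one_mem _
  obtain ⟨x, -, hx, hxw, k, hkw, hxk⟩ := exists_singular_perp hQ (Submodule.span F {w})
    (by rw [finrank_span_singleton hw0]; omega)
  have hwx := hxw w (Submodule.mem_span_singleton_self w)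
  have hwk := hkw w (Submodule.mem_span_singleton_self w)
  set y := k + (-Q k) • x with hy
  have hqy : Q y = 0 := by
    rw [hy, apply_add, apply_smul, polar_smul_right', QuadraticMap.polar_comm (⇑Q) k x, hxk, hx]
    ring
  have hwy : polar Q w y = 0 := by rw [hy, polar_add_right', polar_smul_right', hwk, hwx]; ring
  have hxy : polar Q x y = 1 := by
    rw [hy, polar_add_right', polar_smul_right', hxk, polar_self', hx]; ring
  set r := a + (-polar Q a y) • x + (-polar Q a x) • y with hr
  have hwr : polar Q w r = 0 := by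
    simp only [hr, polar_add_right', polar_smul_right', ha, hwx, hwy]; ring
  have hrx : polar Q r x = 0 := by
    simp only [hr, polar_add_left', polar_smul_left', polar_self', hx,
      QuadraticMap.polar_comm (⇑Q) y x, hxy]
    ring
  have hry : polar Q r y = 0 := by
    simp only [hr, polar_add_left', polar_smul_left', polar_self', hqy, hxy]
    ring
  set s := r + (y + (-Q r) • x) with hs
  have hqs : Q s = 0 := by
    simp only [hs, apply_add, apply_smul, polar_add_right', polar_smul_right', hqy, hx,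
      QuadraticMap.polar_comm (⇑Q) y x, hxy, hry, hrx]
    ring
  have hws : polar Q w s = 0 := by
    simp only [hs, polar_add_right', polar_smul_right', hwr, hwy, hwx]; ring
  have hsum : a = (polar Q a y + Q r) • x + (polar Q a x - 1) • y + s := by
    rw [hs, hr]; module
  have h1 : polar Q w ((polar Q a y + Q r) • x) = 0 := by rw [polar_smul_right', hwx, mul_zero]
  have h2 : polar Q w ((polar Q a x - 1) • y) = 0 := by rw [polar_smul_right', hwy, mul_zero]
  have e : eich hQ hw ha = eich hQ hw h1 * eich hQ hw h2 * eich hQ hw hws := by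
    rw [eich_mul, eich_mul]
    exact eich_congr hQ rfl hsum
  rw [e]
  exact mul_mem (mul_mem (eich_mem_of_singular hQ _ _ (by rw [apply_smul, hx, mul_zero]))
    (eich_mem_of_singular hQ _ _ (by rw [apply_smul, hqy, mul_zero])))
    (eich_mem_of_singular hQ _ _ hqs)

theorem eich_mem_commutator (hn : 5 ≤ Module.finrank F V) {w a : V} (hw : Q w = 0)
    (ha : polar Q w a = 0) : eich hQ hw ha ∈ commutator (OQ Q) := by
  have hR : reflGroup Q = ⊤ := reflGroup_eq_top hQ (Or.inr (by omega))
  rw [← ker_invHom_eq_commutator hQ hR (by omega)]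
  have key : ∀ {w b : V} (hw : Q w = 0) (hb : polar Q w b = 0), Q b ≠ 0 →
      eich hQ hw hb ∈ (invHom hQ hR).ker := by
    intro w b hw hb hqb
    obtain ⟨hb', e, h⟩ := eich_eq_refl_mul hQ hw hb hqb
    rw [MonoidHom.mem_ker, h, map_mul, invHom_refl, invHom_refl, e, Prod.mk_mul_mk,
      sqClass_mul_self, ← ofAdd_add, show (1 : ZMod 2) + 1 = 0 from by decide, ofAdd_zero,
      Prod.one_eq_mk]
  by_cases hqa : Q a = 0
  swap
  · exact key hw ha hqa
  have hP : Module.finrank F (Submodule.span F (Set.range ![w, a])) ≤ 2 :=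
    (finrank_range_le_card _).trans (by simp)
  obtain ⟨b, hqb, hb⟩ := exists_nonsingular_perp hQ (Submodule.span F (Set.range ![w, a])) (by omega)
  have hwb := hb w (Submodule.subset_span ⟨0, rfl⟩)
  have hab := hb a (Submodule.subset_span ⟨1, rfl⟩)
  have hwab : polar Q w (a - b) = 0 := by rw [QuadraticMap.polar_sub_right, ha, hwb, sub_zero]
  have hq : Q (a - b) ≠ 0 := by
    rw [sub_eq_add_neg, apply_add, QuadraticMap.map_neg, QuadraticMap.polar_neg_right, hqa, hab]
    simpa using hqb
  have e : eich hQ hw ha = eich hQ hw hwb * eich hQ hw hwab := by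
    rw [eich_mul]
    exact eich_congr hQ rfl (by abel)
  rw [e]
  exact mul_mem (key hw hwb hqb) (key hw hwab hq)

theorem exists_move_partner (hn : 5 ≤ Module.finrank F V) {z y y' : V} (hz : Q z = 0)
    (hy : Q y = 0) (hy' : Q y' = 0) (hzy : polar Q z y = 1) (hzy' : polar Q z y' = 1) :
    ∃ s ∈ eichGroup hQ, (s : V ≃ₗ[F] V) y = y' ∧ (s : V ≃ₗ[F] V) z = z ∧
      ∀ x, polar Q x z = 0 → polar Q x y = polar Q x y' → (s : V ≃ₗ[F] V) x = x := by
  have ha : polar Q z (y - y') = 0 := by
    rw [QuadraticMap.polar_sub_right, hzy, hzy', sub_self]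
  refine ⟨eich hQ hz ha, eich_mem hQ hn hz ha, ?_, ?_, fun x hxz hxy => ?_⟩
  · have hq : Q (y - y') = -polar Q y y' := by
      rw [sub_eq_add_neg, apply_add, QuadraticMap.map_neg, QuadraticMap.polar_neg_right, hy, hy']
      ring
    rw [eich_apply, hq, QuadraticMap.polar_sub_right, polar_self', hy,
      QuadraticMap.polar_comm (⇑Q) y z, hzy]
    module
  · rw [eich_apply, ha, polar_self', hz]
    module
  · rw [eich_apply, hxz, QuadraticMap.polar_sub_right, hxy]
    module

/-- Orthogonal complements of non-degenerate subspaces. -/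
theorem exists_apply_eq_perp_nondeg {P : Submodule F V}
    (hP : ∀ x ∈ P, (∀ y ∈ P, polar Q x y = 0) → x = 0)
    (hn : Module.finrank F P + 2 ≤ Module.finrank F V) {c : F} (hc : c ≠ 0) :
    ∃ v, Q v = c ∧ ∀ u ∈ P, polar Q u v = 0 := by
  set K := LinearMap.BilinForm.orthogonal (polarBilin Q) P with hK
  have hp : ∀ x y : K, polar (Q.comp K.subtype) x y = polar Q (x : V) y := fun x y => by
    simp only [polar, QuadraticMap.comp_apply, Submodule.subtype_apply, Submodule.coe_add]
  have key : ∀ x : K, (∀ y : K, polar Q (x : V) y = 0) → x = 0 := by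
    intro x hx
    have h1 : (x : V) ∈ LinearMap.BilinForm.orthogonal (polarBilin Q)
        (LinearMap.BilinForm.orthogonal (polarBilin Q) P) := fun z hz => by
      show polar Q z (x : V) = 0
      rw [QuadraticMap.polar_comm]; exact hx ⟨z, hz⟩
    rw [LinearMap.BilinForm.orthogonal_orthogonal hQ (fun a b h => by
      show polar Q b a = 0
      rw [QuadraticMap.polar_comm]; exact h)] at h1
    exact Subtype.ext (hP _ h1 fun y hy => by rw [QuadraticMap.polar_comm]; exact x.2 y hy)
  have hnd : (polarBilin (Q.comp K.subtype)).Nondegenerate :=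
    ⟨fun x hx => key x fun y => by rw [← hp]; exact hx y,
      fun x hx => key x fun y => by rw [← hp, QuadraticMap.polar_comm]; exact hx y⟩
  have hd : Module.finrank F K = Module.finrank F V - Module.finrank F P :=
    LinearMap.BilinForm.finrank_orthogonal hQ P
  obtain ⟨v, hv⟩ := exists_apply_eq hnd (by omega) hc
  exact ⟨v, hv, fun u hu => v.2 u hu⟩

theorem exists_common_partner (hn : 5 ≤ Module.finrank F V) {u w : V} (hu : Q u = 0)
    (hw : Q w = 0) (hli : LinearIndependent F ![u, w]) :
    ∃ z, Q z = 0 ∧ polar Q z u = 1 ∧ polar Q z w = 1 := by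
  by_cases hβ : polar Q u w = 0
  · obtain ⟨a, hua, hwa⟩ := exists_polar_one hQ hli
    refine ⟨a + (-Q a) • u, ?_, ?_, ?_⟩
    · rw [apply_add, apply_smul, polar_smul_right', QuadraticMap.polar_comm (⇑Q) a u, hua, hu]
      ring
    · rw [QuadraticMap.polar_comm, polar_add_right', polar_smul_right', hua, polar_self', hu]
      ring
    · rw [QuadraticMap.polar_comm, polar_add_right', polar_smul_right', hwa,
        QuadraticMap.polar_comm (⇑Q) w u, hβ]
      ring
  · set P := Submodule.span F (Set.range ![u, w]) with hPdef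
    have hwu : polar Q w u = polar Q u w := QuadraticMap.polar_comm _ _ _
    have hP : ∀ x ∈ P, (∀ y ∈ P, polar Q x y = 0) → x = 0 := by
      intro x hx hxP
      obtain ⟨c, rfl⟩ := (Submodule.mem_span_range_iff_exists_fun F).1 hx
      have h1 := hxP u (Submodule.subset_span ⟨0, rfl⟩)
      have h2 := hxP w (Submodule.subset_span ⟨1, rfl⟩)
      simp [Fin.sum_univ_two, polar_smul_left', polar_self', hu, hw, hwu, hβ] at h1 h2
      simp [Fin.sum_univ_two, h1, h2]
    obtain ⟨r, hr, hrP⟩ := exists_apply_eq_perp_nondeg hQ hP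
      (by rw [hPdef, finrank_span_eq_card hli, Fintype.card_fin]; omega)
      (c := -(polar Q u w)⁻¹) (neg_ne_zero.2 (inv_ne_zero hβ))
    have hur := hrP u (Submodule.subset_span ⟨0, rfl⟩)
    have hwr := hrP w (Submodule.subset_span ⟨1, rfl⟩)
    refine ⟨(polar Q u w)⁻¹ • u + (polar Q u w)⁻¹ • w + r, ?_, ?_, ?_⟩
    · simp only [apply_add, apply_smul, polar_add_left', polar_smul_left', polar_smul_right',
        hu, hw, hr, hur, hwr]
      field_simp
      ring
    · simp only [polar_add_left', polar_smul_left', polar_self', hu, hwu,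
        QuadraticMap.polar_comm (⇑Q) r u, hur]
      field_simp
      ring
    · simp only [polar_add_left', polar_smul_left', polar_self', hw,
        QuadraticMap.polar_comm (⇑Q) r w, hwr]
      field_simp
      ring

theorem exists_move_singular_indep (hn : 5 ≤ Module.finrank F V) {u w : V} (hu : Q u = 0)
    (hw : Q w = 0) (hli : LinearIndependent F ![u, w]) :
    ∃ s ∈ eichGroup hQ, (s : V ≃ₗ[F] V) u = w := by
  obtain ⟨z, hz, hzu, hzw⟩ := exists_common_partner hQ hn hu hw hli
  obtain ⟨s, hs, h, -, -⟩ := exists_move_partner hQ hn hz hu hw hzu hzw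
  exact ⟨s, hs, h⟩

theorem exists_partner_of_singular {u : V} (hu : Q u = 0) (hu0 : u ≠ 0) :
    ∃ u', Q u' = 0 ∧ polar Q u u' = 1 := by
  obtain ⟨u', h1, h2, -⟩ := exists_singular_partner hQ (U := ⊥) hu
    (fun x hx => by rw [(Submodule.mem_bot F).1 hx, QuadraticMap.polar_zero_left]) (by simpa using hu0)
  exact ⟨u', h1, h2⟩

omit [Finite F] in
theorem linearIndependent_of_polar {u u' : V} (hu : Q u = 0) (h : polar Q u u' ≠ 0) :
    LinearIndependent F ![u, u'] := by
  refine LinearIndependent.pair_iff.2 fun s t hst => ?_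
  have h1 := congrArg (polar Q u) hst
  rw [polar_add_right', polar_smul_right', polar_smul_right', polar_self', hu,
    QuadraticMap.polar_zero_right, mul_zero, mul_zero, zero_add] at h1
  have ht : t = 0 := (mul_eq_zero.1 h1).resolve_right h
  refine ⟨?_, ht⟩
  rw [ht, zero_smul, add_zero] at hst
  refine (smul_eq_zero.1 hst).resolve_right fun h0 => h ?_
  rw [h0, QuadraticMap.polar_zero_left]

theorem exists_move_singular (hn : 5 ≤ Module.finrank F V) {u w : V} (hu : Q u = 0) (hu0 : u ≠ 0)
    (hw : Q w = 0) (hw0 : w ≠ 0) : ∃ s ∈ eichGroup hQ, (s : V ≃ₗ[F] V) u = w := by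
  by_cases hli : LinearIndependent F ![u, w]
  · exact exists_move_singular_indep hQ hn hu hw hli
  obtain ⟨u', hu', huu'⟩ := exists_partner_of_singular hQ hu hu0
  obtain ⟨c, rfl⟩ : ∃ c : F, w = c • u := by
    by_contra hc
    push Not at hc
    refine hli (LinearIndependent.pair_iff.2 fun s t hst => ?_)
    by_cases ht : t = 0
    · subst ht
      rw [zero_smul, add_zero] at hst
      exact ⟨(smul_eq_zero.1 hst).resolve_right hu0, rfl⟩
    · refine absurd ?_ (hc (-(s / t)))
      calc w = t⁻¹ • (t • w) := by rw [inv_smul_smul₀ ht]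
        _ = -(s / t) • u := by
          rw [eq_neg_of_add_eq_zero_right hst, smul_neg, smul_smul, neg_smul, div_eq_inv_mul]
  have hc : c ≠ 0 := fun h => hw0 (by rw [h, zero_smul])
  obtain ⟨s₁, hs₁, e₁⟩ := exists_move_singular_indep hQ hn hu hu'
    (linearIndependent_of_polar hQ hu (by rw [huu']; exact one_ne_zero))
  obtain ⟨s₂, hs₂, e₂⟩ := exists_move_singular_indep hQ hn hu' hw
    (linearIndependent_of_polar hQ hu' (by
      rw [polar_smul_right', QuadraticMap.polar_comm, huu', mul_one]; exact hc))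
  exact ⟨s₂ * s₁, mul_mem hs₂ hs₁, by
    show (s₂ : V ≃ₗ[F] V) ((s₁ : V ≃ₗ[F] V) u) = _
    rw [e₁, e₂]⟩

theorem exists_move_pair (hn : 5 ≤ Module.finrank F V) {u u' w w' : V} (hu : Q u = 0)
    (hu' : Q u' = 0) (huu' : polar Q u u' = 1) (hw : Q w = 0) (hw' : Q w' = 0)
    (hww' : polar Q w w' = 1) :
    ∃ s ∈ eichGroup hQ, (s : V ≃ₗ[F] V) u = w ∧ (s : V ≃ₗ[F] V) u' = w' := by
  have hu0 : u ≠ 0 := fun h => by simp [h] at huu'
  have hw0 : w ≠ 0 := fun h => by simp [h] at hww'
  obtain ⟨s₁, hs₁, e₁⟩ := exists_move_singular hQ hn hu hu0 hw hw0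
  obtain ⟨s₂, hs₂, e₂, e₃, -⟩ := exists_move_partner hQ hn hw
    (show Q ((s₁ : V ≃ₗ[F] V) u') = 0 by rw [OQ.map_apply, hu']) hw'
    (by rw [← e₁, OQ.map_polar, huu']) hww'
  refine ⟨s₂ * s₁, mul_mem hs₂ hs₁, ?_, ?_⟩
  · show (s₂ : V ≃ₗ[F] V) ((s₁ : V ≃ₗ[F] V) u) = w
    rw [e₁, e₃]
  · exact e₂

theorem exists_plane_of_apply_ne_zero (hn : 5 ≤ Module.finrank F V) {a : V} (ha : Q a ≠ 0) :
    ∃ x y, Q x = 0 ∧ Q y = 0 ∧ polar Q x y = 1 ∧ a = x + Q a • y := by
  have ha0 : a ≠ 0 := fun h => ha (by rw [h, QuadraticMap.map_zero])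
  suffices ∃ y, Q y = 0 ∧ polar Q a y = 1 by
    obtain ⟨y, hy, hay⟩ := this
    refine ⟨a + (-Q a) • y, y, ?_, hy, ?_, by module⟩
    · rw [apply_add, apply_smul, polar_smul_right', hay, hy]; ring
    · rw [polar_add_left', polar_smul_left', hay, polar_self', hy]; ring
  suffices ∃ y, Q y = 0 ∧ polar Q a y ≠ 0 by
    obtain ⟨y, hy, hay⟩ := this
    exact ⟨(polar Q a y)⁻¹ • y, by rw [apply_smul, hy, mul_zero],
      by rw [polar_smul_right', inv_mul_cancel₀ hay]⟩
  by_contra hc
  push Not at hc
  obtain ⟨u, hu0, hu⟩ := exists_singular hQ (by omega)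
  obtain ⟨u', hu', huu'⟩ := exists_partner_of_singular hQ hu hu0
  refine ha0 (hQ.1 a fun z => ?_)
  show polar Q a z = 0
  set r := z + (-polar Q z u') • u + (-polar Q z u) • u' with hr
  have hru : polar Q r u = 0 := by
    simp only [hr, polar_add_left', polar_smul_left', polar_self', hu,
      QuadraticMap.polar_comm (⇑Q) u' u, huu']
    ring
  have hru' : polar Q r u' = 0 := by
    simp only [hr, polar_add_left', polar_smul_left', polar_self', hu', huu']
    ring
  have hrs := hc (r + (u' + (-Q r) • u)) (by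
    simp only [apply_add, apply_smul, polar_add_right', polar_smul_right', hu', hu,
      QuadraticMap.polar_comm (⇑Q) u' u, huu', hru, hru']
    ring)
  have e : z = (polar Q z u' + Q r) • u + (polar Q z u - 1) • u' + (r + (u' + (-Q r) • u)) := by
    rw [hr]; module
  rw [e, polar_add_right' (x := a), polar_add_right' (x := a), polar_smul_right', polar_smul_right',
    hc u hu, hc u' hu', hrs]
  ring

theorem exists_move_vector (hn : 5 ≤ Module.finrank F V) {a b : V} (ha : Q a ≠ 0) (h : Q b = Q a) :
    ∃ s ∈ eichGroup hQ, (s : V ≃ₗ[F] V) a = b := by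
  obtain ⟨x, y, hx, hy, hxy, hxa⟩ := exists_plane_of_apply_ne_zero hQ hn ha
  obtain ⟨x', y', hx', hy', hxy', hxb⟩ := exists_plane_of_apply_ne_zero hQ hn (a := b) (h.symm ▸ ha)
  obtain ⟨s, hs, e1, e2⟩ := exists_move_pair hQ hn hx hy hxy hx' hy' hxy'
  exact ⟨s, hs, by rw [hxa, map_add, map_smul, e1, e2, hxb, h]⟩

theorem eichGroup_eq_commutator (hn : 5 ≤ Module.finrank F V) :
    eichGroup hQ = commutator (OQ Q) := by
  refine le_antisymm ((Subgroup.closure_le _).2 ?_) ?_
  · rintro _ ⟨w, a, hw, ha, -, rfl⟩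
    exact eich_mem_commutator hQ hn hw ha
  refine commutator_le_of_generators_commute _ {g | ∃ (v : V) (hv : Q v ≠ 0), g = refl hv}
    (reflGroup_eq_top hQ (Or.inr (by omega))) ?_
  have same : ∀ (a b : V) (ha : Q a ≠ 0) (hb : Q b ≠ 0), Q b = Q a →
      ((refl hb : OQ Q) : OQ Q ⧸ eichGroup hQ) = (refl ha : OQ Q) := by
    intro a b ha hb h
    obtain ⟨s, hs, e⟩ := exists_move_vector hQ hn ha h
    have hs1 : (s : OQ Q ⧸ eichGroup hQ) = 1 := (QuotientGroup.eq_one_iff s).2 hs
    have : refl hb = s * refl ha * s⁻¹ := by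
      rw [refl_conj]
      subst e
      rfl
    rw [this, QuotientGroup.mk_mul, QuotientGroup.mk_mul, QuotientGroup.mk_inv, hs1, one_mul,
      inv_one, mul_one]
  rintro _ ⟨a, ha, rfl⟩ _ ⟨b, hb, rfl⟩
  have ha0 : a ≠ 0 := fun h => ha (by rw [h, QuadraticMap.map_zero])
  obtain ⟨b', hb', hab'⟩ := exists_apply_eq_perp hQ (Submodule.span F {a})
    (by rw [finrank_span_singleton ha0]; omega) hb
  have hb'0 : Q b' ≠ 0 := by rw [hb']; exact hb
  rw [← same b b' hb hb'0 hb', ← QuotientGroup.mk_mul, ← QuotientGroup.mk_mul]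
  congr 1
  have hp := hab' a (Submodule.mem_span_singleton_self a)
  refine Subtype.ext (LinearEquiv.ext fun z => ?_)
  rw [refl_mul_refl_apply, refl_mul_refl_apply, refl_apply, refl_apply, refl_apply, refl_apply]
  simp only [QuadraticMap.polar_sub_left, polar_smul_left', hp, QuadraticMap.polar_comm (⇑Q) b' a]
  module

end CfsgLib.Classical.Quad
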