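import Cfsg.Agent.Lib.Classical.Quad.Basic
import Cfsg.Prelude.Def_ClassicalGeometry

/-!
Matrices of reflections and Siegel maps; the matrix isometry group of a quadratic form.
-/

set_option autoImplicit false

namespace CfsgLib.Classical.Quad

open QuadraticMap (polar polarBilin)
open scoped Matrix

variable {F : Type*} [Field F] {ι : Type} [Fintype ι] [DecidableEq ι]

theorem polarVec_dot (Q : QuadraticForm F (ι → F)) (v x : ι → F) :
    Cfsg.polarVec (⇑Q) v ⬝ᵥ x = polar Q v x := by
  show _ = polarBilin Q v x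
  conv_rhs => rw [← (Pi.basisFun F ι).sum_repr x]
  rw [map_sum]
  refine Finset.sum_congr rfl fun i _ => ?_
  rw [map_smul, smul_eq_mul, Pi.basisFun_repr, Pi.basisFun_apply, Cfsg.polarVec, mul_comm]
  rfl

theorem reflectionMatrix_mulVec (Q : QuadraticForm F (ι → F)) (v x : ι → F) :
    Cfsg.reflectionMatrix (⇑Q) v *ᵥ x = reflMap Q v x := by
  rw [Cfsg.reflectionMatrix, Matrix.sub_mulVec, Matrix.one_mulVec, Matrix.smul_mulVec,
    Matrix.vecMulVec_mulVec, op_smul_eq_smul, polarVec_dot, smul_smul, reflMap_apply,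
    QuadraticMap.polar_comm]

theorem siegelMatrix_mulVec (Q : QuadraticForm F (ι → F)) (u v x : ι → F) (c : F) :
    Cfsg.siegelMatrix (⇑Q) u v c *ᵥ x = x + c • (polar Q u x • v - polar Q v x • u) := by
  rw [Cfsg.siegelMatrix, Matrix.add_mulVec, Matrix.one_mulVec, Matrix.smul_mulVec,
    Matrix.sub_mulVec, Matrix.vecMulVec_mulVec, Matrix.vecMulVec_mulVec, op_smul_eq_smul,
    op_smul_eq_smul, polarVec_dot, polarVec_dot]

theorem det_reflectionMatrix (Q : QuadraticForm F (ι → F)) {v : ι → F} (hv : Q v ≠ 0) :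
    (Cfsg.reflectionMatrix (⇑Q) v).det = -1 := by
  rw [← LinearMap.det_toLin',
    show Matrix.toLin' (Cfsg.reflectionMatrix (⇑Q) v) = reflMap Q v from
      LinearMap.ext fun x => reflectionMatrix_mulVec Q v x]
  exact det_refl hv

/-- The matrix isometry group as a group of linear automorphisms. -/
noncomputable def oEquiv (Q : QuadraticForm F (ι → F)) :
    Cfsg.isometryGroup F (⇑Q) ≃* OQ Q :=
  preservingEquivIso fun u _ => Q u

theorem oEquiv_apply (Q : QuadraticForm F (ι → F)) (g : Cfsg.isometryGroup F (⇑Q)) (v : ι → F) :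
    (oEquiv Q g : (ι → F) ≃ₗ[F] (ι → F)) v =
      ((g : Matrix.GeneralLinearGroup ι F) : Matrix ι ι F) *ᵥ v := rfl

theorem det_eq_one_or_neg_one (Q : QuadraticForm F (ι → F)) (hQ : (polarBilin Q).Nondegenerate)
    (g : Cfsg.isometryGroup F (⇑Q)) :
    ((g : Matrix.GeneralLinearGroup ι F) : Matrix ι ι F).det = 1 ∨
      ((g : Matrix.GeneralLinearGroup ι F) : Matrix ι ι F).det = -1 := by
  set b := Pi.basisFun F ι
  set M := ((g : Matrix.GeneralLinearGroup ι F) : Matrix ι ι F) with hM
  have h : polarBilin Q =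
      LinearMap.BilinForm.comp (polarBilin Q) (Matrix.toLin' M) (Matrix.toLin' M) :=
    LinearMap.ext fun u => LinearMap.ext fun v => (OQ.map_polar (oEquiv Q g) u v).symm
  have h2 := congrArg (fun B => (LinearMap.BilinForm.toMatrix b B).det) h
  rw [LinearMap.BilinForm.toMatrix_comp b, Matrix.det_mul, Matrix.det_mul,
    Matrix.det_transpose] at h2
  have h3 : (LinearMap.toMatrix b b (Matrix.toLin' M)).det = M.det := by
    rw [LinearMap.det_toMatrix, LinearMap.det_toLin']
  rw [h3] at h2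
  have h0 := (LinearMap.BilinForm.nondegenerate_iff_det_ne_zero b).1 hQ
  refine sq_eq_one_iff.1 (mul_left_cancel₀ h0 ?_)
  linear_combination -h2

theorem exists_det_neg_one (Q : QuadraticForm F (ι → F)) {v : ι → F} (hv : Q v ≠ 0) :
    ∃ g : Cfsg.isometryGroup F (⇑Q),
      ((g : Matrix.GeneralLinearGroup ι F) : Matrix ι ι F).det = -1 := by
  refine ⟨(oEquiv Q).symm (refl hv), ?_⟩
  rw [← LinearMap.det_toLin',
    show Matrix.toLin' (((oEquiv Q).symm (refl hv) : Matrix.GeneralLinearGroup ι F) :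
      Matrix ι ι F) = reflMap Q v from LinearMap.ext fun x => by
        rw [Matrix.toLin'_apply, ← oEquiv_apply, MulEquiv.apply_symm_apply]
        rfl]
  exact det_refl hv

theorem siegel_facts (Q : QuadraticForm F (ι → F)) (u v : ι → F) (hu : Q u = 0) (hv : Q v = 0)
    (huv : polar Q u v = 0) :
    (∀ c x, Q (Cfsg.siegelMatrix (⇑Q) u v c *ᵥ x) = Q x) ∧
    (∀ c, Cfsg.siegelMatrix (⇑Q) u v c *ᵥ u = u ∧ Cfsg.siegelMatrix (⇑Q) u v c *ᵥ v = v) ∧
    ∀ c d, Cfsg.siegelMatrix (⇑Q) u v c * Cfsg.siegelMatrix (⇑Q) u v d =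
      Cfsg.siegelMatrix (⇑Q) u v (c + d) := by
  have hvu : polar Q v u = 0 := by rw [QuadraticMap.polar_comm]; exact huv
  have huu : polar Q u u = 0 := by rw [polar_self', hu, mul_zero]
  have hvv : polar Q v v = 0 := by rw [polar_self', hv, mul_zero]
  refine ⟨fun c x => ?_, fun c => ⟨?_, ?_⟩, fun c d => ?_⟩
  · rw [siegelMatrix_mulVec, apply_add, apply_smul, polar_smul_right', sub_eq_add_neg, ← neg_smul,
      apply_add, apply_smul, apply_smul, polar_smul_left', polar_smul_right', polar_add_right',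
      polar_smul_right', polar_smul_right', hu, hv, hvu, QuadraticMap.polar_comm (⇑Q) x v,
      QuadraticMap.polar_comm (⇑Q) x u]
    ring
  · rw [siegelMatrix_mulVec, huu, hvu]
    simp
  · rw [siegelMatrix_mulVec, huv, hvv]
    simp
  · apply Matrix.toLin'.injective
    refine LinearMap.ext fun x => ?_
    rw [Matrix.toLin'_mul, LinearMap.comp_apply, Matrix.toLin'_apply, Matrix.toLin'_apply,
      Matrix.toLin'_apply, siegelMatrix_mulVec, siegelMatrix_mulVec, siegelMatrix_mulVec]
    simp only [sub_eq_add_neg, smul_add, smul_smul, ← neg_smul, polar_add_right',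
      polar_smul_right', huu, huv, hvu, hvv, smul_neg, neg_mul, mul_neg]
    match_scalars <;> ring

end CfsgLib.Classical.Quad
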