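import Cfsg.Agent.Lib.Classical.Quad.Hyperbolic
import Cfsg.Agent.Lib.Classical.Quad.Matrix
import Cfsg.Agent.Lib.Classical.Quad.Sym

/-!
The three standard families of quadratic forms: numbers of zeros and orders of isometry groups.
-/

set_option autoImplicit false

namespace CfsgLib.Classical.Quad

open QuadraticMap (polar polarBilin)

variable {F : Type*} [Field F]

/-! ### The forms as quadratic maps -/

/-- `Σ x_i y_i`. -/
def qPlus (m : ℕ) (F : Type*) [Field F] : QuadraticForm F (Fin m ⊕ Fin m → F) :=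
  ∑ i : Fin m, QuadraticMap.linMulLin (LinearMap.proj (Sum.inl i)) (LinearMap.proj (Sum.inr i))

theorem coe_qPlus (m : ℕ) (F : Type*) [Field F] :
    ⇑(qPlus m F) = Cfsg.quadFormPlus m F := by
  funext v
  simp [qPlus, Cfsg.quadFormPlus, QuadraticMap.sum_apply]

/-- `x₀² + Σ x_i y_i`. -/
def qOdd (m : ℕ) (F : Type*) [Field F] : QuadraticForm F (Unit ⊕ (Fin m ⊕ Fin m) → F) :=
  QuadraticMap.linMulLin (LinearMap.proj (Sum.inl ())) (LinearMap.proj (Sum.inl ())) +
    (qPlus m F).comp (LinearMap.funLeft F F Sum.inr)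

theorem coe_qOdd (m : ℕ) (F : Type*) [Field F] :
    ⇑(qOdd m F) = Cfsg.quadFormOdd m F := by
  funext v
  simp [qOdd, coe_qPlus, Cfsg.quadFormOdd, Cfsg.quadFormPlus, sq]

/-- The binary form `z₁² + a z₁ z₂ + b z₂²`. -/
def qBin (a b : F) : QuadraticForm F (Fin 2 → F) :=
  QuadraticMap.linMulLin (LinearMap.proj 0) (LinearMap.proj 0) +
    a • QuadraticMap.linMulLin (LinearMap.proj 0) (LinearMap.proj 1) +
    b • QuadraticMap.linMulLin (LinearMap.proj 1) (LinearMap.proj 1)

theorem qBin_apply (a b : F) (z : Fin 2 → F) :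
    qBin a b z = z 0 ^ 2 + a * z 0 * z 1 + b * z 1 ^ 2 := by
  simp [qBin]
  ring

/-- `Σ x_i y_i + z₁² + a z₁ z₂ + b z₂²`. -/
def qMinus (m : ℕ) (F : Type*) [Field F] (a b : F) :
    QuadraticForm F ((Fin m ⊕ Fin m) ⊕ Fin 2 → F) :=
  (qPlus m F).comp (LinearMap.funLeft F F Sum.inl) + (qBin a b).comp (LinearMap.funLeft F F Sum.inr)

theorem coe_qMinus (m : ℕ) (F : Type*) [Field F] (a b : F) :
    ⇑(qMinus m F a b) = Cfsg.quadFormMinus m F a b := by
  funext v
  simp [qMinus, coe_qPlus, Cfsg.quadFormMinus, Cfsg.quadFormPlus, qBin_apply]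

theorem nondegenerate_of_left {V : Type*} [AddCommGroup V] [Module F V] {Q : QuadraticForm F V}
    (h : ∀ v, (∀ w, polar Q v w = 0) → v = 0) : (polarBilin Q).Nondegenerate :=
  ⟨fun v hv => h v hv, fun v hv => h v fun w => by rw [QuadraticMap.polar_comm]; exact hv w⟩

theorem polar_qPlus (m : ℕ) (v w : Fin m ⊕ Fin m → F) :
    polar (qPlus m F) v w = ∑ i, (v (Sum.inl i) * w (Sum.inr i) + w (Sum.inl i) * v (Sum.inr i)) := by
  simp only [polar, coe_qPlus, Cfsg.quadFormPlus, ← Finset.sum_sub_distrib, Pi.add_apply]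
  exact Finset.sum_congr rfl fun i _ => by ring

theorem qPlus_nondeg (m : ℕ) : (polarBilin (qPlus m F)).Nondegenerate := by
  classical
  refine nondegenerate_of_left fun v hv => funext fun x => ?_
  rcases x with i | i
  · have := hv (Pi.single (Sum.inr i) 1)
    simpa [polar_qPlus, Pi.single_apply] using this
  · have := hv (Pi.single (Sum.inl i) 1)
    simpa [polar_qPlus, Pi.single_apply] using this

theorem polar_qOdd (m : ℕ) (v w : Unit ⊕ (Fin m ⊕ Fin m) → F) :
    polar (qOdd m F) v w =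
      2 * v (Sum.inl ()) * w (Sum.inl ()) + polar (qPlus m F) (v ∘ Sum.inr) (w ∘ Sum.inr) := by
  simp only [polar, coe_qOdd, coe_qPlus, Cfsg.quadFormOdd, Cfsg.quadFormPlus, Pi.add_apply,
    Function.comp_apply]
  ring

theorem qOdd_nondeg (h2 : (2 : F) ≠ 0) (m : ℕ) : (polarBilin (qOdd m F)).Nondegenerate := by
  refine nondegenerate_of_left fun v hv => ?_
  have h1 : v (Sum.inl ()) = 0 := by
    have := hv (Sum.elim (fun _ => 1) 0)
    simpa [polar_qOdd, h2, Sum.elim_comp_inr] using this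
  have h3 : v ∘ Sum.inr = 0 := (qPlus_nondeg m).1 _ fun w => by
    have := hv (Sum.elim 0 w)
    simpa [polar_qOdd, Sum.elim_comp_inr] using this
  funext x
  rcases x with ⟨⟩ | i
  · exact h1
  · exact congrFun h3 i

theorem polar_qBin (a b : F) (v w : Fin 2 → F) :
    polar (qBin a b) v w =
      2 * v 0 * w 0 + a * (v 0 * w 1 + w 0 * v 1) + 2 * b * v 1 * w 1 := by
  simp only [polar, qBin_apply, Pi.add_apply]
  ring

theorem discr_ne_zero [Finite F] {a b : F}
    (hab : ∀ z₁ z₂ : F, z₁ ^ 2 + a * z₁ * z₂ + b * z₂ ^ 2 = 0 → z₁ = 0 ∧ z₂ = 0) :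
    4 * b - a ^ 2 ≠ 0 := by
  intro h
  by_cases h2 : (2 : F) = 0
  · have ha : a = 0 := by
      have : a ^ 2 = 0 := by linear_combination (2 * b) * h2 - h
      exact pow_eq_zero_iff two_ne_zero |>.1 this
    have : CharP F 2 := CharTwo.of_one_ne_zero_of_two_eq_zero one_ne_zero h2
    obtain ⟨c, hc⟩ := FiniteField.isSquare_of_char_two (ringChar.eq_iff.2 this) b
    have h3 := hab c 1 (by rw [ha, hc]; linear_combination (c * c) * h2)
    exact one_ne_zero h3.2
  · have h3 := hab (-a) 2 (by linear_combination h)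
    exact h2 h3.2

theorem qBin_nondeg [Finite F] {a b : F}
    (hab : ∀ z₁ z₂ : F, z₁ ^ 2 + a * z₁ * z₂ + b * z₂ ^ 2 = 0 → z₁ = 0 ∧ z₂ = 0) :
    (polarBilin (qBin a b)).Nondegenerate := by
  refine nondegenerate_of_left fun v hv => ?_
  have h0 := hv ![1, 0]
  have h1 := hv ![0, 1]
  simp [polar_qBin] at h0 h1
  have hd := discr_ne_zero hab
  have e1 : (4 * b - a ^ 2) * v 1 = 0 := by linear_combination 2 * h1 - a * h0
  have e0 : (4 * b - a ^ 2) * v 0 = 0 := by linear_combination 2 * b * h0 - a * h1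
  funext i
  fin_cases i
  · exact (mul_eq_zero.1 e0).resolve_left hd
  · exact (mul_eq_zero.1 e1).resolve_left hd

theorem polar_qMinus (m : ℕ) (a b : F) (v w : (Fin m ⊕ Fin m) ⊕ Fin 2 → F) :
    polar (qMinus m F a b) v w = polar (qPlus m F) (v ∘ Sum.inl) (w ∘ Sum.inl) +
      polar (qBin a b) (v ∘ Sum.inr) (w ∘ Sum.inr) := by
  simp only [polar, coe_qMinus, coe_qPlus, Cfsg.quadFormMinus, Cfsg.quadFormPlus, qBin_apply,
    Pi.add_apply, Function.comp_apply]
  ring

theorem qMinus_nondeg [Finite F] {a b : F}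
    (hab : ∀ z₁ z₂ : F, z₁ ^ 2 + a * z₁ * z₂ + b * z₂ ^ 2 = 0 → z₁ = 0 ∧ z₂ = 0) (m : ℕ) :
    (polarBilin (qMinus m F a b)).Nondegenerate := by
  refine nondegenerate_of_left fun v hv => ?_
  have h1 : v ∘ Sum.inl = 0 := (qPlus_nondeg m).1 _ fun w => by
    have := hv (Sum.elim w 0)
    simpa [polar_qMinus, Sum.elim_comp_inl, Sum.elim_comp_inr] using this
  have h3 : v ∘ Sum.inr = 0 := (qBin_nondeg hab).1 _ fun w => by
    have := hv (Sum.elim 0 w)
    simpa [polar_qMinus, Sum.elim_comp_inl, Sum.elim_comp_inr] using this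
  funext x
  rcases x with i | i
  · exact congrFun h1 i
  · exact congrFun h3 i

/-! ### Splitting off a hyperbolic plane -/

/-- `F^(2(m+1)) = F × F × F^(2m)`. -/
def plusSplit (m : ℕ) (F : Type*) [Field F] :
    (Fin (m + 1) ⊕ Fin (m + 1) → F) ≃ₗ[F] F × F × (Fin m ⊕ Fin m → F) where
  toFun v := (v (Sum.inl 0), v (Sum.inr 0),
    Sum.elim (fun i => v (Sum.inl i.succ)) fun i => v (Sum.inr i.succ))
  map_add' v w := by ext x <;> try rcases x with i | i
                     all_goals simp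
  map_smul' c v := by ext x <;> try rcases x with i | i
                      all_goals simp
  invFun p := Sum.elim (Fin.cons p.1 fun i => p.2.2 (Sum.inl i))
    (Fin.cons p.2.1 fun i => p.2.2 (Sum.inr i))
  left_inv v := by
    funext x
    rcases x with i | i <;> induction i using Fin.cases <;> simp
  right_inv p := by ext x <;> try rcases x with i | i
                    all_goals simp

theorem plusSplit_preserves (m : ℕ) (v : Fin (m + 1) ⊕ Fin (m + 1) → F) :
    hyp (qPlus m F) (plusSplit m F v) = qPlus (m + 1) F v := by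
  simp [hyp_apply, coe_qPlus, plusSplit, Cfsg.quadFormPlus, Fin.sum_univ_succ]

/-- Splitting the first plane off the odd-dimensional space. -/
def oddSplit (m : ℕ) (F : Type*) [Field F] :
    (Unit ⊕ (Fin (m + 1) ⊕ Fin (m + 1)) → F) ≃ₗ[F] F × F × (Unit ⊕ (Fin m ⊕ Fin m) → F) where
  toFun v := (v (Sum.inr (Sum.inl 0)), v (Sum.inr (Sum.inr 0)),
    Sum.elim (fun u => v (Sum.inl u))
      (Sum.elim (fun i => v (Sum.inr (Sum.inl i.succ))) fun i => v (Sum.inr (Sum.inr i.succ))))
  map_add' v w := by ext x <;> try rcases x with ⟨⟩ | i | i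
                     all_goals simp
  map_smul' c v := by ext x <;> try rcases x with ⟨⟩ | i | i
                      all_goals simp
  invFun p := Sum.elim (fun u => p.2.2 (Sum.inl u))
    (Sum.elim (Fin.cons p.1 fun i => p.2.2 (Sum.inr (Sum.inl i)))
      (Fin.cons p.2.1 fun i => p.2.2 (Sum.inr (Sum.inr i))))
  left_inv v := by
    funext x
    rcases x with ⟨⟩ | i | i
    · simp
    all_goals induction i using Fin.cases <;> simp
  right_inv p := by ext x <;> try rcases x with ⟨⟩ | i | i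
                    all_goals simp

theorem oddSplit_preserves (m : ℕ) (v : Unit ⊕ (Fin (m + 1) ⊕ Fin (m + 1)) → F) :
    hyp (qOdd m F) (oddSplit m F v) = qOdd (m + 1) F v := by
  simp [hyp_apply, coe_qOdd, oddSplit, Cfsg.quadFormOdd, Fin.sum_univ_succ]
  ring

/-- Splitting the first plane off the minus-type space. -/
def minusSplit (m : ℕ) (F : Type*) [Field F] :
    ((Fin (m + 1) ⊕ Fin (m + 1)) ⊕ Fin 2 → F) ≃ₗ[F] F × F × ((Fin m ⊕ Fin m) ⊕ Fin 2 → F) where
  toFun v := (v (Sum.inl (Sum.inl 0)), v (Sum.inl (Sum.inr 0)),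
    Sum.elim (Sum.elim (fun i => v (Sum.inl (Sum.inl i.succ))) fun i => v (Sum.inl (Sum.inr i.succ)))
      fun u => v (Sum.inr u))
  map_add' v w := by ext x <;> try rcases x with (i | i) | u
                     all_goals simp
  map_smul' c v := by ext x <;> try rcases x with (i | i) | u
                      all_goals simp
  invFun p := Sum.elim (Sum.elim (Fin.cons p.1 fun i => p.2.2 (Sum.inl (Sum.inl i)))
    (Fin.cons p.2.1 fun i => p.2.2 (Sum.inl (Sum.inr i)))) fun u => p.2.2 (Sum.inr u)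
  left_inv v := by
    funext x
    rcases x with (i | i) | u
    rotate_right
    · simp
    all_goals induction i using Fin.cases <;> simp
  right_inv p := by ext x <;> try rcases x with (i | i) | u
                    all_goals simp

theorem minusSplit_preserves (m : ℕ) (a b : F) (v : (Fin (m + 1) ⊕ Fin (m + 1)) ⊕ Fin 2 → F) :
    hyp (qMinus m F a b) (minusSplit m F v) = qMinus (m + 1) F a b v := by
  simp [hyp_apply, coe_qMinus, minusSplit, Cfsg.quadFormMinus, Fin.sum_univ_succ]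
  ring

theorem card_zero_congr [Finite F] {V W : Type*} [AddCommGroup V] [Module F V] [Finite V]
    [AddCommGroup W] [Module F W] (Q : QuadraticForm F V) (Q' : QuadraticForm F W)
    (e : W ≃ₗ[F] F × F × V) (h : ∀ w, hyp Q (e w) = Q' w) :
    Nat.card {w : W // Q' w = 0} =
      Nat.card F * Nat.card {u : V // Q u = 0} + (Nat.card F - 1) * Nat.card V := by
  rw [← card_zero_hyp]
  exact Nat.card_congr (e.toEquiv.subtypeEquiv fun w => by
    show _ ↔ hyp Q (e w) = 0
    rw [h])

theorem card_OQ_congr [Finite F] {V W : Type*} [AddCommGroup V] [Module F V] [Finite V]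
    [AddCommGroup W] [Module F W] (Q : QuadraticForm F V) (Q' : QuadraticForm F W)
    (hQ : (polarBilin Q).Nondegenerate) (e : W ≃ₗ[F] F × F × V) (h : ∀ w, hyp Q (e w) = Q' w) :
    Nat.card (OQ Q') = (Nat.card {w : W // Q' w = 0} - 1) * Nat.card V * Nat.card (OQ Q) := by
  rw [Nat.card_congr (isoCongrEq (f := fun u _ => Q' u) (f' := fun u _ => hyp Q u) e
      fun u _ => h u).toEquiv, card_OQ_hyp hQ,
    Nat.card_congr (e.toEquiv.subtypeEquiv (p := fun w => Q' w = 0) (q := fun z => hyp Q z = 0)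
      fun w => by show _ ↔ hyp Q (e w) = 0; rw [h])]

/-! ### Zeros -/

theorem card_zero_plus [Fintype F] {q : ℕ} (hF : Fintype.card F = q) (m : ℕ) :
    (Nat.card {v : Fin m ⊕ Fin m → F // Cfsg.quadFormPlus m F v = 0} : ℤ) * q =
      (q : ℤ) ^ (2 * m) + (q : ℤ) ^ (m + 1) - (q : ℤ) ^ m := by
  induction m with
  | zero =>
    have : ∀ v : Fin 0 ⊕ Fin 0 → F, Cfsg.quadFormPlus 0 F v = 0 := fun v => by
      simp [Cfsg.quadFormPlus]
    simp [this]
  | succ m ih =>
    have hq1 : 1 ≤ q := hF ▸ Fintype.card_pos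
    have h := card_zero_congr (qPlus m F) (qPlus (m + 1) F) (plusSplit m F) (plusSplit_preserves m)
    simp only [coe_qPlus] at h
    rw [h, Nat.card_fun, Nat.card_eq_fintype_card (α := F), hF,
      Nat.card_eq_fintype_card (α := Fin m ⊕ Fin m), Fintype.card_sum, Fintype.card_fin]
    push_cast [Nat.cast_sub hq1]
    linear_combination (q : ℤ) * ih

theorem card_zero_minus [Fintype F] {q : ℕ} (hF : Fintype.card F = q) (m : ℕ) {a b : F}
    (hab : ∀ z₁ z₂ : F, z₁ ^ 2 + a * z₁ * z₂ + b * z₂ ^ 2 = 0 → z₁ = 0 ∧ z₂ = 0) :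
    (Nat.card {v : (Fin m ⊕ Fin m) ⊕ Fin 2 → F // Cfsg.quadFormMinus m F a b v = 0} : ℤ) =
      (q : ℤ) ^ (2 * m + 1) + (q : ℤ) ^ m - (q : ℤ) ^ (m + 1) := by
  induction m with
  | zero =>
    have e : {v : (Fin 0 ⊕ Fin 0) ⊕ Fin 2 → F // Cfsg.quadFormMinus 0 F a b v = 0} ≃ Unit :=
      { toFun := fun _ => ()
        invFun := fun _ => ⟨0, by simp [Cfsg.quadFormMinus]⟩
        left_inv := fun v => by
          obtain ⟨v, hv⟩ := v
          apply Subtype.ext
          simp [Cfsg.quadFormMinus] at hv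
          obtain ⟨h0, h1⟩ := hab _ _ hv
          funext x
          rcases x with (i | i) | u
          · exact i.elim0
          · exact i.elim0
          · fin_cases u
            · exact h0.symm
            · exact h1.symm
        right_inv := fun _ => rfl }
    rw [Nat.card_congr e]
    simp
  | succ m ih =>
    have hq1 : 1 ≤ q := hF ▸ Fintype.card_pos
    have h := card_zero_congr (qMinus m F a b) (qMinus (m + 1) F a b) (minusSplit m F)
      (minusSplit_preserves m a b)
    simp only [coe_qMinus] at h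
    rw [h, Nat.card_fun, Nat.card_eq_fintype_card (α := F), hF,
      Nat.card_eq_fintype_card (α := (Fin m ⊕ Fin m) ⊕ Fin 2), Fintype.card_sum, Fintype.card_sum,
      Fintype.card_fin, Fintype.card_fin]
    push_cast [Nat.cast_sub hq1]
    linear_combination (q : ℤ) * ih

theorem card_zero_odd [Fintype F] {q : ℕ} (hF : Fintype.card F = q) (m : ℕ) :
    Nat.card {v : Unit ⊕ (Fin m ⊕ Fin m) → F // Cfsg.quadFormOdd m F v = 0} = q ^ (2 * m) := by
  induction m with
  | zero =>
    have e : {v : Unit ⊕ (Fin 0 ⊕ Fin 0) → F // Cfsg.quadFormOdd 0 F v = 0} ≃ Unit :=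
      { toFun := fun _ => ()
        invFun := fun _ => ⟨0, by simp [Cfsg.quadFormOdd]⟩
        left_inv := fun v => by
          obtain ⟨v, hv⟩ := v
          apply Subtype.ext
          simp [Cfsg.quadFormOdd] at hv
          funext x
          rcases x with ⟨⟩ | i | i
          · exact hv.symm
          · exact i.elim0
          · exact i.elim0
        right_inv := fun _ => rfl }
    rw [Nat.card_congr e]
    simp
  | succ m ih =>
    have hq1 : 1 ≤ q := hF ▸ Fintype.card_pos
    have h := card_zero_congr (qOdd m F) (qOdd (m + 1) F) (oddSplit m F) (oddSplit_preserves m)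
    simp only [coe_qOdd] at h
    rw [h, ih, Nat.card_fun, Nat.card_eq_fintype_card (α := F), hF,
      Nat.card_eq_fintype_card (α := Unit ⊕ (Fin m ⊕ Fin m)), Fintype.card_sum, Fintype.card_sum,
      Fintype.card_fin, Fintype.card_unit]
    zify [hq1]
    ring

theorem card_quadFormPlus_zero [Fintype F] {q : ℕ} (hF : Fintype.card F = q) (m : ℕ) (hm : 1 ≤ m) :
    Nat.card {v : Fin m ⊕ Fin m → F // Cfsg.quadFormPlus m F v = 0} =
      q ^ (2 * m - 1) + q ^ m - q ^ (m - 1) := by
  have h := card_zero_plus hF m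
  have hq : 0 < q := hF ▸ Fintype.card_pos
  obtain ⟨m, rfl⟩ : ∃ k, m = k + 1 := ⟨m - 1, by omega⟩
  have hle : q ^ m ≤ q ^ (2 * m + 1) + q ^ (m + 1) :=
    le_trans (Nat.pow_le_pow_right hq (by omega)) (Nat.le_add_left _ _)
  rw [show 2 * (m + 1) - 1 = 2 * m + 1 by omega, show m + 1 - 1 = m by omega]
  zify [hle]
  refine mul_right_cancel₀ (b := (q : ℤ)) (by exact_mod_cast hq.ne') ?_
  rw [h]
  ring

theorem card_quadFormMinus_zero [Fintype F] {q : ℕ} (hF : Fintype.card F = q) (m : ℕ) (hm : 1 ≤ m)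
    {a b : F} (hab : ∀ z₁ z₂ : F, z₁ ^ 2 + a * z₁ * z₂ + b * z₂ ^ 2 = 0 → z₁ = 0 ∧ z₂ = 0) :
    Nat.card {v : (Fin (m - 1) ⊕ Fin (m - 1)) ⊕ Fin 2 → F //
      Cfsg.quadFormMinus (m - 1) F a b v = 0} = q ^ (2 * m - 1) + q ^ (m - 1) - q ^ m := by
  obtain ⟨m, rfl⟩ : ∃ k, m = k + 1 := ⟨m - 1, by omega⟩
  simp only [Nat.add_sub_cancel]
  have h := card_zero_minus hF m hab
  have hq : 0 < q := hF ▸ Fintype.card_pos
  have hle : q ^ (m + 1) ≤ q ^ (2 * m + 1) + q ^ m :=
    le_trans (Nat.pow_le_pow_right hq (by omega)) (Nat.le_add_right _ _)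
  rw [show 2 * (m + 1) - 1 = 2 * m + 1 by omega]
  zify [hle]
  exact h

/-! ### Orders -/

theorem card_OQ_qOdd_zero [Finite F] (h2 : (2 : F) ≠ 0) : Nat.card (OQ (qOdd 0 F)) = 2 := by
  classical
  let e₀ : Unit ⊕ (Fin 0 ⊕ Fin 0) → F := fun _ => 1
  have hline : ∀ v : Unit ⊕ (Fin 0 ⊕ Fin 0) → F, v = v (Sum.inl ()) • e₀ := fun v => by
    funext x
    rcases x with ⟨⟩ | i | i
    · simp [e₀]
    · exact i.elim0
    · exact i.elim0
  have hQ : ∀ v : Unit ⊕ (Fin 0 ⊕ Fin 0) → F, qOdd 0 F v = v (Sum.inl ()) ^ 2 := fun v => by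
    simp [coe_qOdd, Cfsg.quadFormOdd]
  have hne : (1 : F) ≠ -1 := fun h => h2 (by linear_combination h)
  have hmul : ∀ ε : F, ε * ε = 1 → ∃ g : OQ (qOdd 0 F), ∀ v, (g : (Unit ⊕ (Fin 0 ⊕ Fin 0) → F) ≃ₗ[F] (Unit ⊕ (Fin 0 ⊕ Fin 0) → F)) v = ε • v := fun ε hε =>
    ⟨ofPreserves (qOdd_nondeg h2 0) (ε • LinearMap.id) fun z => by
      rw [LinearMap.smul_apply, LinearMap.id_apply, apply_smul, hε, one_mul], fun v => rfl⟩
  let f : OQ (qOdd 0 F) → F := fun g => (g : (Unit ⊕ (Fin 0 ⊕ Fin 0) → F) ≃ₗ[F] (Unit ⊕ (Fin 0 ⊕ Fin 0) → F)) e₀ (Sum.inl ())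
  have hfinj : Function.Injective f := fun g g' h => by
    refine Subtype.ext (LinearEquiv.ext fun v => ?_)
    rw [hline v, map_smul, map_smul, hline ((g : (Unit ⊕ (Fin 0 ⊕ Fin 0) → F) ≃ₗ[F] (Unit ⊕ (Fin 0 ⊕ Fin 0) → F)) e₀), hline ((g' : (Unit ⊕ (Fin 0 ⊕ Fin 0) → F) ≃ₗ[F] (Unit ⊕ (Fin 0 ⊕ Fin 0) → F)) e₀)]
    simp only [f] at h
    rw [h]
  have hrange : Set.range f = {1, -1} := by
    ext c
    constructor
    · rintro ⟨g, rfl⟩
      have h1 := OQ.map_apply g e₀
      rw [hQ, hQ] at h1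
      simp only [e₀, one_pow] at h1
      exact sq_eq_one_iff.1 h1
    · rintro (rfl | rfl)
      · exact ⟨1, by simp [f, e₀]⟩
      · obtain ⟨g, hg⟩ := hmul (-1) (by ring)
        exact ⟨g, by simp only [f]; rw [hg]; simp [e₀]⟩
  rw [← Nat.card_range_of_injective hfinj, hrange, Nat.card_coe_set_eq, Set.ncard_pair hne]

theorem exists_qBin_value [Finite F] {a b : F}
    (hab : ∀ z₁ z₂ : F, z₁ ^ 2 + a * z₁ * z₂ + b * z₂ ^ 2 = 0 → z₁ = 0 ∧ z₂ = 0) (c : F) :
    ∃ z, qBin a b z = c := by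
  by_cases h2 : (2 : F) = 0
  · have : CharP F 2 := CharTwo.of_one_ne_zero_of_two_eq_zero one_ne_zero h2
    obtain ⟨s, hs⟩ := FiniteField.isSquare_of_char_two (ringChar.eq_iff.2 this) c
    exact ⟨![s, 0], by rw [qBin_apply, hs]; simp [sq]⟩
  · obtain ⟨x, y, hxy⟩ := exists_sum_two_squares h2 one_ne_zero (discr_ne_zero hab) (4 * c)
    refine ⟨![(x - a * y) / 2, y], ?_⟩
    rw [qBin_apply]
    simp
    field_simp
    linear_combination hxy

theorem card_qBin_one [Fintype F] {q : ℕ} (hF : Fintype.card F = q) {a b : F}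
    (hab : ∀ z₁ z₂ : F, z₁ ^ 2 + a * z₁ * z₂ + b * z₂ ^ 2 = 0 → z₁ = 0 ∧ z₂ = 0) :
    Nat.card {z : Fin 2 → F // qBin a b z = 1} = q + 1 := by
  classical
  let mulV : (Fin 2 → F) → (Fin 2 → F) → (Fin 2 → F) := fun z w =>
    ![z 0 * w 0 - b * z 1 * w 1, z 0 * w 1 + z 1 * w 0 + a * z 1 * w 1]
  have hmul : ∀ z w, qBin a b (mulV z w) = qBin a b z * qBin a b w := fun z w => by
    simp [mulV, qBin_apply]
    ring
  have hlin : ∀ z w w', mulV z w - mulV z w' = mulV z (w - w') := fun z w w' => by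
    funext i; fin_cases i <;> simp [mulV] <;> ring
  have hzero : ∀ z, qBin a b z = 0 → z = 0 := fun z hz => by
    rw [qBin_apply] at hz
    obtain ⟨h0, h1⟩ := hab _ _ hz
    funext i; fin_cases i <;> assumption
  have hinj : ∀ z, z ≠ 0 → Function.Injective (mulV z) := fun z hz w w' h => by
    have h1 := hlin z w w'
    rw [h, sub_self] at h1
    have h2 := hmul z (w - w')
    rw [← h1, QuadraticMap.map_zero] at h2
    rcases mul_eq_zero.1 h2.symm with h3 | h3
    · exact absurd (hzero z h3) hz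
    · exact sub_eq_zero.1 (hzero _ h3)
  let N := Nat.card {z : Fin 2 → F // qBin a b z = 1}
  have hfib : ∀ c : {c : F // c ≠ 0}, Nat.card {z : Fin 2 → F // qBin a b z = c.1} = N := by
    intro c
    obtain ⟨z₀, hz₀⟩ := exists_qBin_value hab c.1
    have hne : z₀ ≠ 0 := fun h => c.2 (by rw [← hz₀, h, QuadraticMap.map_zero])
    let e : (Fin 2 → F) ≃ (Fin 2 → F) :=
      Equiv.ofBijective _ (Finite.injective_iff_bijective.1 (hinj z₀ hne))
    refine (Nat.card_congr (e.subtypeEquiv fun w => ?_)).symm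
    show _ ↔ qBin a b (mulV z₀ w) = c.1
    rw [hmul, hz₀, mul_eq_left₀ c.2]
  let e : {z : Fin 2 → F // z ≠ 0} ≃
      Σ c : {c : F // c ≠ 0}, {z : Fin 2 → F // qBin a b z = c.1} :=
    { toFun := fun z => ⟨⟨qBin a b z.1, fun h => z.2 (hzero _ h)⟩, ⟨z.1, rfl⟩⟩
      invFun := fun p => ⟨p.2.1, fun h => p.1.2 (by rw [← p.2.2, h, QuadraticMap.map_zero])⟩
      left_inv := fun z => rfl
      right_inv := fun ⟨⟨c, hc⟩, z, hz⟩ => by
        simp only at hz
        subst hz
        rfl }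
  have h := Nat.card_congr e
  rw [Nat.card_sigma, Finset.sum_congr rfl fun c _ => hfib c, Finset.sum_const, Finset.card_univ,
    smul_eq_mul, Fintype.card_subtype_compl, Fintype.card_subtype_eq, Nat.card_eq_fintype_card,
    Fintype.card_subtype_compl, Fintype.card_subtype_eq, Fintype.card_fun, Fintype.card_fin,
    hF] at h
  have hq : 2 ≤ q := hF ▸ Fintype.one_lt_card
  refine Nat.eq_of_mul_eq_mul_left (show 0 < q - 1 by omega) (h.symm.trans ?_)
  rw [show q ^ 2 - 1 = q ^ 2 - 1 ^ 2 by simp, Nat.sq_sub_sq]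
  ring

theorem card_OQ_qBin [Fintype F] {q : ℕ} (hF : Fintype.card F = q) {a b : F}
    (hab : ∀ z₁ z₂ : F, z₁ ^ 2 + a * z₁ * z₂ + b * z₂ ^ 2 = 0 → z₁ = 0 ∧ z₂ = 0) :
    Nat.card (OQ (qBin a b)) = 2 * (q + 1) := by
  classical
  have hd := discr_ne_zero hab
  have hQ := qBin_nondeg hab
  let e₀ : Fin 2 → F := ![1, 0]
  let e₁ : Fin 2 → F := ![0, 1]
  have he₀ : qBin a b e₀ = 1 := by simp [qBin_apply, e₀]
  have hexp : ∀ v : Fin 2 → F, v = v 0 • e₀ + v 1 • e₁ := fun v => by
    funext i; fin_cases i <;> simp [e₀, e₁]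
  have hfinE : Finite ((Fin 2 → F) ≃ₗ[F] (Fin 2 → F)) :=
    Finite.of_injective (fun e => (e : (Fin 2 → F) → (Fin 2 → F))) DFunLike.coe_injective
  let π : OQ (qBin a b) → {z : Fin 2 → F // qBin a b z = 1} := fun g =>
    ⟨(g : (Fin 2 → F) ≃ₗ[F] (Fin 2 → F)) e₀, by rw [OQ.map_apply, he₀]⟩
  have htrans : ∀ z : {z : Fin 2 → F // qBin a b z = 1}, ∃ g, π g = z := fun z => by
    have hne : e₀ ≠ 0 := fun h => by simpa [e₀] using congrFun h 0
    let e := LinearEquiv.toSpanNonzeroSingleton F (Fin 2 → F) e₀ hne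
    have hzne : z.1 ≠ 0 := fun h => by
      have := z.2
      rw [h, QuadraticMap.map_zero] at this
      exact zero_ne_one this
    obtain ⟨g, hg⟩ := witt hQ (Submodule.span F {e₀})
      ((LinearMap.id.smulRight z.1).comp (e.symm : _ →ₗ[F] F))
      ((smul_left_injective F hzne).comp e.symm.injective) fun x => by
        obtain ⟨c, rfl⟩ := e.surjective x
        simp only [LinearMap.comp_apply, LinearEquiv.coe_coe, LinearEquiv.symm_apply_apply,
          LinearMap.smulRight_apply, LinearMap.id_apply]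
        rw [apply_smul, z.2]
        simp [e, LinearEquiv.toSpanNonzeroSingleton, apply_smul, he₀]
    refine ⟨g, Subtype.ext ?_⟩
    have h1 := hg (e 1)
    simp only [LinearMap.comp_apply, LinearEquiv.coe_coe, LinearMap.smulRight_apply,
      LinearMap.id_apply] at h1
    rw [e.symm_apply_apply, one_smul] at h1
    simp only [e, LinearEquiv.toSpanNonzeroSingleton_one] at h1
    exact h1
  -- the stabiliser of `e₀`
  let S := {g : OQ (qBin a b) // (g : (Fin 2 → F) ≃ₗ[F] (Fin 2 → F)) e₀ = e₀}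
  let T := {v : Fin 2 → F // 2 * v 0 + a * v 1 = a ∧ qBin a b v = b}
  let f : S → T := fun g => ⟨(g.1 : (Fin 2 → F) ≃ₗ[F] (Fin 2 → F)) e₁, by
    constructor
    · have h1 := OQ.map_polar g.1 e₀ e₁
      rw [g.2] at h1
      simpa [polar_qBin, e₀, e₁] using h1
    · rw [OQ.map_apply]
      simp [qBin_apply, e₁]⟩
  have hf : Function.Bijective f := by
    refine ⟨fun g g' h => ?_, fun v => ?_⟩
    · have h1 : (g.1 : (Fin 2 → F) ≃ₗ[F] (Fin 2 → F)) e₁ = (g'.1 : (Fin 2 → F) ≃ₗ[F] (Fin 2 → F)) e₁ := congrArg Subtype.val h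
      refine Subtype.ext (Subtype.ext (LinearEquiv.ext fun w => ?_))
      rw [hexp w, map_add, map_add, map_smul, map_smul, map_smul, map_smul, h1, g.2, g'.2]
    · obtain ⟨v, hv1, hv2⟩ := v
      let L : (Fin 2 → F) →ₗ[F] (Fin 2 → F) :=
        (LinearMap.proj 0).smulRight e₀ + (LinearMap.proj 1).smulRight v
      have hL : ∀ w, qBin a b (L w) = qBin a b w := fun w => by
        simp only [L, LinearMap.add_apply, LinearMap.smulRight_apply, LinearMap.proj_apply,
          apply_add, apply_smul, polar_smul_left', polar_smul_right', he₀, hv2]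
        simp only [polar_qBin, e₀, qBin_apply]
        simp
        linear_combination (w 0 * w 1) * hv1
      refine ⟨⟨ofPreserves hQ L hL, ?_⟩, Subtype.ext ?_⟩
      · simp [L, e₀]
      · show (ofPreserves hQ L hL : (Fin 2 → F) ≃ₗ[F] (Fin 2 → F)) e₁ = v
        simp [L, e₁]
  have hT : Nat.card T = 2 := by
    by_cases h2 : (2 : F) = 0
    · have ha : a ≠ 0 := fun h => hd (by rw [h]; linear_combination (2 * b) * h2)
      have hT' : ∀ v : Fin 2 → F, (2 * v 0 + a * v 1 = a ∧ qBin a b v = b) ↔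
          v ∈ ({![0, 1], ![a, 1]} : Set (Fin 2 → F)) := by
        intro v
        constructor
        · rintro ⟨h1, h3⟩
          have hv1 : v 1 = 1 := mul_left_cancel₀ ha (by linear_combination h1 - v 0 * h2)
          rw [qBin_apply, hv1] at h3
          have : v 0 * (v 0 - a) = 0 := by linear_combination h3 - (a * v 0) * h2
          rcases mul_eq_zero.1 this with h4 | h4
          · left
            funext i; fin_cases i <;> simp [hv1, h4]
          · right
            funext i; fin_cases i <;> simp [hv1, sub_eq_zero.1 h4]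
        · rintro (rfl | rfl) <;> simp [qBin_apply] <;>
            first
              | exact Or.inl h2
              | linear_combination a * h2
              | exact ⟨by linear_combination a * h2, by linear_combination (a * a) * h2⟩
              | exact ⟨Or.inl h2, by linear_combination (a * a) * h2⟩
      rw [Nat.card_congr (Equiv.subtypeEquivRight hT')]
      show Nat.card ({![0, 1], ![a, 1]} : Set (Fin 2 → F)) = 2
      rw [Nat.card_coe_set_eq, Set.ncard_pair fun h => ha (by simpa using (congrFun h 0).symm)]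
    · have hT' : ∀ v : Fin 2 → F, (2 * v 0 + a * v 1 = a ∧ qBin a b v = b) ↔
          v ∈ ({![0, 1], ![a, -1]} : Set (Fin 2 → F)) := by
        intro v
        constructor
        · rintro ⟨h1, h3⟩
          rw [qBin_apply] at h3
          have h4 : (4 * b - a ^ 2) * (v 1 ^ 2 - 1) = 0 := by
            linear_combination 4 * h3 - (2 * v 0 + a * v 1 + a) * h1
          rcases sq_eq_one_iff.1 (sub_eq_zero.1 ((mul_eq_zero.1 h4).resolve_left hd)) with h5 | h5
          · left
            have h6 : v 0 = 0 := mul_left_cancel₀ h2 (by rw [h5] at h1; linear_combination h1)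
            funext i; fin_cases i <;> simp [h5, h6]
          · right
            have h6 : v 0 = a := mul_left_cancel₀ h2 (by rw [h5] at h1; linear_combination h1)
            funext i; fin_cases i <;> simp [h5, h6]
        · rintro (rfl | rfl) <;> simp [qBin_apply] <;>
            first
              | linear_combination (0 : F) * h2
              | exact ⟨by ring, by ring⟩
              | ring
      rw [Nat.card_congr (Equiv.subtypeEquivRight hT')]
      show Nat.card ({![0, 1], ![a, -1]} : Set (Fin 2 → F)) = 2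
      rw [Nat.card_coe_set_eq, Set.ncard_pair fun h => h2 (by
        have := congrFun h 1
        simp at this
        linear_combination this)]
  have hfib : ∀ z, Nat.card {g : OQ (qBin a b) // π g = z} = 2 := fun z => by
    obtain ⟨g₀, hg₀⟩ := htrans z
    have hg₀' : (g₀ : (Fin 2 → F) ≃ₗ[F] (Fin 2 → F)) e₀ = z.1 := congrArg Subtype.val hg₀
    refine Eq.trans ?_ hT
    rw [← Nat.card_congr (Equiv.ofBijective f hf)]
    refine (Nat.card_congr ((Equiv.mulLeft g₀).subtypeEquiv fun g => ?_)).symm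
    show _ ↔ π (g₀ * g) = z
    rw [Subtype.ext_iff]
    show _ ↔ (g₀ : (Fin 2 → F) ≃ₗ[F] (Fin 2 → F)) ((g : (Fin 2 → F) ≃ₗ[F] (Fin 2 → F)) e₀) = z.1
    rw [← hg₀', EmbeddingLike.apply_eq_iff_eq]
  have : Fintype {z : Fin 2 → F // qBin a b z = 1} := Fintype.ofFinite _
  rw [← Nat.card_congr (Equiv.sigmaFiberEquiv π), Nat.card_sigma,
    Finset.sum_congr rfl fun z _ => hfib z, Finset.sum_const, Finset.card_univ, smul_eq_mul,
    ← Nat.card_eq_fintype_card, card_qBin_one hF hab]
  ring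

theorem card_isometryGroup_eq {ι : Type} [Fintype ι] [DecidableEq ι] (Q : QuadraticForm F (ι → F))
    {f : (ι → F) → F} (h : ⇑Q = f) : Nat.card (Cfsg.isometryGroup F f) = Nat.card (OQ Q) := by
  subst h
  exact Nat.card_congr (oEquiv Q).toEquiv

theorem card_OQ_qOdd [Fintype F] {q : ℕ} (hF : Fintype.card F = q) (h2 : (2 : F) ≠ 0) (m : ℕ) :
    Nat.card (OQ (qOdd m F)) =
      2 * q ^ (m ^ 2) * ∏ i ∈ Finset.range m, (q ^ (2 * (i + 1)) - 1) := by
  induction m with
  | zero => simp [card_OQ_qOdd_zero h2]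
  | succ m ih =>
    rw [card_OQ_congr (qOdd m F) (qOdd (m + 1) F) (qOdd_nondeg h2 m) (oddSplit m F)
      (oddSplit_preserves m), ih]
    simp only [coe_qOdd]
    rw [card_zero_odd hF, Nat.card_fun, Nat.card_eq_fintype_card (α := F), hF,
      Nat.card_eq_fintype_card, Fintype.card_sum, Fintype.card_sum, Fintype.card_unit,
      Fintype.card_fin, Finset.prod_range_succ]
    ring

theorem card_OQ_qPlus [Fintype F] {q : ℕ} (hF : Fintype.card F = q) (m : ℕ) :
    Nat.card (OQ (qPlus (m + 1) F)) =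
      2 * q ^ ((m + 1) * m) * (q ^ (m + 1) - 1) * ∏ i ∈ Finset.range m, (q ^ (2 * (i + 1)) - 1) := by
  have hq2 : 2 ≤ q := hF ▸ Fintype.one_lt_card
  have hp : ∀ k, 1 ≤ q ^ k := fun k => Nat.one_le_pow _ _ (by omega)
  have hN : ∀ m, (Nat.card {v : Fin (m + 1) ⊕ Fin (m + 1) → F //
      qPlus (m + 1) F v = 0} - 1 : ℕ) = (q ^ (m + 1) - 1) * (q ^ m + 1) := fun m => by
    have h := card_quadFormPlus_zero hF (m + 1) (by omega)
    simp only [coe_qPlus]
    rw [h, show 2 * (m + 1) - 1 = 2 * m + 1 by omega, Nat.add_sub_cancel]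
    have hle : q ^ m ≤ q ^ (2 * m + 1) + q ^ (m + 1) :=
      le_trans (Nat.pow_le_pow_right (by omega) (by omega)) (Nat.le_add_left _ _)
    have hle2 : 1 ≤ q ^ (2 * m + 1) + q ^ (m + 1) - q ^ m := by
      have : q ^ m < q ^ (m + 1) := Nat.pow_lt_pow_right (by omega) (by omega)
      omega
    zify [hle, hle2, hp (m + 1)]
    ring
  induction m with
  | zero =>
    have h0 : Nat.card (OQ (qPlus 0 F)) = 1 := by
      rw [Nat.card_eq_one_iff_unique]
      exact ⟨⟨fun g g' => Subtype.ext (LinearEquiv.ext fun v => Subsingleton.elim _ _)⟩, ⟨1⟩⟩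
    rw [card_OQ_congr (qPlus 0 F) (qPlus 1 F) (qPlus_nondeg 0) (plusSplit 0 F)
      (plusSplit_preserves 0), h0, hN 0, Nat.card_fun, Nat.card_eq_fintype_card (α := F), hF,
      Nat.card_eq_fintype_card, Fintype.card_sum, Fintype.card_fin]
    simp
    ring
  | succ m ih =>
    rw [card_OQ_congr (qPlus (m + 1) F) (qPlus (m + 1 + 1) F) (qPlus_nondeg _) (plusSplit (m + 1) F)
      (plusSplit_preserves _), ih, hN (m + 1), Nat.card_fun, Nat.card_eq_fintype_card (α := F), hF,
      Nat.card_eq_fintype_card, Fintype.card_sum, Fintype.card_fin, Finset.prod_range_succ]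
    zify [hp (m + 1), hp (m + 1 + 1), hp (2 * (m + 1))]
    ring

theorem card_OQ_qMinus [Fintype F] {q : ℕ} (hF : Fintype.card F = q) (m : ℕ) {a b : F}
    (hab : ∀ z₁ z₂ : F, z₁ ^ 2 + a * z₁ * z₂ + b * z₂ ^ 2 = 0 → z₁ = 0 ∧ z₂ = 0) :
    Nat.card (OQ (qMinus m F a b)) =
      2 * q ^ ((m + 1) * m) * (q ^ (m + 1) + 1) * ∏ i ∈ Finset.range m, (q ^ (2 * (i + 1)) - 1) := by
  have hq2 : 2 ≤ q := hF ▸ Fintype.one_lt_card
  have hp : ∀ k, 1 ≤ q ^ k := fun k => Nat.one_le_pow _ _ (by omega)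
  induction m with
  | zero =>
    let e : ((Fin 0 ⊕ Fin 0) ⊕ Fin 2 → F) ≃ₗ[F] (Fin 2 → F) :=
      LinearEquiv.funCongrLeft F F (Equiv.emptySum (Fin 0 ⊕ Fin 0) (Fin 2)).symm
    rw [Nat.card_congr (isoCongrEq (f := fun u _ => qMinus 0 F a b u)
      (f' := fun u _ => qBin a b u) e fun u _ => by
        simp [e, coe_qMinus, Cfsg.quadFormMinus, qBin_apply, LinearEquiv.funCongrLeft_apply,
          LinearMap.funLeft_apply]).toEquiv, card_OQ_qBin hF hab]
    simp
  | succ m ih =>
    have hN : (Nat.card {v : (Fin (m + 1) ⊕ Fin (m + 1)) ⊕ Fin 2 → F //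
        qMinus (m + 1) F a b v = 0} - 1 : ℕ) = (q ^ (m + 2) + 1) * (q ^ (m + 1) - 1) := by
      have h := card_zero_minus hF (m + 1) hab
      simp only [coe_qMinus]
      have hpos : 1 ≤ Nat.card {v : (Fin (m + 1) ⊕ Fin (m + 1)) ⊕ Fin 2 → F //
          Cfsg.quadFormMinus (m + 1) F a b v = 0} :=
        Nat.card_pos_iff.2 ⟨⟨⟨0, by simp [Cfsg.quadFormMinus]⟩⟩, inferInstance⟩
      zify [hpos, hp (m + 1)]
      rw [h]
      ring
    rw [card_OQ_congr (qMinus m F a b) (qMinus (m + 1) F a b) (qMinus_nondeg hab m) (minusSplit m F)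
      (minusSplit_preserves m a b), ih, hN, Nat.card_fun, Nat.card_eq_fintype_card (α := F), hF,
      Nat.card_eq_fintype_card, Fintype.card_sum, Fintype.card_sum, Fintype.card_fin,
      Fintype.card_fin, Finset.prod_range_succ]
    zify [hp (m + 1), hp (2 * (m + 1))]
    ring

end CfsgLib.Classical.Quad
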