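import Cfsg.Agent.Lib.Classical.Quad.CommutatorIndex
import Cfsg.Agent.Lib.Classical.Quad.StandardForms

/-!
`Ω`, `SO` and subgroups of index two in the matrix isometry groups; the position of `-1`.
-/

set_option autoImplicit false

namespace CfsgLib.Classical.Quad

open QuadraticMap (polar polarBilin)
open scoped commutatorElement

variable {F : Type*} [Field F] {ι : Type} [Fintype ι] [DecidableEq ι] {Q : QuadraticForm F (ι → F)}

theorem hex_of_card [Fintype F] {n : ℕ} (h : Fintype.card F ≠ 2 ∨ n ≠ 4) :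
    (∃ c : F, c ≠ 0 ∧ c ≠ 1) ∨ n ≠ 4 := by
  refine h.imp_left fun h => ?_
  classical
  by_contra hc
  push Not at hc
  refine h (le_antisymm ?_ Fintype.one_lt_card)
  rw [← Finset.card_univ]
  exact (Finset.card_le_card fun x _ => show x ∈ ({0, 1} : Finset F) by
    by_cases h0 : x = 0
    · simp [h0]
    · simp [hc x h0]).trans Finset.card_le_two

theorem hex_of_two_ne_zero (h2 : (2 : F) ≠ 0) {n : ℕ} : (∃ c : F, c ≠ 0 ∧ c ≠ 1) ∨ n ≠ 4 :=
  Or.inl ⟨-1, by simp, fun h => h2 (by linear_combination -h)⟩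

theorem reflGroup_pi_eq_top (hQ : (polarBilin Q).Nondegenerate)
    (hex : (∃ c : F, c ≠ 0 ∧ c ≠ 1) ∨ Fintype.card ι ≠ 4) : reflGroup Q = ⊤ :=
  reflGroup_eq_top hQ (hex.imp_right fun h => by rwa [Module.finrank_pi])

/-- Parity and spinor norm on the matrix group. -/
noncomputable def invHomM (hQ : (polarBilin Q).Nondegenerate)
    (hex : (∃ c : F, c ≠ 0 ∧ c ≠ 1) ∨ Fintype.card ι ≠ 4) :
    Cfsg.isometryGroup F (⇑Q) →* Multiplicative (ZMod 2) × SqClass F :=
  (invHom hQ (reflGroup_pi_eq_top hQ hex)).comp (oEquiv Q).toMonoidHom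

theorem invHomM_surjective [Finite F] (hQ : (polarBilin Q).Nondegenerate)
    (hex : (∃ c : F, c ≠ 0 ∧ c ≠ 1) ∨ Fintype.card ι ≠ 4) (hn : 2 ≤ Fintype.card ι) :
    Function.Surjective (invHomM hQ hex) :=
  (invHom_surjective hQ (reflGroup_pi_eq_top hQ hex) (by rwa [Module.finrank_pi])).comp (oEquiv Q).surjective

theorem ker_invHomM [Finite F] (hQ : (polarBilin Q).Nondegenerate)
    (hex : (∃ c : F, c ≠ 0 ∧ c ≠ 1) ∨ Fintype.card ι ≠ 4) (hn : 2 ≤ Fintype.card ι) :
    (invHomM hQ hex).ker = Cfsg.Omega F (⇑Q) := by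
  rw [invHomM, ← MonoidHom.comap_ker, ker_invHom_eq_commutator hQ _ (by rwa [Module.finrank_pi])]
  refine le_antisymm ?_ ?_
  · intro x hx
    have h : (commutator (OQ Q)).map (oEquiv Q).symm.toMonoidHom ≤
        commutator (Cfsg.isometryGroup F (⇑Q)) := by
      rw [commutator_def, commutator_def, Subgroup.map_commutator]
      exact Subgroup.commutator_mono le_top le_top
    exact h ⟨oEquiv Q x, hx, (oEquiv Q).symm_apply_apply x⟩
  · have h : (commutator (Cfsg.isometryGroup F (⇑Q))).map (oEquiv Q).toMonoidHom ≤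
        commutator (OQ Q) := by
      rw [commutator_def, commutator_def, Subgroup.map_commutator]
      exact Subgroup.commutator_mono le_top le_top
    exact fun x hx => h ⟨x, hx, rfl⟩

theorem index_Omega [Finite F] (hQ : (polarBilin Q).Nondegenerate)
    (hex : (∃ c : F, c ≠ 0 ∧ c ≠ 1) ∨ Fintype.card ι ≠ 4) (hn : 2 ≤ Fintype.card ι) :
    (Cfsg.Omega F (⇑Q)).index = 2 * Nat.card (SqClass F) := by
  rw [← ker_invHomM hQ hex hn, Subgroup.index_ker,
    MonoidHom.range_eq_top.2 (invHomM_surjective hQ hex hn), Subgroup.card_top, Nat.card_prod]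
  simp

theorem index_specialIsometryGroup [Finite F] (hQ : (polarBilin Q).Nondegenerate)
    (hn : 1 ≤ Fintype.card ι) :
    (Cfsg.specialIsometryGroup F (⇑Q)).index = Nat.card (SqClass F) := by
  rw [Cfsg.specialIsometryGroup, Subgroup.index_ker]
  have hsub : ∀ x ∈ Set.range (Matrix.GeneralLinearGroup.det.comp (Cfsg.isometryGroup F (⇑Q)).subtype),
      x = 1 ∨ x = -1 := by
    rintro _ ⟨g, rfl⟩
    rcases det_eq_one_or_neg_one Q hQ g with h | h
    · exact Or.inl (Units.ext (by simpa using h))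
    · exact Or.inr (Units.ext (by simpa using h))
  by_cases h2 : (2 : F) = 0
  · rw [card_sqClass_of_two_eq_zero h2, Subgroup.card_eq_one, eq_bot_iff]
    intro x hx
    rcases hsub x hx with rfl | rfl
    · exact one_mem _
    · exact Units.ext (by simp; linear_combination -h2)
  · have : Nontrivial (ι → F) := Module.nontrivial_of_finrank_pos (R := F)
      (by rw [Module.finrank_pi]; omega)
    obtain ⟨v, hv⟩ := exists_apply_ne_zero hQ
    obtain ⟨g, hg⟩ := exists_det_neg_one Q hv
    rw [card_sqClass_of_odd h2]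
    show Nat.card (Set.range (Matrix.GeneralLinearGroup.det.comp
      (Cfsg.isometryGroup F (⇑Q)).subtype)) = 2
    have hr : Set.range (Matrix.GeneralLinearGroup.det.comp (Cfsg.isometryGroup F (⇑Q)).subtype) =
        {1, -1} := by
      refine Set.Subset.antisymm (fun x hx => hsub x hx) ?_
      rintro x (rfl | rfl)
      · exact ⟨1, map_one _⟩
      · exact ⟨g, Units.ext (by simpa using hg)⟩
    rw [hr, Nat.card_coe_set_eq, Set.ncard_pair]
    intro h
    have h3 := congrArg (fun u : Fˣ => (u : F)) h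
    simp only [Units.val_one, Units.val_neg] at h3
    exact h2 (by linear_combination h3)

theorem Omega_le_squares (hQ : (polarBilin Q).Nondegenerate)
    (hex : (∃ c : F, c ≠ 0 ∧ c ≠ 1) ∨ Fintype.card ι ≠ 4) :
    Cfsg.Omega F (⇑Q) ≤
      Subgroup.closure {y | ∃ x ∈ Cfsg.specialIsometryGroup F (⇑Q), y = x * x} := by
  set S := Subgroup.closure {y | ∃ x ∈ Cfsg.specialIsometryGroup F (⇑Q), y = x * x} with hS
  have hnS : S.Normal := by
    refine ⟨fun n hn g => ?_⟩
    have hle : S ≤ S.comap (MulAut.conj g).toMonoidHom := by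
      refine (Subgroup.closure_le _).2 ?_
      rintro _ ⟨x, hx, rfl⟩
      refine Subgroup.subset_closure ⟨g * x * g⁻¹, ?_, by simp [mul_assoc]⟩
      have hnSO : (Cfsg.specialIsometryGroup F (⇑Q)).Normal := MonoidHom.normal_ker _
      exact hnSO.conj_mem x hx g
    exact hle hn
  rw [Cfsg.Omega, commutator_def, Subgroup.commutator_le]
  rintro x - y -
  -- the images of the generating reflections commute
  let π := QuotientGroup.mk' S
  let R := {g : Cfsg.isometryGroup F (⇑Q) | ∃ v : ι → F, Q v ≠ 0 ∧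
    ((g : Matrix.GeneralLinearGroup ι F) : Matrix ι ι F) = Cfsg.reflectionMatrix (⇑Q) v}
  have hR : ∀ r ∈ R, r * r = 1 ∧
      Matrix.GeneralLinearGroup.det (r : Matrix.GeneralLinearGroup ι F) = -1 := by
    rintro r ⟨v, hv, hrv⟩
    refine ⟨(oEquiv Q).injective ?_, Units.ext ?_⟩
    · rw [map_mul, map_one, (oEquiv_eq_refl_iff Q hv r).1 hrv, refl_mul_self]
    · rw [Matrix.GeneralLinearGroup.val_det_apply, hrv, det_reflectionMatrix Q hv]
      simp
  have hcomm : ∀ r ∈ R, ∀ r' ∈ R, π r * π r' = π r' * π r := by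
    intro r hr r' hr'
    have h1 : r * r' * (r * r') ∈ S := Subgroup.subset_closure ⟨r * r', by
      show Matrix.GeneralLinearGroup.det ((r * r' : Cfsg.isometryGroup F (⇑Q)) :
        Matrix.GeneralLinearGroup ι F) = 1
      rw [Subgroup.coe_mul, map_mul, (hR r hr).2, (hR r' hr').2, neg_mul_neg, one_mul], rfl⟩
    have h2 : π (r * r' * (r * r')) = 1 := (QuotientGroup.eq_one_iff _).2 h1
    rw [map_mul, map_mul] at h2
    have e : (π r' * π r) * (π r * π r') = 1 := by
      rw [mul_assoc, ← mul_assoc (π r) (π r), ← map_mul, (hR r hr).1, map_one, one_mul, ← map_mul,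
        (hR r' hr').1, map_one]
    exact eq_inv_of_mul_eq_one_left h2 |>.trans (eq_inv_of_mul_eq_one_left e).symm
  have hcl : Subgroup.closure R = ⊤ := closure_reflectionMatrix_eq_top Q hQ hex
  have h3 : ∀ a, ∀ r ∈ R, π a * π r = π r * π a := by
    intro a r hr
    have ha : a ∈ Subgroup.closure R := hcl ▸ Subgroup.mem_top a
    have hle : Subgroup.closure R ≤ (Subgroup.centralizer {π r}).comap π :=
      (Subgroup.closure_le _).2 fun r' hr' =>
        Subgroup.mem_centralizer_iff.2 fun z hz => by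
          rw [Set.mem_singleton_iff.1 hz]; exact hcomm r hr r' hr'
    exact (Subgroup.mem_centralizer_iff.1 (hle ha) (π r) rfl).symm
  have h4 : π x * π y = π y * π x := by
    have hy : y ∈ Subgroup.closure R := hcl ▸ Subgroup.mem_top y
    have hle : Subgroup.closure R ≤ (Subgroup.centralizer {π x}).comap π :=
      (Subgroup.closure_le _).2 fun r hr => Subgroup.mem_centralizer_iff.2 fun z hz => by
        rw [Set.mem_singleton_iff.1 hz]; exact h3 x r hr
    exact Subgroup.mem_centralizer_iff.1 (hle hy) (π x) rfl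
  rw [← QuotientGroup.eq_one_iff]
  show π ⁅x, y⁆ = 1
  rw [map_commutatorElement, commutatorElement_eq_one_iff_mul_comm, h4]

theorem existsUnique_index_two [Finite F] (hQ : (polarBilin Q).Nondegenerate)
    (hex : (∃ c : F, c ≠ 0 ∧ c ≠ 1) ∨ Fintype.card ι ≠ 4) (hn : 2 ≤ Fintype.card ι) :
    ∃! H : Subgroup ↥(Cfsg.specialIsometryGroup F ⇑Q), H.index = 2 := by
  set SO := Cfsg.specialIsometryGroup F (⇑Q) with hSO
  set K := Cfsg.Omega F (⇑Q)
  have hle : K ≤ SO := (Omega_le_squares hQ hex).trans ((Subgroup.closure_le _).2 (by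
    rintro _ ⟨x, hx, rfl⟩; exact mul_mem hx hx))
  have hKi : (K.subgroupOf SO).index = 2 := by
    have h := Subgroup.relIndex_mul_index hle
    rw [index_specialIsometryGroup hQ (by omega), index_Omega hQ hex hn] at h
    have h1 : Nat.card (SqClass F) ≠ 0 := by
      have : Finite (SqClass F) := Finite.of_surjective _ (toSqClass_surjective F)
      exact Nat.card_pos.ne'
    exact Nat.eq_of_mul_eq_mul_right (Nat.pos_of_ne_zero h1) h
  refine ⟨K.subgroupOf SO, hKi, fun H hH => ?_⟩
  have h1 : K.subgroupOf SO ≤ H := by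
    intro x hx
    have h2 : Subgroup.closure {y | ∃ x ∈ SO, y = x * x} ≤ H.map SO.subtype := by
      refine (Subgroup.closure_le _).2 ?_
      rintro _ ⟨z, hz, rfl⟩
      exact ⟨⟨z, hz⟩ * ⟨z, hz⟩, Subgroup.mul_self_mem_of_index_two hH _, rfl⟩
    obtain ⟨y, hy, e⟩ := h2 (Omega_le_squares hQ hex (Subgroup.mem_subgroupOf.1 hx))
    rwa [← Subtype.ext (a1 := y) (a2 := x) e]
  have h3 := Subgroup.relIndex_mul_index h1
  rw [hH, hKi] at h3
  exact le_antisymm (Subgroup.relIndex_eq_one.1 (by omega)) h1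

theorem commutator_le_of_index_two {G : Type*} [Group G] {H : Subgroup G} (h : H.index = 2) :
    commutator G ≤ H := by
  rw [commutator_def, Subgroup.commutator_le]
  rintro x - y -
  rw [commutatorElement_def]
  simp only [Subgroup.mul_mem_iff_of_index_two h, inv_mem_iff]
  tauto

theorem card_index_two_subgroups [Finite F] (hQ : (polarBilin Q).Nondegenerate) (h2 : (2 : F) ≠ 0)
    (hn : 2 ≤ Fintype.card ι) :
    Nat.card {H : Subgroup ↥(Cfsg.isometryGroup F ⇑Q) // H.index = 2} = 3 := by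
  classical
  have hex := hex_of_two_ne_zero h2 (n := Fintype.card ι)
  let f := invHomM hQ hex
  have hf : Function.Surjective f := invHomM_surjective hQ hex hn
  have : Finite (SqClass F) := Finite.of_surjective _ (toSqClass_surjective F)
  have hK : Nat.card (Multiplicative (ZMod 2) × SqClass F) = 4 := by
    rw [Nat.card_prod, card_sqClass_of_odd h2]
    simp
  have hmm : ∀ k : Multiplicative (ZMod 2) × SqClass F, k * k = 1 := fun k => by
    refine Prod.ext ?_ (sqClass_mul_self _)
    show k.1 * k.1 = 1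
    exact (by decide : ∀ a : Multiplicative (ZMod 2), a * a = 1) _
  have hord : ∀ k : {k : Multiplicative (ZMod 2) × SqClass F // k ≠ 1},
      orderOf k.1 = 2 := fun k => orderOf_eq_prime (by rw [pow_two, hmm]) k.2
  let e : {k : Multiplicative (ZMod 2) × SqClass F // k ≠ 1} →
      {H : Subgroup ↥(Cfsg.isometryGroup F ⇑Q) // H.index = 2} := fun k =>
    ⟨(Subgroup.zpowers k.1).comap f, by
      rw [Subgroup.index_comap_of_surjective _ hf]
      have h := Subgroup.card_mul_index (Subgroup.zpowers k.1)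
      rw [Nat.card_zpowers, hord k, hK] at h
      omega⟩
  have he : Function.Bijective e := by
    refine ⟨fun k k' h => ?_, fun H => ?_⟩
    · have h1 := Subgroup.comap_injective hf (congrArg Subtype.val h)
      have h2 : k.1 ∈ Subgroup.zpowers k'.1 := h1 ▸ Subgroup.mem_zpowers k.1
      obtain ⟨z, hz⟩ := Subgroup.mem_zpowers_iff.1 h2
      apply Subtype.ext
      rw [← zpow_mod_orderOf, hord k'] at hz
      rcases Int.emod_two_eq_zero_or_one z with hz0 | hz0
      · rw [show ((2 : ℕ) : ℤ) = 2 from rfl, hz0, zpow_zero] at hz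
        exact absurd hz.symm k.2
      · rw [show ((2 : ℕ) : ℤ) = 2 from rfl, hz0, zpow_one] at hz
        exact hz.symm
    · obtain ⟨H, hH⟩ := H
      have hker : f.ker ≤ H := (ker_invHomM hQ hex hn).le.trans (commutator_le_of_index_two hH)
      have hidx : (H.map f).index = 2 := by rw [Subgroup.index_map_eq H hf hker, hH]
      have hcard : Nat.card (H.map f) = 2 := by
        have h := Subgroup.card_mul_index (H.map f)
        rw [hidx, hK] at h
        omega
      obtain ⟨k, hk, hk1⟩ : ∃ k ∈ H.map f, k ≠ 1 := by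
        by_contra hc
        push Not at hc
        rw [(Subgroup.eq_bot_iff_forall _).2 hc, Subgroup.card_bot] at hcard
        omega
      refine ⟨⟨k, hk1⟩, Subtype.ext ?_⟩
      show (Subgroup.zpowers k).comap f = H
      rw [Subgroup.eq_of_le_of_card_ge ((Subgroup.zpowers_le).2 hk)
        (by rw [hcard, Nat.card_zpowers, hord ⟨k, hk1⟩]), Subgroup.comap_map_eq_self hker]
  rw [← Nat.card_congr (Equiv.ofBijective e he)]
  have : Fintype (Multiplicative (ZMod 2) × SqClass F) := Fintype.ofFinite _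
  rw [Nat.card_eq_fintype_card, Fintype.card_subtype_compl, Fintype.card_subtype_eq,
    ← Nat.card_eq_fintype_card, hK]

theorem neg_one_mem_Omega_iff [Finite F] (hQ : (polarBilin Q).Nondegenerate) (h2 : (2 : F) ≠ 0)
    (hn : 2 ≤ Fintype.card ι) (heven : Even (Fintype.card ι)) :
    (∃ g : ↥(Cfsg.isometryGroup F (⇑Q)), g ∈ Cfsg.Omega F (⇑Q) ∧
      ((g : Matrix.GeneralLinearGroup ι F) : Matrix ι ι F) = -1) ↔
      IsSquare (LinearMap.BilinForm.toMatrix (Pi.basisFun F ι) (polarBilin Q)).det := by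
  classical
  have hex := hex_of_two_ne_zero h2 (n := Fintype.card ι)
  let g₀ : OQ Q := ofPreserves hQ (-LinearMap.id) fun z => by simp
  let g₁ := (oEquiv Q).symm g₀
  have hg₁ : ((g₁ : Matrix.GeneralLinearGroup ι F) : Matrix ι ι F) = -1 := by
    refine Matrix.toLin'.injective (LinearMap.ext fun z => ?_)
    rw [Matrix.toLin'_apply, Matrix.toLin'_apply, ← oEquiv_apply Q g₁, MulEquiv.apply_symm_apply,
      Matrix.neg_mulVec, Matrix.one_mulVec]
    simp [g₀]
  have huniq : ∀ g : ↥(Cfsg.isometryGroup F (⇑Q)),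
      ((g : Matrix.GeneralLinearGroup ι F) : Matrix ι ι F) = -1 → g = g₁ := fun g h =>
    Subtype.ext (Units.ext (h.trans hg₁.symm))
  have h0 : (∃ g : ↥(Cfsg.isometryGroup F (⇑Q)), g ∈ Cfsg.Omega F (⇑Q) ∧
      ((g : Matrix.GeneralLinearGroup ι F) : Matrix ι ι F) = -1) ↔ g₁ ∈ Cfsg.Omega F (⇑Q) :=
    ⟨fun ⟨g, hg, e⟩ => huniq g e ▸ hg, fun h => ⟨g₁, h, hg₁⟩⟩
  rw [h0, ← ker_invHomM hQ hex hn, MonoidHom.mem_ker]
  have hinv : invHomM hQ hex g₁ = invariants g₀ := by
    show invariants _ = invariants g₀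
    congr 1
    exact (oEquiv Q).apply_symm_apply g₀
  let x : ι → ι → F := fun i => Pi.single i 1
  let z : ι → ι → F := fun i => (2 : F)⁻¹ • x i
  have hmov : mov g₀ = ⊤ := by
    rw [eq_top_iff]
    rintro y -
    refine ⟨(2 : F)⁻¹ • y, ?_⟩
    rw [movMap_apply]
    simp [g₀]
    rw [← two_smul F, smul_smul, mul_inv_cancel₀ h2, one_smul]
  have hspin : spinor g₀ = sqc (wallMat Q x z).det := by
    refine spinor_eq hQ g₀ (z := z) ?_ ?_ fun i => ?_
    · rw [Fintype.linearIndependent_iff]
      intro c hc i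
      have h := congrFun hc i
      simpa [x, Finset.sum_apply, Pi.single_apply] using h
    · rw [hmov, ← (Pi.basisFun F ι).span_eq]
      congr 2
      funext i; simp [x]
    · rw [movMap_apply]
      simp [g₀, z]
      rw [← two_smul F, smul_smul, mul_inv_cancel₀ h2, one_smul]
  have hM : wallMat Q x z =
      (2 : F)⁻¹ • LinearMap.BilinForm.toMatrix (Pi.basisFun F ι) (polarBilin Q) := by
    ext i j
    simp [wallMat, x, z, LinearMap.BilinForm.toMatrix_apply, polar_smul_left']
  rw [hinv, Prod.ext_iff]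
  show Multiplicative.ofAdd _ = 1 ∧ spinor g₀ = 1 ↔ _
  rw [hmov, finrank_top, Module.finrank_pi, ofAdd_eq_one, ZMod.natCast_eq_zero_iff_even, hspin, hM,
    Matrix.det_smul]
  simp only [heven, true_and]
  set D := (LinearMap.BilinForm.toMatrix (Pi.basisFun F ι) (polarBilin Q)).det with hD
  have hp : (2 : F)⁻¹ ^ Fintype.card ι ≠ 0 := pow_ne_zero _ (inv_ne_zero h2)
  have hD0 : D ≠ 0 := (LinearMap.BilinForm.nondegenerate_iff_det_ne_zero _).1 hQ
  have hsq : sqc ((2 : F)⁻¹ ^ Fintype.card ι) = 1 :=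
    (sqc_eq_one_iff hp).2 (heven.isSquare_pow _)
  rw [sqc_mul hp hD0, hsq, one_mul, sqc_eq_one_iff hD0]

theorem det_gram_qPlus (m : ℕ) :
    (LinearMap.BilinForm.toMatrix (Pi.basisFun F (Fin m ⊕ Fin m)) (polarBilin (qPlus m F))).det =
      (-1) ^ m := by
  classical
  have h : LinearMap.BilinForm.toMatrix (Pi.basisFun F (Fin m ⊕ Fin m)) (polarBilin (qPlus m F)) =
      Matrix.J (Fin m) F * Matrix.fromBlocks (1 : Matrix (Fin m) (Fin m) F) 0 0
        (-1 : Matrix (Fin m) (Fin m) F) := by
    ext i j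
    rw [LinearMap.BilinForm.toMatrix_apply, QuadraticMap.polarBilin_apply_apply, polar_qPlus,
      Matrix.J, Matrix.fromBlocks_multiply]
    rcases i with i | i <;> rcases j with j | j <;>
      simp [Pi.single_apply, Matrix.one_apply, Finset.sum_add_distrib, eq_comm]
  have hJ : (Matrix.J (Fin m) F).det = 1 := by
    rw [Matrix.J, show Matrix.fromBlocks (0 : Matrix (Fin m) (Fin m) F) (-1) 1 0 =
      Matrix.fromBlocks 1 (-1) 0 1 * Matrix.fromBlocks 1 0 1 1 * Matrix.fromBlocks 1 (-1) 0 1 by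
        simp [Matrix.fromBlocks_multiply]]
    simp [Matrix.det_mul]
  rw [h, Matrix.det_mul, hJ, Matrix.det_fromBlocks_zero₂₁]
  simp [Matrix.det_neg]

theorem det_gram_qMinus (m : ℕ) (a b : F) :
    (LinearMap.BilinForm.toMatrix (Pi.basisFun F ((Fin m ⊕ Fin m) ⊕ Fin 2))
      (polarBilin (qMinus m F a b))).det = (-1) ^ m * (4 * b - a ^ 2) := by
  classical
  have h : LinearMap.BilinForm.toMatrix (Pi.basisFun F ((Fin m ⊕ Fin m) ⊕ Fin 2))
      (polarBilin (qMinus m F a b)) = Matrix.fromBlocks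
        (LinearMap.BilinForm.toMatrix (Pi.basisFun F (Fin m ⊕ Fin m)) (polarBilin (qPlus m F)))
        0 0 !![2, a; a, 2 * b] := by
    ext i j
    rw [LinearMap.BilinForm.toMatrix_apply, QuadraticMap.polarBilin_apply_apply, polar_qMinus,
      polar_qBin]
    rcases i with i | i <;> rcases j with j | j
    · simp [LinearMap.BilinForm.toMatrix_apply, Function.comp_def, polar_qPlus, Pi.single_apply]
    · simp [Function.comp_def, polar_qPlus, Pi.single_apply]
    · simp [Function.comp_def, polar_qPlus, Pi.single_apply]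
    · have hz : qPlus m F (fun _ => (0 : F)) = 0 := QuadraticMap.map_zero _
      fin_cases i <;> fin_cases j <;> simp [hz, Function.comp_def, polar_qPlus, Pi.single_apply]
  rw [h, Matrix.det_fromBlocks_zero₂₁, det_gram_qPlus, Matrix.det_fin_two]
  simp
  ring

end CfsgLib.Classical.Quad
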