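import Cfsg.Agent.Lib.Classical.Quad.NegOne

/-!
The type of a symmetric form of even dimension through its discriminant, and tensor products.
-/

set_option autoImplicit false

namespace CfsgLib.Classical.Quad

open LinearMap (BilinForm)
open QuadraticMap (polar polarBilin)
open scoped TensorProduct Kronecker

variable {F : Type*} [Field F]

theorem exists_isometry_of_det [Finite F] (h2 : (2 : F) ≠ 0) {V W : Type*} [AddCommGroup V]
    [Module F V] [FiniteDimensional F V] [AddCommGroup W] [Module F W] [FiniteDimensional F W]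
    {B : BilinForm F V} {B' : BilinForm F W} (hS : B.IsSymm) (hB : B.Nondegenerate)
    (hS' : B'.IsSymm) (hB' : B'.Nondegenerate) {ι κ : Type*} [Fintype ι] [DecidableEq ι]
    [Fintype κ] [DecidableEq κ] (b : Module.Basis ι F V) (c : Module.Basis κ F W) {n : ℕ}
    (hn : Module.finrank F V = n + 1) (hn' : Module.finrank F W = n + 1)
    (h : IsSquare ((LinearMap.BilinForm.toMatrix b B).det *
      (LinearMap.BilinForm.toMatrix c B').det)) :
    ∃ e : V ≃ₗ[F] W, ∀ u v, B' (e u) (e v) = B u v := by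
  obtain ⟨α, hα⟩ : ∃ α : F, ¬ IsSquare α := FiniteField.exists_nonsquare fun h => h2 (by
    have := ringChar.eq_iff.1 h
    exact CharTwo.two_eq_zero)
  have hα0 : α ≠ 0 := by rintro rfl; exact hα IsSquare.zero
  obtain ⟨e, he1, he2, he3⟩ := exists_normal_basis h2 hα n B hS hB hn
  obtain ⟨f, hf1, hf2, hf3⟩ := exists_normal_basis h2 hα n B' hS' hB' hn'
  refine ⟨e.equiv f (Equiv.refl _), equiv_of_gram e f B B' ?_⟩
  set x := B (e (Fin.last n)) (e (Fin.last n))
  set y := B' (f (Fin.last n)) (f (Fin.last n))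
  have hdx : (LinearMap.BilinForm.toMatrix e B).det = x := by
    rw [det_gram_diag e B he1, Finset.prod_eq_single (Fin.last n) (fun i _ hi => he2 i hi) (by simp)]
  have hdy : (LinearMap.BilinForm.toMatrix f B').det = y := by
    rw [det_gram_diag f B' hf1, Finset.prod_eq_single (Fin.last n) (fun i _ hi => hf2 i hi) (by simp)]
  let eb : Fin (n + 1) ≃ ι := e.indexEquiv b
  let ec : Fin (n + 1) ≃ κ := f.indexEquiv c
  have h1 : IsSquare (x * y) := by
    have hb := det_gram_of_isometry (b.reindex eb.symm) e B B (LinearEquiv.refl F V) fun _ _ => rfl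
    have hc := det_gram_of_isometry (c.reindex ec.symm) f B' B' (LinearEquiv.refl F W) fun _ _ => rfl
    have rb : LinearMap.BilinForm.toMatrix (b.reindex eb.symm) B =
        (LinearMap.BilinForm.toMatrix b B).submatrix eb eb := by
      ext i j; simp [LinearMap.BilinForm.toMatrix_apply]
    have rc : LinearMap.BilinForm.toMatrix (c.reindex ec.symm) B' =
        (LinearMap.BilinForm.toMatrix c B').submatrix ec ec := by
      ext i j; simp [LinearMap.BilinForm.toMatrix_apply]
    rw [rb, Matrix.det_submatrix_equiv_self, hdx] at hb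
    rw [rc, Matrix.det_submatrix_equiv_self, hdy] at hc
    have hdb : (LinearMap.BilinForm.toMatrix b B).det ≠ 0 :=
      (LinearMap.BilinForm.nondegenerate_iff_det_ne_zero b).1 hB
    have hdc : (LinearMap.BilinForm.toMatrix c B').det ≠ 0 :=
      (LinearMap.BilinForm.nondegenerate_iff_det_ne_zero c).1 hB'
    generalize (LinearMap.toMatrix (b.reindex eb.symm) e
      ((LinearEquiv.refl F V : V ≃ₗ[F] V) : V →ₗ[F] V)).det = P at hb
    generalize (LinearMap.toMatrix (c.reindex ec.symm) f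
      ((LinearEquiv.refl F W : W ≃ₗ[F] W) : W →ₗ[F] W)).det = R at hc
    rw [hb] at hdb
    rw [hc] at hdc
    have hP : P ≠ 0 := fun h0 => hdb (by rw [h0]; ring)
    have hR : R ≠ 0 := fun h0 => hdc (by rw [h0]; ring)
    obtain ⟨r, hr⟩ := h
    rw [hb, hc] at hr
    exact ⟨r / (P * R), by field_simp; linear_combination hr⟩
  have hxy : x = y := by
    rcases he3 with h3 | h3 <;> rcases hf3 with h4 | h4 <;> rw [h3, h4] at h1 ⊢
    · exact absurd (by simpa using h1) hα
    · exact absurd (by simpa using h1) hα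
  intro i j
  by_cases hij : i = j
  · subst hij
    by_cases hi : i = Fin.last n
    · rw [hi]; exact hxy.symm
    · rw [he2 i hi, hf2 i hi]
  · rw [he1 i j hij, hf1 i j hij]

theorem exists_anisotropic_binary [Finite F] (h2 : (2 : F) ≠ 0) :
    ∃ a b : F, ∀ z₁ z₂ : F, z₁ ^ 2 + a * z₁ * z₂ + b * z₂ ^ 2 = 0 → z₁ = 0 ∧ z₂ = 0 := by
  obtain ⟨α, hα⟩ : ∃ α : F, ¬ IsSquare α := FiniteField.exists_nonsquare fun h => h2 (by
    have := ringChar.eq_iff.1 h
    exact CharTwo.two_eq_zero)
  refine ⟨0, -α, fun z₁ z₂ h => ?_⟩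
  by_cases hz : z₂ = 0
  · subst hz
    exact ⟨pow_eq_zero_iff two_ne_zero |>.1 (by linear_combination h), rfl⟩
  · exact absurd ⟨z₁ / z₂, by field_simp; linear_combination -h⟩ hα

/-- The minus-type form has no totally singular subspace of half the dimension. -/
theorem qMinus_no_half [Finite F] {a b : F}
    (hab : ∀ z₁ z₂ : F, z₁ ^ 2 + a * z₁ * z₂ + b * z₂ ^ 2 = 0 → z₁ = 0 ∧ z₂ = 0) (k : ℕ)
    (X : Submodule F ((Fin k ⊕ Fin k) ⊕ Fin 2 → F)) (hX : ∀ x ∈ X, qMinus k F a b x = 0) :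
    Module.finrank F X ≤ k := by
  classical
  let T : Submodule F ((Fin k ⊕ Fin k) ⊕ Fin 2 → F) :=
    { carrier := {v | (∀ i, v (Sum.inl (Sum.inr i)) = 0) ∧ ∀ u, v (Sum.inr u) = 0}
      zero_mem' := by simp
      add_mem' := fun {p r} hp hr => ⟨fun i => by simp [hp.1 i, hr.1 i], fun u => by simp [hp.2 u, hr.2 u]⟩
      smul_mem' := fun c p hp => ⟨fun i => by simp [hp.1 i], fun u => by simp [hp.2 u]⟩ }
  have hT : ∀ x ∈ T, qMinus k F a b x = 0 := fun x hx => by
    simp [coe_qMinus, Cfsg.quadFormMinus, hx.1, hx.2]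
  let eT : T ≃ₗ[F] (Fin k → F) :=
    { toFun := fun v i => v.1 (Sum.inl (Sum.inl i))
      map_add' := fun _ _ => rfl
      map_smul' := fun _ _ => rfl
      invFun := fun w => ⟨Sum.elim (Sum.elim w 0) 0, fun i => rfl, fun u => rfl⟩
      left_inv := fun v => by
        apply Subtype.ext
        funext x
        rcases x with (i | i) | u
        · rfl
        · exact (v.2.1 i).symm
        · exact (v.2.2 u).symm
      right_inv := fun w => rfl }
  have hTd : Module.finrank F T = k := by rw [eT.finrank_eq, Module.finrank_fin_fun]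
  have hmax : ∀ W : Submodule F ((Fin k ⊕ Fin k) ⊕ Fin 2 → F), T ≤ W →
      (∀ w ∈ W, qMinus k F a b w = 0) → W = T := by
    intro W hTW hW
    refine le_antisymm (fun v hv => ?_) hTW
    have hr : ∀ i, v (Sum.inl (Sum.inr i)) = 0 := by
      intro i
      have hi : (Pi.single (Sum.inl (Sum.inl i)) 1 : (Fin k ⊕ Fin k) ⊕ Fin 2 → F) ∈ T :=
        ⟨fun j => by simp, fun u => by simp⟩
      have h1 := hW _ (W.add_mem hv (hTW hi))
      rw [apply_add, hW v hv, hT _ hi, polar_qMinus] at h1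
      simpa [polar_qPlus, polar_qBin, Pi.single_apply] using h1
    have h0 := hW v hv
    simp [coe_qMinus, Cfsg.quadFormMinus, hr] at h0
    obtain ⟨h1, h2⟩ := hab _ _ h0
    exact ⟨hr, fun u => by fin_cases u <;> assumption⟩
  by_contra hlt
  have := finrank_eq_of_maximal (qMinus_nondeg hab k) hT hX hmax (by omega)
  omega

/-- Plus type is detected by the discriminant. -/
theorem exists_half_iff_det [Fintype F] (h2 : (2 : F) ≠ 0) {V : Type*} [AddCommGroup V] [Module F V]
    [FiniteDimensional F V] {B : BilinForm F V} (hS : B.IsSymm) (hB : B.Nondegenerate) {N : ℕ}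
    (hN : 1 ≤ N) (hV : Module.finrank F V = 2 * N) {ι : Type*} [Fintype ι] [DecidableEq ι]
    (b : Module.Basis ι F V) :
    (∃ X : Submodule F V, Module.finrank F X = N ∧ ∀ x ∈ X, ∀ y ∈ X, B x y = 0) ↔
      IsSquare ((-1) ^ N * (LinearMap.BilinForm.toMatrix b B).det) := by
  classical
  obtain ⟨k, rfl⟩ : ∃ k, N = k + 1 := ⟨N - 1, by omega⟩
  have hD0 : (LinearMap.BilinForm.toMatrix b B).det ≠ 0 :=
    (LinearMap.BilinForm.nondegenerate_iff_det_ne_zero b).1 hB
  constructor
  · rintro ⟨X, hXd, hX⟩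
    by_contra hns
    obtain ⟨a, c, hac⟩ := exists_anisotropic_binary (F := F) h2
    have hd : ¬ IsSquare (a ^ 2 - 4 * c) := by
      rintro ⟨r, hr⟩
      exact h2 (hac (r - a) 2 (by linear_combination -hr)).2
    have hsq : IsSquare ((LinearMap.BilinForm.toMatrix b B).det *
        (LinearMap.BilinForm.toMatrix (Pi.basisFun F ((Fin k ⊕ Fin k) ⊕ Fin 2))
          (polarBilin (qMinus k F a c))).det) := by
      rw [det_gram_qMinus, show (LinearMap.BilinForm.toMatrix b B).det *
        ((-1) ^ k * (4 * c - a ^ 2)) = ((-1) ^ (k + 1) * (LinearMap.BilinForm.toMatrix b B).det) *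
          (a ^ 2 - 4 * c) by ring]
      exact (isSquare_mul_iff_not h2 (mul_ne_zero (pow_ne_zero _ (by simp)) hD0) hd).2 hns
    obtain ⟨e, he⟩ := exists_isometry_of_det h2 hS hB
      (B' := polarBilin (qMinus k F a c)) ⟨fun u v => QuadraticMap.polar_comm _ u v⟩
      (qMinus_nondeg hac k) b (Pi.basisFun F _) (n := 2 * k + 1) (by omega)
      (by simp; omega) hsq
    have h := qMinus_no_half hac k (X.map (e : V →ₗ[F] _)) (by
      rintro _ ⟨x, hx, rfl⟩
      have h1 : polar (qMinus k F a c) (e x) (e x) = 0 := (he x x).trans (hX x hx x hx)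
      rw [polar_self'] at h1
      exact (mul_eq_zero.1 h1).resolve_left h2)
    rw [LinearEquiv.finrank_map_eq, hXd] at h
    omega
  · intro hs
    obtain ⟨e, he⟩ := exists_isometry_of_det h2 (B := polarBilin (qPlus (k + 1) F))
      ⟨fun u v => QuadraticMap.polar_comm _ u v⟩ (qPlus_nondeg _) hS hB (Pi.basisFun F _) b
      (n := 2 * k + 1) (by simp; omega) (by omega) (by rwa [det_gram_qPlus])
    let L : (Fin (k + 1) → F) →ₗ[F] V :=
      (e : (Fin (k + 1) ⊕ Fin (k + 1) → F) →ₗ[F] V).comp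
        ({ toFun := fun w => Sum.elim w 0
           map_add' := fun u v => by ext x; rcases x with i | i <;> simp
           map_smul' := fun r v => by ext x; rcases x with i | i <;> simp } :
          (Fin (k + 1) → F) →ₗ[F] (Fin (k + 1) ⊕ Fin (k + 1) → F))
    have hL : Function.Injective L := e.injective.comp fun u v h => funext fun i => by
      simpa using congrFun h (Sum.inl i)
    refine ⟨LinearMap.range L, by rw [LinearMap.finrank_range_of_inj hL, Module.finrank_fin_fun], ?_⟩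
    rintro _ ⟨u, rfl⟩ _ ⟨v, rfl⟩
    show B (e (Sum.elim u 0)) (e (Sum.elim v 0)) = 0
    rw [he, QuadraticMap.polarBilin_apply_apply, polar_qPlus]
    simp

/-! ### Tensor products -/

variable {U W : Type*} [AddCommGroup U] [Module F U] [AddCommGroup W] [Module F W]

theorem det_tmul {ι κ : Type*} [Fintype ι] [DecidableEq ι] [Fintype κ] [DecidableEq κ]
    (b : Module.Basis ι F U) (c : Module.Basis κ F W) (B₁ : BilinForm F U) (B₂ : BilinForm F W) :
    (LinearMap.BilinForm.toMatrix (b.tensorProduct c) (B₁.tmul B₂)).det =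
      (LinearMap.BilinForm.toMatrix b B₁).det ^ Fintype.card κ *
        (LinearMap.BilinForm.toMatrix c B₂).det ^ Fintype.card ι := by
  have h : LinearMap.BilinForm.toMatrix (b.tensorProduct c) (B₁.tmul B₂) =
      LinearMap.BilinForm.toMatrix b B₁ ⊗ₖ LinearMap.BilinForm.toMatrix c B₂ := by
    ext ⟨i, j⟩ ⟨i', j'⟩
    simp [LinearMap.BilinForm.toMatrix_apply, mul_comm]
  rw [h, Matrix.det_kronecker]

theorem tmul_nondegenerate [FiniteDimensional F U] [FiniteDimensional F W] {B₁ : BilinForm F U}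
    {B₂ : BilinForm F W} (h₁ : B₁.Nondegenerate) (h₂ : B₂.Nondegenerate) :
    (B₁.tmul B₂).Nondegenerate := by
  let b := Module.finBasis F U
  let c := Module.finBasis F W
  refine (LinearMap.BilinForm.nondegenerate_iff_det_ne_zero (b.tensorProduct c)).2 ?_
  rw [det_tmul]
  exact mul_ne_zero (pow_ne_zero _ ((LinearMap.BilinForm.nondegenerate_iff_det_ne_zero b).1 h₁))
    (pow_ne_zero _ ((LinearMap.BilinForm.nondegenerate_iff_det_ne_zero c).1 h₂))

theorem tmul_isSymm_of_symm {B₁ : BilinForm F U} {B₂ : BilinForm F W} (h₁ : B₁.IsSymm)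
    (h₂ : B₂.IsSymm) : LinearMap.BilinForm.IsSymm (B₁.tmul B₂) :=
  ⟨fun x y => (LinearMap.IsSymm.tmul ⟨fun u v => h₁.eq u v⟩ ⟨fun u v => h₂.eq u v⟩).eq x y⟩

theorem tmul_minus_plus [Fintype F] [FiniteDimensional F U] [FiniteDimensional F W]
    (h2 : (2 : F) ≠ 0) (B₁ : BilinForm F U) (B₂ : BilinForm F W) (h₁ : B₁.Nondegenerate)
    (h₂ : B₂.Nondegenerate) (hS₁ : B₁.IsSymm) (hS₂ : B₂.IsSymm) (k l : ℕ) (hk : 1 ≤ k)
    (hl : 1 ≤ l) (hU : Module.finrank F U = 2 * k) (hW : Module.finrank F W = 2 * l) :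
    ∃ X : Submodule F (TensorProduct F U W), Module.finrank F X = 2 * k * l ∧
      ∀ x ∈ X, ∀ y ∈ X, (B₁.tmul B₂) x y = 0 := by
  classical
  refine (exists_half_iff_det h2 (tmul_isSymm_of_symm hS₁ hS₂) (tmul_nondegenerate h₁ h₂)
    (Nat.mul_pos (by omega) hl) (by rw [Module.finrank_tensorProduct, hU, hW]; ring)
    ((Module.finBasis F U).tensorProduct (Module.finBasis F W))).2 ?_
  simp only [det_tmul, Fintype.card_fin]
  refine IsSquare.mul ?_ (IsSquare.mul ((hW ▸ even_two_mul l : Even (Module.finrank F W)).isSquare_pow _)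
    ((hU ▸ even_two_mul k : Even (Module.finrank F U)).isSquare_pow _))
  exact ((even_two_mul k).mul_right l).isSquare_pow _

theorem tmul_minus_odd [Fintype F] [FiniteDimensional F U] [FiniteDimensional F W]
    (h2 : (2 : F) ≠ 0) (B₁ : BilinForm F U) (B₂ : BilinForm F W) (h₁ : B₁.Nondegenerate)
    (h₂ : B₂.Nondegenerate) (hS₁ : B₁.IsSymm) (hS₂ : B₂.IsSymm) (k l : ℕ) (hk : 1 ≤ k)
    (hU : Module.finrank F U = 2 * k) (hW : Module.finrank F W = 2 * l + 1)
    (hm₁ : ¬ ∃ X : Submodule F U, Module.finrank F X = k ∧ ∀ x ∈ X, ∀ y ∈ X, B₁ x y = 0) :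
    ¬ ∃ X : Submodule F (TensorProduct F U W), Module.finrank F X = k * (2 * l + 1) ∧
      ∀ x ∈ X, ∀ y ∈ X, (B₁.tmul B₂) x y = 0 := by
  classical
  rw [exists_half_iff_det h2 hS₁ h₁ hk hU (Module.finBasis F U)] at hm₁
  rw [exists_half_iff_det h2 (tmul_isSymm_of_symm hS₁ hS₂) (tmul_nondegenerate h₁ h₂)
    (Nat.mul_pos (by omega) (by omega)) (by rw [Module.finrank_tensorProduct, hU, hW]; ring)
    ((Module.finBasis F U).tensorProduct (Module.finBasis F W)), det_tmul, Fintype.card_fin,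
    Fintype.card_fin]
  have key : ∀ (a c : ℕ), a = 2 * k → c = 2 * l + 1 → ∀ (D E : F), D ≠ 0 → E ≠ 0 →
      ¬ IsSquare ((-1 : F) ^ k * D) → ¬ IsSquare ((-1 : F) ^ (k * (2 * l + 1)) * (D ^ c * E ^ a)) := by
    rintro _ _ rfl rfl D E hd1 hd2 hm₁ ⟨r, hr⟩
    have hD : ((-1 : F) ^ k * D) ≠ 0 := mul_ne_zero (pow_ne_zero _ (by simp)) hd1
    have hu : ((-1 : F) ^ k * D) ^ l * E ^ k ≠ 0 :=
      mul_ne_zero (pow_ne_zero _ hD) (pow_ne_zero _ hd2)
    refine hm₁ ⟨r / (((-1) ^ k * D) ^ l * E ^ k), ?_⟩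
    have hr' : ((-1 : F) ^ k * D) * ((((-1) ^ k * D) ^ l * E ^ k) ^ 2) = r * r := by
      rw [← hr]
      simp only [mul_pow, ← pow_mul]
      ring
    rw [div_mul_div_comm, eq_div_iff (mul_ne_zero hu hu)]
    linear_combination hr'
  exact key _ _ hU hW _ _
    ((LinearMap.BilinForm.nondegenerate_iff_det_ne_zero (Module.finBasis F U)).1 h₁)
    ((LinearMap.BilinForm.nondegenerate_iff_det_ne_zero (Module.finBasis F W)).1 h₂) hm₁

theorem sum_squares_iff [Fintype F] (h2 : (2 : F) ≠ 0) (m : ℕ) (hm : 1 ≤ m) :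
    (∃ W : Submodule F (Fin (2 * m) → F), Module.finrank F W = m ∧
      ∀ w ∈ W, ∑ i, w i ^ 2 = 0) ↔ ¬ (Fintype.card F % 4 = 3 ∧ Odd m) := by
  classical
  let B : BilinForm F (Fin (2 * m) → F) := Matrix.toBilin' 1
  have hB : ∀ u v, B u v = u ⬝ᵥ v := fun u v => by
    show Matrix.toBilin' 1 u v = _
    rw [Matrix.toBilin'_apply', Matrix.one_mulVec]
  have hS : B.IsSymm := ⟨fun u v => by rw [hB, hB]; exact dotProduct_comm u v⟩
  have hnd : B.Nondegenerate :=
    LinearMap.BilinForm.nondegenerate_toBilin'_of_det_ne_zero' _ (by simp)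
  have hM : LinearMap.BilinForm.toMatrix (Pi.basisFun F (Fin (2 * m))) B = 1 := by
    ext i j
    simp [LinearMap.BilinForm.toMatrix_apply, hB, dotProduct, Pi.single_apply, Matrix.one_apply, eq_comm]
  have h := exists_half_iff_det h2 hS hnd hm (by simp) (Pi.basisFun F (Fin (2 * m)))
  rw [hM, Matrix.det_one, mul_one] at h
  have hodd : Odd (Fintype.card F) := by
    rw [Nat.odd_iff]
    exact FiniteField.odd_card_of_char_ne_two fun h => h2 (by
      have := ringChar.eq_iff.1 h
      exact CharTwo.two_eq_zero)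
  have hq : ∀ w : Fin (2 * m) → F, B w w = ∑ i, w i ^ 2 := fun w => by
    simp [hB, dotProduct, sq]
  trans IsSquare ((-1 : F) ^ m)
  · rw [← h]
    constructor
    · rintro ⟨W, hW, hw⟩
      refine ⟨W, hW, fun x hx y hy => ?_⟩
      have h1 : B (x + y) (x + y) = 0 := (hq _).trans (hw _ (W.add_mem hx hy))
      have h3 : B x x = 0 := (hq _).trans (hw _ hx)
      have h4 : B y y = 0 := (hq _).trans (hw _ hy)
      simp only [map_add, LinearMap.add_apply, h3, h4, hS.eq y x] at h1
      exact (mul_eq_zero.1 (show (2 : F) * B x y = 0 by linear_combination h1)).resolve_left h2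
    · rintro ⟨W, hW, hw⟩
      exact ⟨W, hW, fun w hwW => (hq w).symm.trans (hw w hwW w hwW)⟩
  · rw [isSquare_neg_one_pow rfl hodd]
    have hq4 : Fintype.card F % 4 = 1 ∨ Fintype.card F % 4 = 3 := by
      obtain ⟨k, hk⟩ := hodd; omega
    rcases Nat.even_or_odd m with ⟨j, rfl⟩ | ⟨j, rfl⟩
    · simp only [Nat.not_odd_iff_even.2 ⟨j, rfl⟩, and_false, not_false_iff, iff_true]
      rw [← two_mul, pow_mul, Nat.pow_mod]
      rcases hq4 with h4 | h4 <;> simp [h4, Nat.pow_mod]
    · simp only [show Odd (2 * j + 1) from ⟨j, rfl⟩, and_true]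
      rw [pow_succ, pow_mul, Nat.mul_mod, Nat.pow_mod, Nat.pow_mod (Fintype.card F) 2]
      rcases hq4 with h4 | h4 <;> simp [h4]

end CfsgLib.Classical.Quad
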