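import Cfsg.Agent.Lib.Classical.Bilin
import Cfsg.Agent.Lib.Classical.Iso

/-!
Non-degenerate quadratic forms over an arbitrary field: reflections, Eichler maps and Witt's theorem.
-/

set_option autoImplicit false

namespace CfsgLib.Classical.Quad

open QuadraticMap (polar polarBilin)

variable {F : Type*} [Field F] {V : Type*} [AddCommGroup V] [Module F V]
  {Q : QuadraticForm F V}

/-- The isometry group of a quadratic form. -/
abbrev OQ (Q : QuadraticForm F V) : Subgroup (V ≃ₗ[F] V) := Iso F fun u _ => Q u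

theorem mem_OQ {g : V ≃ₗ[F] V} : g ∈ OQ Q ↔ ∀ v, Q (g v) = Q v :=
  ⟨fun h v => h v v, fun h u _ => h u⟩

theorem OQ.map_apply (g : OQ Q) (v : V) : Q ((g : V ≃ₗ[F] V) v) = Q v := g.2 v v

theorem polar_self' (x : V) : polar Q x x = 2 * Q x := by
  rw [QuadraticMap.polar_self, two_smul, two_mul]

theorem apply_add (x y : V) : Q (x + y) = Q x + Q y + polar Q x y := by
  rw [QuadraticMap.map_add Q x y]

theorem apply_smul (c : F) (x : V) : Q (c • x) = c * c * Q x := by
  rw [QuadraticMap.map_smul, smul_eq_mul]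

theorem polar_add_left' (x x' y : V) : polar Q (x + x') y = polar Q x y + polar Q x' y :=
  QuadraticMap.polar_add_left _ _ _ _

theorem polar_add_right' (x y y' : V) : polar Q x (y + y') = polar Q x y + polar Q x y' :=
  QuadraticMap.polar_add_right _ _ _ _

theorem polar_smul_left' (c : F) (x y : V) : polar Q (c • x) y = c * polar Q x y := by
  rw [QuadraticMap.polar_smul_left, smul_eq_mul]

theorem polar_smul_right' (c : F) (x y : V) : polar Q x (c • y) = c * polar Q x y := by
  rw [QuadraticMap.polar_smul_right, smul_eq_mul]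

theorem OQ.map_polar (g : OQ Q) (u v : V) :
    polar Q ((g : V ≃ₗ[F] V) u) ((g : V ≃ₗ[F] V) v) = polar Q u v := by
  simp only [polar, ← map_add, OQ.map_apply]

/-- The map `z ↦ z + α(z) v + β(z) w`. -/
def twoMap (α β : V →ₗ[F] F) (v w : V) : V →ₗ[F] V :=
  LinearMap.id + α.smulRight v + β.smulRight w

theorem twoMap_apply (α β : V →ₗ[F] F) (v w z : V) :
    twoMap α β v w z = z + α z • v + β z • w := by
  simp [twoMap]

/-- The reflection map in `v`. -/
def reflMap (Q : QuadraticForm F V) (v : V) : V →ₗ[F] V :=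
  LinearMap.id - ((Q v)⁻¹ • (polarBilin Q).flip v).smulRight v

theorem reflMap_apply (v z : V) : reflMap Q v z = z - ((Q v)⁻¹ * polar Q z v) • v := by
  simp [reflMap]

theorem reflMap_preserves {v : V} (hv : Q v ≠ 0) (z : V) : Q (reflMap Q v z) = Q z := by
  rw [reflMap_apply, sub_eq_add_neg, ← neg_smul, apply_add, apply_smul, polar_smul_right']
  field_simp
  ring

theorem reflMap_self {v : V} (hv : Q v ≠ 0) : reflMap Q v v = -v := by
  rw [reflMap_apply, polar_self', ← mul_assoc, mul_comm (Q v)⁻¹ 2, mul_assoc, inv_mul_cancel₀ hv,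
    mul_one, two_smul]
  abel

theorem reflMap_perp {v z : V} (hz : polar Q z v = 0) : reflMap Q v z = z := by
  rw [reflMap_apply, hz, mul_zero, zero_smul, sub_zero]

theorem reflMap_reflMap {v : V} (hv : Q v ≠ 0) (z : V) : reflMap Q v (reflMap Q v z) = z := by
  conv_lhs => rw [reflMap_apply v z, map_sub, map_smul, reflMap_self hv, reflMap_apply v z]
  module

/-- The reflection in `v`. -/
def refl {v : V} (hv : Q v ≠ 0) : OQ Q :=
  ⟨LinearEquiv.ofLinear (reflMap Q v) (reflMap Q v)
    (LinearMap.ext fun z => reflMap_reflMap hv z) (LinearMap.ext fun z => reflMap_reflMap hv z),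
    fun z _ => reflMap_preserves hv z⟩

theorem refl_apply {v : V} (hv : Q v ≠ 0) (z : V) :
    (refl hv : V ≃ₗ[F] V) z = z - ((Q v)⁻¹ * polar Q z v) • v := reflMap_apply v z

theorem refl_mul_self {v : V} (hv : Q v ≠ 0) : refl hv * refl hv = (1 : OQ Q) :=
  Subtype.ext (LinearEquiv.ext fun z => reflMap_reflMap hv z)

theorem det_refl [FiniteDimensional F V] {v : V} (hv : Q v ≠ 0) :
    LinearMap.det (reflMap Q v) = -1 := by
  have : reflMap Q v = LinearMap.transvection (-((Q v)⁻¹ • (polarBilin Q).flip v)) v :=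
    LinearMap.ext fun z => by
      rw [reflMap_apply, LinearMap.transvection.apply]
      simp [sub_eq_add_neg]
  rw [this, LinearMap.transvection.det]
  simp only [LinearMap.neg_apply, LinearMap.smul_apply, LinearMap.flip_apply,
    QuadraticMap.polarBilin_apply_apply, polar_self', smul_eq_mul]
  field_simp
  norm_num

section Maps

variable [FiniteDimensional F V] (hQ : (polarBilin Q).Nondegenerate)
include hQ

theorem eq_zero_of_polar {x : V} (h : ∀ y, polar Q x y = 0) : x = 0 := hQ.1 x h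

theorem injective_of_preserves (f : V →ₗ[F] V) (hf : ∀ z, Q (f z) = Q z) :
    Function.Injective f := by
  rw [injective_iff_map_eq_zero]
  intro z hz
  refine eq_zero_of_polar hQ fun y => ?_
  have h1 : polar Q (f z) (f y) = polar Q z y := by simp only [polar, ← map_add, hf]
  rw [← h1, hz, QuadraticMap.polar_zero_left]

/-- A form-preserving linear map as an isometry. -/
noncomputable def ofPreserves (f : V →ₗ[F] V) (hf : ∀ z, Q (f z) = Q z) : OQ Q :=
  ⟨LinearEquiv.ofInjectiveEndo f (injective_of_preserves hQ f hf), fun z _ => hf z⟩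

@[simp] theorem ofPreserves_apply (f : V →ₗ[F] V) (hf : ∀ z, Q (f z) = Q z) (z : V) :
    (ofPreserves hQ f hf : V ≃ₗ[F] V) z = f z := rfl

theorem coe_ofPreserves (f : V →ₗ[F] V) (hf : ∀ z, Q (f z) = Q z) :
    ((ofPreserves hQ f hf : V ≃ₗ[F] V) : V →ₗ[F] V) = f := rfl

theorem exists_sep_polar {U : Submodule F V} {x : V} (hx : x ∉ U) :
    ∃ a, polar Q x a = 1 ∧ ∀ u ∈ U, polar Q u a = 0 :=
  Bilin.exists_sep hQ hx

theorem exists_eichler {w a : V} (hw : Q w = 0) (haw : polar Q w a = 0) :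
    ∃ g : OQ Q, ∀ z, (g : V ≃ₗ[F] V) z =
      z + (polar Q z a - Q a * polar Q z w) • w + (-polar Q z w) • a := by
  refine ⟨ofPreserves hQ (twoMap ((polarBilin Q).flip a - Q a • (polarBilin Q).flip w)
    (-(polarBilin Q).flip w) w a) fun z => ?_, fun z => ?_⟩
  · simp only [twoMap_apply, LinearMap.sub_apply, LinearMap.neg_apply, LinearMap.smul_apply,
      LinearMap.flip_apply, QuadraticMap.polarBilin_apply_apply, smul_eq_mul, apply_add,
      apply_smul, polar_add_left', polar_smul_left', polar_smul_right', hw, haw]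
    ring
  · simp [twoMap_apply]

theorem exists_dilation {w w' : V} (hw : Q w = 0) (hw' : Q w' = 0) (h : polar Q w w' = 1) {d : F}
    (hd : d ≠ 0) : ∃ g : OQ Q, ∀ z, (g : V ≃ₗ[F] V) z =
      z + ((d - 1) * polar Q z w') • w + ((d⁻¹ - 1) * polar Q z w) • w' := by
  refine ⟨ofPreserves hQ (twoMap ((d - 1) • (polarBilin Q).flip w')
    ((d⁻¹ - 1) • (polarBilin Q).flip w) w w') fun z => ?_, fun z => ?_⟩
  · simp only [twoMap_apply, LinearMap.smul_apply, LinearMap.flip_apply,
      QuadraticMap.polarBilin_apply_apply, smul_eq_mul, apply_add, apply_smul, polar_add_left',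
      polar_smul_left', polar_smul_right', hw, hw', h]
    field_simp
    ring
  · simp [twoMap_apply]

theorem exists_singular_partner {U : Submodule F V} {w : V} (hw : Q w = 0)
    (hwU : ∀ u ∈ U, polar Q u w = 0) (hwn : w ∉ U) :
    ∃ w', Q w' = 0 ∧ polar Q w w' = 1 ∧ ∀ u ∈ U, polar Q u w' = 0 := by
  obtain ⟨a, ha, haU⟩ := exists_sep_polar hQ hwn
  refine ⟨a + (-Q a) • w, ?_, ?_, fun u hu => ?_⟩
  · rw [apply_add, apply_smul, polar_smul_right', QuadraticMap.polar_comm (⇑Q) a w, hw, ha]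
    ring
  · rw [polar_add_right', polar_smul_right', ha, polar_self', hw]
    ring
  · rw [polar_add_right', polar_smul_right', haU u hu, hwU u hu]
    ring

/-- One step of Witt's theorem: a map fixing a hyperplane of the domain. -/
theorem witt_step {U : Submodule F V} {x y : V} (hxU : x ∉ U) (hyU : y ∉ U) (hq : Q y = Q x)
    (hpol : ∀ u ∈ U, polar Q u y = polar Q u x) :
    ∃ g : OQ Q, (∀ u ∈ U, (g : V ≃ₗ[F] V) u = u) ∧ (g : V ≃ₗ[F] V) x = y := by
  set w := y - x with hw
  have hy : y = x + w := by rw [hw]; abel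
  have hwU : ∀ u ∈ U, polar Q u w = 0 := fun u hu => by
    rw [hw, QuadraticMap.polar_sub_right, hpol u hu, sub_self]
  have hxw : polar Q x w = -Q w := by
    have h1 := apply_add (Q := Q) x w
    rw [← hy, hq] at h1
    linear_combination -h1
  by_cases hQw : Q w = 0
  swap
  · refine ⟨refl hQw, fun u hu => ?_, ?_⟩
    · rw [refl_apply, hwU u hu, mul_zero, zero_smul, sub_zero]
    · rw [refl_apply, hxw, mul_neg, inv_mul_cancel₀ hQw, neg_smul, one_smul, hy, sub_neg_eq_add]
  rw [hQw, neg_zero] at hxw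
  by_cases hxs : x ∈ U ⊔ Submodule.span F {w}
  swap
  · obtain ⟨a, ha, haU⟩ := exists_sep_polar hQ hxs
    obtain ⟨g, hg⟩ := exists_eichler hQ hQw
      (haU w (Submodule.mem_sup_right (Submodule.mem_span_singleton_self w)))
    refine ⟨g, fun u hu => ?_, ?_⟩
    · rw [hg, haU u (Submodule.mem_sup_left hu), hwU u hu]
      simp
    · rw [hg, ha, hxw, hy]
      simp
  -- `w` is in the span of `U` and `x`
  obtain ⟨u₀, hu₀, _, hcw, e⟩ := Submodule.mem_sup.1 hxs
  obtain ⟨c, rfl⟩ := Submodule.mem_span_singleton.1 hcw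
  have hc : c ≠ 0 := fun h0 => hxU (by rw [← e, h0, zero_smul, add_zero]; exact hu₀)
  have hd : c + 1 ≠ 0 := fun h0 => hyU (by
    rw [hy, ← e, add_assoc, show c • w + w = (c + 1) • w by rw [add_smul, one_smul], h0,
      zero_smul, add_zero]
    exact hu₀)
  have hwn : w ∉ U := fun h0 => hxU (by rw [← e]; exact U.add_mem hu₀ (U.smul_mem _ h0))
  obtain ⟨w', hw', hww', hw'U⟩ := exists_singular_partner hQ hQw hwU hwn
  obtain ⟨g, hg⟩ := exists_dilation hQ hQw hw' hww' (d := (c + 1) / c) (div_ne_zero hd hc)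
  refine ⟨g, fun u hu => ?_, ?_⟩
  · rw [hg, hw'U u hu, hwU u hu]
    simp
  · rw [hg, hxw, mul_zero, zero_smul, add_zero, hy]
    conv_lhs => rw [← e]
    rw [← e, polar_add_left', polar_smul_left', hw'U u₀ hu₀, hww']
    match_scalars <;> field_simp <;> ring

/-- Witt's extension theorem. -/
theorem witt (X : Submodule F V) (φ : X →ₗ[F] V) (hinj : Function.Injective φ)
    (hφ : ∀ x : X, Q (φ x) = Q (x : V)) :
    ∃ g : OQ Q, ∀ x : X, (g : V ≃ₗ[F] V) x = φ x := by
  induction hk : Module.finrank F X using Nat.strong_induction_on generalizing X with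
  | _ k ih =>
  subst hk
  by_cases h0 : X = ⊥
  · subst h0
    exact ⟨1, fun x => by rw [Subsingleton.elim x 0]; simp⟩
  have : Nontrivial X := Submodule.nontrivial_iff_ne_bot.2 h0
  obtain ⟨x, hx⟩ := exists_ne (0 : X)
  obtain ⟨U', hU'⟩ := Submodule.exists_isCompl (Submodule.span F {x})
  have hfr := Submodule.finrank_add_eq_of_isCompl hU'
  rw [finrank_span_singleton hx] at hfr
  let U := U'.map X.subtype
  have hUX : U ≤ X := by rintro _ ⟨u, -, rfl⟩; exact u.2
  have hfU : Module.finrank F U = Module.finrank F U' :=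
    (Submodule.equivMapOfInjective _ Subtype.val_injective U').finrank_eq.symm
  obtain ⟨g₀, hg₀⟩ := ih _ (by omega) U (φ.comp (Submodule.inclusion hUX))
    (hinj.comp (Submodule.inclusion_injective hUX)) (fun u => hφ _) rfl
  set y := (g₀ : V ≃ₗ[F] V).symm (φ x) with hy
  have hgy : (g₀ : V ≃ₗ[F] V) y = φ x := (g₀ : V ≃ₗ[F] V).apply_symm_apply _
  have hxU : (x : V) ∉ U := by
    rintro ⟨u, hu, hux⟩
    rw [Subtype.ext hux] at hu
    exact hx (Submodule.disjoint_def.1 hU'.disjoint x (Submodule.mem_span_singleton_self x) hu)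
  have hyU : y ∉ U := by
    intro h
    have h1 := hg₀ ⟨y, h⟩
    simp only [hgy, LinearMap.comp_apply] at h1
    have h2 : (x : V) = y := congrArg Subtype.val (hinj h1)
    exact hxU (h2 ▸ h)
  have hq : Q y = Q x := by rw [← OQ.map_apply g₀ y, hgy, hφ]
  have hpol : ∀ u ∈ U, polar Q u y = polar Q u x := by
    intro u hu
    rw [← OQ.map_polar g₀ u y, hgy, hg₀ ⟨u, hu⟩]
    simp only [polar, LinearMap.comp_apply, ← map_add, hφ]
    rfl
  obtain ⟨s, hs, hsx⟩ := witt_step hQ hxU hyU hq hpol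
  refine ⟨g₀ * s, fun z => ?_⟩
  obtain ⟨a, b, ha, hb, e⟩ := Submodule.codisjoint_iff_exists_add_eq.1 hU'.codisjoint z
  obtain ⟨c, rfl⟩ := Submodule.mem_span_singleton.1 ha
  subst e
  show (g₀ : V ≃ₗ[F] V) ((s : V ≃ₗ[F] V) ((c • x + b : X) : V)) = φ (c • x + b)
  rw [Submodule.coe_add, Submodule.coe_smul, map_add, map_smul, hsx, hs (b : V) ⟨b, hb, rfl⟩, map_add,
    map_smul, hgy, map_add, map_smul]
  congr 1
  exact hg₀ ⟨b, b, hb, rfl⟩

theorem finrank_eq_of_maximal {W₁ W₂ : Submodule F V} (h₁ : ∀ w ∈ W₁, Q w = 0)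
    (h₂ : ∀ w ∈ W₂, Q w = 0)
    (hmax₁ : ∀ W : Submodule F V, W₁ ≤ W → (∀ w ∈ W, Q w = 0) → W = W₁)
    (hle : Module.finrank F W₁ ≤ Module.finrank F W₂) :
    Module.finrank F W₁ = Module.finrank F W₂ := by
  obtain ⟨ι, hι⟩ : ∃ ι : W₁ →ₗ[F] W₂, Function.Injective ι := by
    let b₁ := Module.finBasis F W₁
    let b₂ := Module.finBasis F W₂
    refine ⟨b₁.constr F (b₂ ∘ Fin.castLE hle), ?_⟩
    rw [injective_iff_map_eq_zero]
    intro w hw
    rw [Module.Basis.constr_apply_fintype] at hw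
    have := Fintype.linearIndependent_iff.1
      (b₂.linearIndependent.comp _ (Fin.castLE_injective hle)) _ hw
    rw [← b₁.sum_repr w]
    simp only [Module.Basis.equivFun_apply] at this
    simp [this]
  obtain ⟨g, hg⟩ := witt hQ W₁ (W₂.subtype.comp ι) (Subtype.val_injective.comp hι)
    (fun w => by rw [h₁ w w.2]; exact h₂ _ (ι w).2)
  let W := W₂.comap ((g : V ≃ₗ[F] V) : V →ₗ[F] V)
  have hW : W = W₁ := hmax₁ W (fun w hw => by
      show (g : V ≃ₗ[F] V) w ∈ W₂
      rw [hg ⟨w, hw⟩]
      exact (ι ⟨w, hw⟩).2)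
    (fun w hw => by rw [← OQ.map_apply g w]; exact h₂ _ hw)
  rw [← hW]
  exact ((g : V ≃ₗ[F] V).ofSubmodule' W₂).finrank_eq

theorem two_mul_finrank_le {W : Submodule F V} (h : ∀ w ∈ W, Q w = 0) :
    2 * Module.finrank F W ≤ Module.finrank F V := by
  have hle : W ≤ LinearMap.BilinForm.orthogonal (polarBilin Q) W := fun w hw u hu => by
    show polar Q u w = 0
    rw [QuadraticMap.polar, h _ (W.add_mem hu hw), h u hu, h w hw]
    ring
  have h1 := Submodule.finrank_mono hle
  rw [LinearMap.BilinForm.finrank_orthogonal hQ] at h1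
  have h2 := Submodule.finrank_le W
  omega

end Maps

end CfsgLib.Classical.Quad
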