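import Cfsg.Agent.Lib.Classical.Quad.Sym

/-!
Quadratic forms over finite fields represent everything on spaces of dimension two and have singular
vectors on spaces of dimension three.
-/

set_option autoImplicit false

namespace CfsgLib.Classical.Quad

open QuadraticMap (polar polarBilin)

variable {F : Type*} [Field F] {V : Type*} [AddCommGroup V] [Module F V] {Q : QuadraticForm F V}

theorem exists_apply_ne_zero (hQ : (polarBilin Q).Nondegenerate) [Nontrivial V] :
    ∃ v, Q v ≠ 0 := by
  obtain ⟨x, y, hxy⟩ := polar_nondeg_ne_zero hQ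
  by_contra hc
  push Not at hc
  exact hxy (by simp [polar, hc])

theorem charP_two_of_eq_zero (h2 : (2 : F) = 0) : CharP F 2 :=
  CharTwo.of_one_ne_zero_of_two_eq_zero one_ne_zero h2

/-- Universality in dimension two and more. -/
theorem exists_apply_eq [Finite F] [FiniteDimensional F V] (hQ : (polarBilin Q).Nondegenerate)
    (hn : 2 ≤ Module.finrank F V) {c : F} (hc : c ≠ 0) : ∃ v, Q v = c := by
  by_cases h2 : (2 : F) = 0
  · have := charP_two_of_eq_zero h2
    have : Nontrivial V := Module.nontrivial_of_finrank_pos (R := F) (by omega)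
    obtain ⟨v, hv⟩ := exists_apply_ne_zero hQ
    obtain ⟨r, hr⟩ := isSquare_of_charTwo' (c / Q v)
    exact ⟨r • v, by rw [apply_smul, ← hr, div_mul_cancel₀ _ hv]⟩
  · have hB : ((2 * c)⁻¹ • polarBilin Q).Nondegenerate := by
      have hne : (2 * c)⁻¹ ≠ 0 := inv_ne_zero (mul_ne_zero h2 hc)
      exact ⟨fun x hx => hQ.1 x fun y => (mul_eq_zero.1 (hx y)).resolve_left hne,
        fun x hx => hQ.2 x fun y => (mul_eq_zero.1 (hx y)).resolve_left hne⟩
    obtain ⟨x, hx⟩ := exists_norm_one h2 (B := (2 * c)⁻¹ • polarBilin Q)
      ⟨fun u v => by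
        show (2 * c)⁻¹ * polar Q u v = (2 * c)⁻¹ * polar Q v u
        rw [QuadraticMap.polar_comm]⟩ hB hn
    have h1 : (2 * c)⁻¹ * polar Q x x = 1 := hx
    refine ⟨x, ?_⟩
    rw [polar_self'] at h1
    field_simp at h1
    linear_combination h1

/-- The part of `U` outside its radical. -/
theorem exists_nondeg_subspace [FiniteDimensional F V] (hQ : (polarBilin Q).Nondegenerate)
    (P : Submodule F V) : ∃ K : Submodule F V, (∀ x ∈ K, ∀ u ∈ P, polar Q u x = 0) ∧
      (polarBilin (Q.comp K.subtype)).Nondegenerate ∧
      Module.finrank F V ≤ Module.finrank F K + 2 * Module.finrank F P := by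
  set O := LinearMap.BilinForm.orthogonal (polarBilin Q) P with hO
  set R := P.comap O.subtype with hR
  obtain ⟨C, hC⟩ := Submodule.exists_isCompl R
  let K := C.map O.subtype
  have hKO : ∀ x ∈ K, ∀ u ∈ P, polar Q u x = 0 := by
    rintro _ ⟨x, -, rfl⟩ u hu
    exact x.2 u hu
  refine ⟨K, hKO, ?_, ?_⟩
  · have key : ∀ x : K, (∀ y : K, polar Q (x : V) y = 0) → x = 0 := by
      intro x hx
      obtain ⟨c, hc, hcx⟩ := x.2
      have h1 : ∀ z ∈ O, polar Q (x : V) z = 0 := by
        intro z hz
        obtain ⟨r, k, hr, hk, e⟩ :=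
          Submodule.codisjoint_iff_exists_add_eq.1 hC.codisjoint (⟨z, hz⟩ : O)
        have e' : (r : V) + (k : V) = z := congrArg Subtype.val e
        rw [← e', polar_add_right', hx ⟨(k : V), k, hk, rfl⟩, QuadraticMap.polar_comm,
          hKO _ x.2 _ (show (r : V) ∈ P from hr), add_zero]
      have hxP : (x : V) ∈ LinearMap.BilinForm.orthogonal (polarBilin Q) O := fun z hz => by
        show polar Q z (x : V) = 0
        rw [QuadraticMap.polar_comm]
        exact h1 z hz
      rw [hO, LinearMap.BilinForm.orthogonal_orthogonal hQ (fun a b h => by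
        show polar Q b a = 0
        rw [QuadraticMap.polar_comm]; exact h)] at hxP
      rw [← hcx] at hxP
      have h0 := Submodule.disjoint_def.1 hC.disjoint c hxP hc
      apply Subtype.ext
      rw [← hcx, h0]
      rfl
    have hp : ∀ x y : K, polar (Q.comp K.subtype) x y = polar Q (x : V) y := fun x y => by
      simp only [polar, QuadraticMap.comp_apply, Submodule.subtype_apply, Submodule.coe_add]
    exact ⟨fun x hx => key x fun y => by rw [← hp]; exact hx y,
      fun x hx => key x fun y => by rw [← hp, QuadraticMap.polar_comm]; exact hx y⟩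
  · have h1 : Module.finrank F K = Module.finrank F C :=
      (Submodule.equivMapOfInjective _ Subtype.val_injective C).finrank_eq.symm
    have h2 := Submodule.finrank_add_eq_of_isCompl hC
    have h3 : Module.finrank F R ≤ Module.finrank F P :=
      LinearMap.finrank_le_finrank_of_injective (f := (O.subtype.comp R.subtype).codRestrict P
        (fun x => x.2)) fun x y h => Subtype.ext (Subtype.ext (congrArg Subtype.val h :))
    have h4 : Module.finrank F O = Module.finrank F V - Module.finrank F P :=
      LinearMap.BilinForm.finrank_orthogonal hQ P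
    omega

theorem exists_apply_eq_perp [Finite F] [FiniteDimensional F V]
    (hQ : (polarBilin Q).Nondegenerate) (P : Submodule F V)
    (hP : 2 * Module.finrank F P + 2 ≤ Module.finrank F V) {c : F} (hc : c ≠ 0) :
    ∃ v, Q v = c ∧ ∀ u ∈ P, polar Q u v = 0 := by
  obtain ⟨K, hK, hn, hd⟩ := exists_nondeg_subspace hQ P
  obtain ⟨v, hv⟩ := exists_apply_eq hn (by omega) hc
  exact ⟨v, hv, hK _ v.2⟩

theorem exists_singular [Finite F] [FiniteDimensional F V] (hQ : (polarBilin Q).Nondegenerate)
    (hn : 3 ≤ Module.finrank F V) : ∃ v, v ≠ 0 ∧ Q v = 0 := by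
  by_cases h2 : (2 : F) = 0
  · have := charP_two_of_eq_zero h2
    exact exists_singular_char_two Q hn
  · have : Nontrivial V := Module.nontrivial_of_finrank_pos (R := F) (by omega)
    obtain ⟨b, hb⟩ := exists_apply_ne_zero hQ
    have hb0 : b ≠ 0 := fun h => hb (by rw [h, QuadraticMap.map_zero])
    let K := LinearMap.BilinForm.orthogonal (polarBilin Q) (Submodule.span F {b})
    have hd : Module.finrank F K = Module.finrank F V - 1 := by
      rw [LinearMap.BilinForm.finrank_orthogonal hQ, finrank_span_singleton hb0]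
    have hperp : ∀ x ∈ K, polar Q b x = 0 := fun x hx => hx b (Submodule.mem_span_singleton_self b)
    have hK : (polarBilin (Q.comp K.subtype)).Nondegenerate := by
      have key : ∀ x : K, (∀ y : K, polar Q (x : V) y = 0) → x = 0 := by
        intro x hx
        refine Subtype.ext (hQ.1 _ fun z => ?_)
        have hz : z - (polar Q b z / polar Q b b) • b ∈ K := by
          intro u hu
          obtain ⟨r, rfl⟩ := Submodule.mem_span_singleton.1 hu
          show polar Q (r • b) (z - (polar Q b z / polar Q b b) • b) = 0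
          rw [polar_smul_left', QuadraticMap.polar_sub_right, polar_smul_right',
            div_mul_cancel₀ _ (by rw [polar_self']; exact mul_ne_zero h2 hb), sub_self, mul_zero]
        have h1 := hx ⟨_, hz⟩
        rw [QuadraticMap.polar_sub_right, polar_smul_right', QuadraticMap.polar_comm (⇑Q) (x : V) b,
          hperp _ x.2, mul_zero, sub_zero] at h1
        exact h1
      have hp : ∀ x y : K, polar (Q.comp K.subtype) x y = polar Q (x : V) y := fun x y => by
        simp only [polar, QuadraticMap.comp_apply, Submodule.subtype_apply, Submodule.coe_add]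
      exact ⟨fun x hx => key x fun y => by rw [← hp]; exact hx y,
        fun x hx => key x fun y => by rw [← hp, QuadraticMap.polar_comm]; exact hx y⟩
    obtain ⟨r, hr⟩ := exists_apply_eq hK (by omega) (neg_ne_zero.2 hb)
    have hr' : Q (r : V) = -Q b := hr
    refine ⟨b + r, fun h0 => ?_, ?_⟩
    · have h1 := congrArg (polar Q b) h0
      rw [polar_add_right', hperp _ r.2, polar_self', QuadraticMap.polar_zero_right, add_zero] at h1
      exact mul_ne_zero h2 hb h1
    · rw [apply_add, hperp _ r.2, hr']
      ring

theorem exists_singular_perp [Finite F] [FiniteDimensional F V]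
    (hQ : (polarBilin Q).Nondegenerate) (P : Submodule F V)
    (hP : 2 * Module.finrank F P + 3 ≤ Module.finrank F V) :
    ∃ v, v ≠ 0 ∧ Q v = 0 ∧ (∀ u ∈ P, polar Q u v = 0) ∧
      ∃ k, (∀ u ∈ P, polar Q u k = 0) ∧ polar Q v k = 1 := by
  obtain ⟨K, hK, hn, hd⟩ := exists_nondeg_subspace hQ P
  obtain ⟨v, hv0, hv⟩ := exists_singular hn (by omega)
  obtain ⟨k, hk, -⟩ := exists_sep_polar hn (U := ⊥) (x := v) (by simpa using hv0)
  refine ⟨v, fun h => hv0 (Subtype.ext h), hv, hK _ v.2, k, hK _ k.2, ?_⟩
  simpa only [polar, QuadraticMap.comp_apply, Submodule.subtype_apply, Submodule.coe_add] using hk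

end CfsgLib.Classical.Quad
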