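import Cfsg.Agent.Lib.Classical.Quad.Reflections
import Cfsg.Agent.Lib.Classical.Quad.Universal

/-!
The spinor norm and the parity homomorphism through the form of Wall on the space of moved vectors.
-/

set_option autoImplicit false

namespace CfsgLib.Classical.Quad

open QuadraticMap (polar polarBilin)

/-- Square classes. -/
def SqClass (F : Type*) [Field F] : Type _ := Fˣ ⧸ (powMonoidHom 2 : Fˣ →* Fˣ).range

instance instCommGroupSqClass (F : Type*) [Field F] : CommGroup (SqClass F) :=
  inferInstanceAs (CommGroup (Fˣ ⧸ (powMonoidHom 2 : Fˣ →* Fˣ).range))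

/-- The projection to square classes. -/
def toSqClass (F : Type*) [Field F] : Fˣ →* SqClass F :=
  QuotientGroup.mk' (powMonoidHom 2 : Fˣ →* Fˣ).range

theorem toSqClass_surjective (F : Type*) [Field F] : Function.Surjective (toSqClass F) :=
  QuotientGroup.mk'_surjective _

theorem toSqClass_eq_one_iff {F : Type*} [Field F] (u : Fˣ) :
    toSqClass F u = 1 ↔ ∃ w : Fˣ, w ^ 2 = u := by
  exact (QuotientGroup.eq_one_iff u).trans Iff.rfl

variable {F : Type*} [Field F] {V : Type*} [AddCommGroup V] [Module F V]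

/-- The square class of a field element. -/
noncomputable def sqc (x : F) : SqClass F :=
  @dite _ (x = 0) (_root_.Classical.propDecidable _) (fun _ => 1) fun h => toSqClass F (Units.mk0 x h)

theorem sqc_of_ne {x : F} (h : x ≠ 0) : sqc x = toSqClass F (Units.mk0 x h) := by
  unfold sqc
  exact dif_neg h

theorem sqc_mul {x y : F} (hx : x ≠ 0) (hy : y ≠ 0) : sqc (x * y) = sqc x * sqc y := by
  rw [sqc_of_ne hx, sqc_of_ne hy, sqc_of_ne (mul_ne_zero hx hy), ← map_mul, Units.mk0_mul]

theorem sqc_one : sqc (1 : F) = 1 := by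
  rw [sqc_of_ne one_ne_zero, Units.mk0_one, map_one]

theorem sqc_eq_one_iff {x : F} (h : x ≠ 0) : sqc x = 1 ↔ IsSquare x := by
  rw [sqc_of_ne h, toSqClass_eq_one_iff]
  constructor
  · rintro ⟨u, hu⟩
    refine ⟨u, ?_⟩
    have := congrArg (fun w : Fˣ => (w : F)) hu
    simpa [sq] using this.symm
  · rintro ⟨r, rfl⟩
    have hr : r ≠ 0 := left_ne_zero_of_mul h
    exact ⟨Units.mk0 r hr, Units.ext (by simp [sq])⟩

theorem sqClass_mul_self (s : SqClass F) : s * s = 1 := by
  obtain ⟨u, rfl⟩ := toSqClass_surjective F s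
  rw [← map_mul, toSqClass_eq_one_iff]
  exact ⟨u, sq u⟩

theorem sqc_sq_mul {x y : F} (hx : x ≠ 0) (hy : y ≠ 0) : sqc (x * y * x) = sqc y := by
  rw [sqc_mul (mul_ne_zero hx hy) hx, sqc_mul hx hy, mul_comm (sqc x) (sqc y), mul_assoc,
    sqClass_mul_self, mul_one]

theorem exists_sqc_eq (s : SqClass F) : ∃ x : F, x ≠ 0 ∧ sqc x = s := by
  obtain ⟨u, rfl⟩ := toSqClass_surjective F s
  exact ⟨u, u.ne_zero, by rw [sqc_of_ne u.ne_zero, Units.mk0_val]⟩

variable {Q : QuadraticForm F V}

/-- The map `z ↦ z - g z`. -/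
def movMap (g : OQ Q) : V →ₗ[F] V := LinearMap.id - ((g : V ≃ₗ[F] V) : V →ₗ[F] V)

theorem movMap_apply (g : OQ Q) (z : V) : movMap g z = z - (g : V ≃ₗ[F] V) z := rfl

/-- The space of moved vectors. -/
def mov (g : OQ Q) : Submodule F V := LinearMap.range (movMap g)

theorem mov_perp_fix (g : OQ Q) {a : V} (ha : (g : V ≃ₗ[F] V) a = a) {x : V} (hx : x ∈ mov g) :
    polar Q a x = 0 := by
  obtain ⟨z, rfl⟩ := hx
  have h := OQ.map_polar g a z
  rw [ha] at h
  rw [movMap_apply, QuadraticMap.polar_sub_right, h, sub_self]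

theorem fix_of_perp_mov (hQ : (polarBilin Q).Nondegenerate) (g : OQ Q) {a : V}
    (h : ∀ x ∈ mov g, polar Q a x = 0) : (g : V ≃ₗ[F] V) a = a := by
  have h1 : (g : V ≃ₗ[F] V) a - a = 0 := hQ.1 _ fun y => by
    obtain ⟨y, rfl⟩ := (g : V ≃ₗ[F] V).surjective y
    have h2 := h _ ⟨y, rfl⟩
    rw [movMap_apply, QuadraticMap.polar_sub_right] at h2
    show polar Q ((g : V ≃ₗ[F] V) a - a) ((g : V ≃ₗ[F] V) y) = 0
    rw [QuadraticMap.polar_sub_left, OQ.map_polar]
    exact h2
  exact sub_eq_zero.1 h1

/-- The matrix of Wall's form. -/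
def wallMat (Q : QuadraticForm F V) {ι : Type*} (x z : ι → V) : Matrix ι ι F :=
  Matrix.of fun i j => polar Q (z i) (x j)

theorem det_wallMat_ne_zero (hQ : (polarBilin Q).Nondegenerate) (g : OQ Q) {ι : Type*} [Fintype ι]
    [DecidableEq ι] {x z : ι → V} (hli : LinearIndependent F x)
    (hsp : Submodule.span F (Set.range x) = mov g) (hz : ∀ i, movMap g (z i) = x i) :
    (wallMat Q x z).det ≠ 0 := by
  intro h0
  obtain ⟨c, hc, hc0⟩ := Matrix.exists_vecMul_eq_zero_iff.2 h0
  let a := ∑ i, c i • z i
  have hfix : (g : V ≃ₗ[F] V) a = a := by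
    refine fix_of_perp_mov hQ g fun y hy => ?_
    rw [← hsp] at hy
    have h1 : polarBilin Q a y = 0 := by
      refine LinearMap.eqOn_span (f := polarBilin Q a) (g := 0) ?_ hy
      rintro _ ⟨j, rfl⟩
      have := congrFun hc0 j
      simp only [Matrix.vecMul, dotProduct, wallMat, Matrix.of_apply, Pi.zero_apply] at this
      simp only [a, map_sum, map_smul, LinearMap.sum_apply, LinearMap.smul_apply, smul_eq_mul,
        QuadraticMap.polarBilin_apply_apply, LinearMap.zero_apply, this]
    exact h1
  have h2 : ∑ i, c i • x i = 0 := by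
    have h3 : movMap g a = 0 := by rw [movMap_apply, hfix, sub_self]
    simpa [a, map_sum, hz] using h3
  exact hc (funext fun i => Fintype.linearIndependent_iff.1 hli c h2 i)

variable [FiniteDimensional F V]

/-- A chosen basis of the moved space, as vectors. -/
noncomputable def movVec (g : OQ Q) : Fin (Module.finrank F (mov g)) → V :=
  fun i => (Module.finBasis F (mov g) i : V)

theorem movVec_li (g : OQ Q) : LinearIndependent F (movVec g) :=
  (Module.finBasis F (mov g)).linearIndependent.map' (mov g).subtype (Submodule.ker_subtype _)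

theorem movVec_span (g : OQ Q) : Submodule.span F (Set.range (movVec g)) = mov g := by
  have h := congrArg (Submodule.map (mov g).subtype) (Module.finBasis F (mov g)).span_eq
  rw [Submodule.map_span, Submodule.map_top, Submodule.range_subtype, ← Set.range_comp] at h
  exact h

/-- Chosen preimages of `movVec`. -/
noncomputable def movPre (g : OQ Q) (i : Fin (Module.finrank F (mov g))) : V :=
  (Module.finBasis F (mov g) i).2.choose

theorem movPre_spec (g : OQ Q) (i : Fin (Module.finrank F (mov g))) :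
    movMap g (movPre g i) = movVec g i := (Module.finBasis F (mov g) i).2.choose_spec

/-- The spinor norm. -/
noncomputable def spinor (g : OQ Q) : SqClass F := sqc (wallMat Q (movVec g) (movPre g)).det

theorem finrank_mov_eq_card (g : OQ Q) {ι : Type*} [Fintype ι] {x : ι → V}
    (hli : LinearIndependent F x) (hsp : Submodule.span F (Set.range x) = mov g) :
    Module.finrank F (mov g) = Fintype.card ι := by
  rw [← hsp]
  exact finrank_span_eq_card hli

theorem spinor_eq (hQ : (polarBilin Q).Nondegenerate) (g : OQ Q) {ι : Type*} [Fintype ι]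
    [DecidableEq ι] {x z : ι → V} (hli : LinearIndependent F x)
    (hsp : Submodule.span F (Set.range x) = mov g) (hz : ∀ i, movMap g (z i) = x i) :
    spinor g = sqc (wallMat Q x z).det := by
  obtain ⟨e⟩ : Nonempty (Fin (Module.finrank F (mov g)) ≃ ι) :=
    ⟨(Fintype.equivFinOfCardEq (finrank_mov_eq_card g hli hsp).symm).symm⟩
  have hx : ∀ i, x (e i) ∈ mov g := fun i => hsp.le (Submodule.subset_span ⟨e i, rfl⟩)
  let C : Matrix (Fin (Module.finrank F (mov g))) (Fin (Module.finrank F (mov g))) F :=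
    Matrix.of fun i l => (Module.finBasis F (mov g)).repr ⟨x (e i), hx i⟩ l
  have hxC : ∀ i, x (e i) = ∑ l, C i l • movVec g l := fun i => by
    have h := (Module.finBasis F (mov g)).sum_repr ⟨x (e i), hx i⟩
    have h' := congrArg (fun y : mov g => (y : V)) h
    simp only [Submodule.coe_sum, Submodule.coe_smul] at h'
    exact h'.symm
  have hfix : ∀ i, (g : V ≃ₗ[F] V) (z (e i) - ∑ l, C i l • movPre g l) =
      z (e i) - ∑ l, C i l • movPre g l := fun i => by
    have h : movMap g (z (e i) - ∑ l, C i l • movPre g l) = 0 := by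
      simp [map_sum, hz, movPre_spec, ← hxC i]
    rw [movMap_apply, sub_eq_zero] at h
    exact h.symm
  have hM : (wallMat Q x z).submatrix e e =
      C * wallMat Q (movVec g) (movPre g) * C.transpose := by
    ext i j
    have h1 : polar Q (z (e i)) (x (e j)) = polar Q (∑ l, C i l • movPre g l) (x (e j)) := by
      have := mov_perp_fix g (hfix i) (hx j)
      rw [QuadraticMap.polar_sub_left, sub_eq_zero] at this
      exact this
    rw [Matrix.submatrix_apply, wallMat, Matrix.of_apply, h1, hxC j,
      ← QuadraticMap.polarBilin_apply_apply, Matrix.mul_apply]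
    simp [map_sum, Matrix.mul_apply, wallMat, Finset.sum_mul, Finset.mul_sum]
    refine Finset.sum_congr rfl fun a _ => Finset.sum_congr rfl fun b _ => ?_
    ring
  have hd := det_wallMat_ne_zero hQ g hli hsp hz
  rw [← Matrix.det_submatrix_equiv_self e, hM, Matrix.det_mul, Matrix.det_mul,
    Matrix.det_transpose] at hd ⊢
  rw [sqc_sq_mul (left_ne_zero_of_mul (left_ne_zero_of_mul hd))
    (right_ne_zero_of_mul (left_ne_zero_of_mul hd))]
  rfl

/-- Multiplying by a reflection in a vector that is not moved. -/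
theorem refl_step (hQ : (polarBilin Q).Nondegenerate) (g : OQ Q) {v : V} (hv : Q v ≠ 0)
    (hvg : v ∉ mov g) :
    Module.finrank F (mov (refl hv * g)) = Module.finrank F (mov g) + 1 ∧
      spinor (refl hv * g) = spinor g * sqc (Q v) := by
  obtain ⟨a, ha1, hav⟩ := exists_sep_polar hQ hvg
  have hga : (g : V ≃ₗ[F] V) a = a := fix_of_perp_mov hQ g fun x hx => by
    rw [QuadraticMap.polar_comm]; exact hav x hx
  set z₀ := Q v • a with hz₀
  have hgz₀ : (g : V ≃ₗ[F] V) z₀ = z₀ := by rw [hz₀, map_smul, hga]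
  have hz₀v : polar Q z₀ v = Q v := by
    rw [hz₀, polar_smul_left', QuadraticMap.polar_comm, ha1, mul_one]
  have hmul : ∀ z, movMap (refl hv * g) z =
      movMap g z + ((Q v)⁻¹ * polar Q ((g : V ≃ₗ[F] V) z) v) • v := fun z => by
    rw [movMap_apply, movMap_apply]
    show z - (refl hv : V ≃ₗ[F] V) ((g : V ≃ₗ[F] V) z) = _
    rw [refl_apply]
    abel
  let x' : Fin (Module.finrank F (mov g)) ⊕ Unit → V := Sum.elim (movVec g) fun _ => v
  let z' : Fin (Module.finrank F (mov g)) ⊕ Unit → V := Sum.elim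
    (fun i => movPre g i - (polar Q ((g : V ≃ₗ[F] V) (movPre g i)) v / Q v) • z₀) fun _ => z₀
  have hz' : ∀ i, movMap (refl hv * g) (z' i) = x' i := by
    rintro (i | u)
    · simp only [z', x', Sum.elim_inl]
      have h1 : movMap g z₀ = 0 := by rw [movMap_apply, hgz₀, sub_self]
      rw [hmul, map_sub, map_smul, h1, smul_zero, sub_zero, movPre_spec, map_sub, map_smul, hgz₀,
        QuadraticMap.polar_sub_left, polar_smul_left', hz₀v, div_mul_cancel₀ _ hv, sub_self,
        mul_zero, zero_smul, add_zero]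
    · simp only [z', x', Sum.elim_inr]
      rw [hmul, hgz₀, hz₀v, inv_mul_cancel₀ hv, one_smul, movMap_apply, hgz₀, sub_self, zero_add]
  have hli : LinearIndependent F x' := by
    have hv0 : v ≠ 0 := fun h => hv (by rw [h, QuadraticMap.map_zero])
    refine (movVec_li g).sum_type (linearIndependent_unique_iff.2 hv0) ?_
    rw [movVec_span, Submodule.disjoint_def]
    intro y hy hy'
    rw [Set.range_const, Submodule.mem_span_singleton] at hy'
    obtain ⟨c, rfl⟩ := hy'
    by_cases hc : c = 0
    · rw [hc, zero_smul]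
    · exact absurd (by simpa [inv_smul_smul₀ hc] using (mov g).smul_mem c⁻¹ hy) hvg
  have hsp : Submodule.span F (Set.range x') = mov (refl hv * g) := by
    refine le_antisymm (Submodule.span_le.2 ?_) ?_
    · rintro _ ⟨i, rfl⟩
      exact ⟨z' i, hz' i⟩
    · rintro _ ⟨z, rfl⟩
      rw [hmul, Set.Sum.elim_range, Submodule.span_union, movVec_span]
      exact Submodule.add_mem_sup ⟨z, rfl⟩
        (Submodule.smul_mem _ _ (Submodule.subset_span ⟨(), rfl⟩))
  refine ⟨by rw [finrank_mov_eq_card _ hli hsp, Fintype.card_sum, Fintype.card_fin,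
    Fintype.card_unit], ?_⟩
  rw [spinor_eq hQ _ hli hsp hz']
  have hblock : wallMat Q x' z' = Matrix.fromBlocks (wallMat Q (movVec g) (movPre g))
      (Matrix.of fun i _ => polar Q (z' (Sum.inl i)) v) 0 (Matrix.of fun _ _ => Q v) := by
    ext i j
    rcases i with i | i <;> rcases j with j | j
    · have hj : movVec g j ∈ mov g := (Module.finBasis F (mov g) j).2
      simp [wallMat, x', z', QuadraticMap.polar_sub_left, mov_perp_fix g hgz₀ hj]
    · simp [wallMat, x', z']
    · have hj : movVec g j ∈ mov g := (Module.finBasis F (mov g) j).2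
      simp [wallMat, x', z', mov_perp_fix g hgz₀ hj]
    · simp [wallMat, x', z', hz₀v]
  rw [hblock, Matrix.det_fromBlocks_zero₂₁,
    sqc_mul (det_wallMat_ne_zero hQ g (movVec_li g) (movVec_span g) (movPre_spec g)) (by simpa)]
  simp [spinor]

theorem refl_step_of_mem (hQ : (polarBilin Q).Nondegenerate) (g : OQ Q) {v : V} (hv : Q v ≠ 0)
    (hvg : v ∈ mov g) : v ∉ mov (refl hv * g) := by
  obtain ⟨z₁, hz₁⟩ := hvg
  have hgz : (g : V ≃ₗ[F] V) z₁ = z₁ - v := by rw [← hz₁, movMap_apply]; abel
  have hp : polar Q z₁ v = Q v := by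
    have h := OQ.map_apply g z₁
    rw [hgz, sub_eq_add_neg, ← neg_one_smul F v, apply_add, apply_smul, polar_smul_right'] at h
    linear_combination -h
  have hfix : ((refl hv * g : OQ Q) : V ≃ₗ[F] V) z₁ = z₁ := by
    show (refl hv : V ≃ₗ[F] V) ((g : V ≃ₗ[F] V) z₁) = z₁
    rw [hgz, refl_apply, QuadraticMap.polar_sub_left, hp, polar_self']
    match_scalars <;> field_simp <;> ring
  intro hmem
  exact hv (hp ▸ mov_perp_fix _ hfix hmem)

/-- Parity and spinor norm. -/
noncomputable def invariants (g : OQ Q) : Multiplicative (ZMod 2) × SqClass F :=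
  (Multiplicative.ofAdd (Module.finrank F (mov g) : ZMod 2), spinor g)

theorem invariants_refl_mul (hQ : (polarBilin Q).Nondegenerate) (g : OQ Q) {v : V} (hv : Q v ≠ 0) :
    invariants (refl hv * g) = (Multiplicative.ofAdd 1, sqc (Q v)) * invariants g := by
  by_cases hvg : v ∈ mov g
  · obtain ⟨h1, h2⟩ := refl_step hQ (refl hv * g) hv (refl_step_of_mem hQ g hv hvg)
    rw [← mul_assoc, refl_mul_self, one_mul] at h1 h2
    refine Prod.ext ?_ ?_
    · show Multiplicative.ofAdd _ = Multiplicative.ofAdd (1 : ZMod 2) * Multiplicative.ofAdd _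
      rw [← ofAdd_add]
      congr 1
      rw [h1]
      push_cast
      rw [add_comm, add_assoc, show (1 : ZMod 2) + 1 = 0 from by decide, add_zero]
    · show spinor _ = sqc (Q v) * spinor g
      rw [h2, mul_left_comm, sqClass_mul_self, mul_one]
  · obtain ⟨h1, h2⟩ := refl_step hQ g hv hvg
    refine Prod.ext ?_ ?_
    · show Multiplicative.ofAdd _ = Multiplicative.ofAdd (1 : ZMod 2) * Multiplicative.ofAdd _
      rw [← ofAdd_add, h1]
      push_cast
      rw [add_comm]
    · show spinor _ = sqc (Q v) * spinor g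
      rw [h2, mul_comm]

theorem invariants_one (hQ : (polarBilin Q).Nondegenerate) : invariants (1 : OQ Q) = 1 := by
  have hbot : mov (1 : OQ Q) = ⊥ := by
    rw [eq_bot_iff]
    rintro _ ⟨z, rfl⟩
    simp [movMap_apply]
  refine Prod.ext ?_ ?_
  · show Multiplicative.ofAdd _ = _
    rw [hbot, finrank_bot]
    simp
  · show spinor _ = 1
    rw [spinor_eq hQ 1 (x := (Fin.elim0 : Fin 0 → V)) (z := (Fin.elim0 : Fin 0 → V))
      linearIndependent_empty_type (by rw [hbot, Set.range_eq_empty, Submodule.span_empty])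
      fun i => i.elim0, Matrix.det_fin_zero, sqc_one]

theorem invariants_mul (hQ : (polarBilin Q).Nondegenerate) (hR : reflGroup Q = ⊤) (g h : OQ Q) :
    invariants (g * h) = invariants g * invariants h := by
  have hg : g ∈ reflGroup Q := hR ▸ Subgroup.mem_top g
  refine (Subgroup.closure_induction (p := fun g _ => ∀ h : OQ Q,
    invariants (g * h) = invariants g * invariants h) ?_ ?_ ?_ ?_ hg) h
  · rintro _ ⟨v, hv, rfl⟩ h
    have h1 := invariants_refl_mul hQ 1 hv
    rw [mul_one, invariants_one hQ, mul_one] at h1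
    rw [invariants_refl_mul hQ h hv, h1]
  · intro h
    rw [one_mul, invariants_one hQ, one_mul]
  · intro a b _ _ ha hb h
    rw [mul_assoc, ha, hb, ← mul_assoc, ← ha]
  · intro a _ ha h
    have h1 := ha (a⁻¹ * h)
    rw [mul_inv_cancel_left] at h1
    have h2 := ha a⁻¹
    rw [mul_inv_cancel, invariants_one hQ] at h2
    rw [h1, ← mul_assoc, mul_comm (invariants a⁻¹), ← h2, one_mul]

/-- Parity and spinor norm, as a homomorphism. -/
noncomputable def invHom (hQ : (polarBilin Q).Nondegenerate) (hR : reflGroup Q = ⊤) :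
    OQ Q →* Multiplicative (ZMod 2) × SqClass F where
  toFun := invariants
  map_one' := invariants_one hQ
  map_mul' := invariants_mul hQ hR

theorem invHom_refl (hQ : (polarBilin Q).Nondegenerate) (hR : reflGroup Q = ⊤) {v : V}
    (hv : Q v ≠ 0) : invHom hQ hR (refl hv) = (Multiplicative.ofAdd 1, sqc (Q v)) := by
  show invariants _ = _
  rw [← mul_one (refl hv), invariants_refl_mul hQ 1 hv, invariants_one hQ, mul_one]

end CfsgLib.Classical.Quad
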