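import Cfsg.Agent.Lib.Classical.Quad.StandardForms

/-!
The two families of maximal singular subspaces of a hyperbolic quadric.
-/

set_option autoImplicit false

namespace CfsgLib.Classical.Quad

open QuadraticMap (polar polarBilin)
open LinearMap (BilinForm)

variable {F : Type*} [Field F] {V : Type*} [AddCommGroup V] [Module F V]

/-- A singular subspace of dimension `m`. -/
def IsSing (Q : QuadraticForm F V) (m : ℕ) (W : Submodule F V) : Prop :=
  Module.finrank F W = m ∧ ∀ w ∈ W, Q w = 0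

variable [FiniteDimensional F V] {Q : QuadraticForm F V} {m : ℕ}

theorem polar_eq_zero_of_sing {W : Submodule F V} (h : ∀ w ∈ W, Q w = 0) {x y : V} (hx : x ∈ W)
    (hy : y ∈ W) : polar Q x y = 0 := by
  rw [QuadraticMap.polar, h _ (W.add_mem hx hy), h x hx, h y hy]
  ring

theorem mem_orth {W : Submodule F V} {x : V} :
    x ∈ LinearMap.BilinForm.orthogonal (polarBilin Q) W ↔ ∀ w ∈ W, polar Q w x = 0 := Iff.rfl

theorem IsSing.mem_of_polar (hQ : (polarBilin Q).Nondegenerate) (hV : Module.finrank F V = 2 * m)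
    {W : Submodule F V} (hW : IsSing Q m W) {x : V} (hx : ∀ w ∈ W, polar Q w x = 0) : x ∈ W := by
  have hle : W ≤ LinearMap.BilinForm.orthogonal (polarBilin Q) W := fun y hy =>
    mem_orth.2 fun w hw => polar_eq_zero_of_sing hW.2 hw hy
  have h : W = LinearMap.BilinForm.orthogonal (polarBilin Q) W := by
    refine Submodule.eq_of_le_of_finrank_eq hle ?_
    rw [LinearMap.BilinForm.finrank_orthogonal hQ, hW.1, hV]
    omega
  rw [h]
  exact mem_orth.2 hx

/-- A singular subspace one below the maximum lies in exactly one further maximal one. -/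
theorem exists_second (hQ : (polarBilin Q).Nondegenerate) (hV : Module.finrank F V = 2 * m)
    {H W : Submodule F V} (hH : Module.finrank F H + 1 = m) (hW : IsSing Q m W) (hHW : H ≤ W) :
    ∃ W', IsSing Q m W' ∧ H ≤ W' ∧ W' ≠ W ∧
      ∀ y, Q y = 0 → (∀ u ∈ H, polar Q u y = 0) → y ∈ W ∨ y ∈ W' := by
  set O := LinearMap.BilinForm.orthogonal (polarBilin Q) H with hOdef
  have hO : Module.finrank F O = m + 1 := by
    rw [hOdef, LinearMap.BilinForm.finrank_orthogonal hQ, hV]
    omega
  have hWO : W ≤ O := fun y hy =>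
    mem_orth.2 fun u hu => polar_eq_zero_of_sing hW.2 (hHW hu) hy
  obtain ⟨w, hw, hwH⟩ : ∃ w ∈ W, w ∉ H := by
    by_contra! h
    have := Submodule.finrank_mono (show W ≤ H from h)
    have := hW.1
    omega
  obtain ⟨x, hxO, hxW⟩ : ∃ x ∈ O, x ∉ W := by
    by_contra! h
    have := Submodule.finrank_mono (show O ≤ W from h)
    have := hW.1
    omega
  have hsupW : H ⊔ Submodule.span F {w} = W := by
    refine Submodule.eq_of_le_of_finrank_le (sup_le hHW ((Submodule.span_singleton_le_iff_mem _ _).2 hw)) ?_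
    rw [hW.1, ← hH]
    exact Submodule.finrank_lt_finrank_of_lt (lt_of_le_of_ne le_sup_left fun h => hwH <| by
      rw [h]; exact Submodule.mem_sup_right (Submodule.mem_span_singleton_self w))
  have hsupO : W ⊔ Submodule.span F {x} = O := by
    refine Submodule.eq_of_le_of_finrank_le (sup_le hWO ((Submodule.span_singleton_le_iff_mem _ _).2 hxO)) ?_
    rw [hO, ← hW.1]
    exact Submodule.finrank_lt_finrank_of_lt (lt_of_le_of_ne le_sup_left fun h => hxW <| by
      rw [h]; exact Submodule.mem_sup_right (Submodule.mem_span_singleton_self x))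
  have hp : polar Q w x ≠ 0 := by
    intro h0
    refine hxW (hW.mem_of_polar hQ hV fun v hv => ?_)
    rw [← hsupW] at hv
    obtain ⟨u, hu, z, hz, rfl⟩ := Submodule.mem_sup.1 hv
    obtain ⟨c, rfl⟩ := Submodule.mem_span_singleton.1 hz
    rw [polar_add_left', polar_smul_left', h0, mem_orth.1 hxO u hu]
    ring
  set p := polar Q w x
  set y₀ := x - (Q x / p) • w with hy₀
  have hy₀q : Q y₀ = 0 := by
    rw [hy₀, sub_eq_add_neg, ← neg_smul, apply_add, apply_smul, hW.2 w hw, polar_smul_right',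
      QuadraticMap.polar_comm]
    show Q x + -(Q x / p) * -(Q x / p) * 0 + -(Q x / p) * p = 0
    field_simp
    ring
  have hy₀O : y₀ ∈ O := O.sub_mem hxO (O.smul_mem _ (hWO hw))
  have hy₀H : y₀ ∉ H := fun h => hxW <| by
    have := W.add_mem (hHW h) (W.smul_mem (Q x / p) hw)
    rwa [hy₀, sub_add_cancel] at this
  refine ⟨H ⊔ Submodule.span F {y₀}, ⟨?_, ?_⟩, le_sup_left, ?_, ?_⟩
  · rw [← hH]
    apply le_antisymm
    · refine (Submodule.finrank_add_le_finrank_add_finrank _ _).trans ?_
      rw [finrank_span_singleton (fun h => hy₀H (by rw [h]; exact H.zero_mem))]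
    · exact Submodule.finrank_lt_finrank_of_lt (lt_of_le_of_ne le_sup_left fun h => hy₀H <| by
        rw [h]; exact Submodule.mem_sup_right (Submodule.mem_span_singleton_self _))
  · intro v hv
    obtain ⟨u, hu, z, hz, rfl⟩ := Submodule.mem_sup.1 hv
    obtain ⟨c, rfl⟩ := Submodule.mem_span_singleton.1 hz
    rw [apply_add, apply_smul, hW.2 u (hHW hu), hy₀q, polar_smul_right', mem_orth.1 hy₀O u hu]
    ring
  · intro h
    have h' : y₀ ∈ W := h ▸ Submodule.mem_sup_right (Submodule.mem_span_singleton_self _)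
    refine hxW ?_
    have := W.add_mem h' (W.smul_mem (Q x / p) hw)
    rwa [hy₀, sub_add_cancel] at this
  · intro y hy hyH
    have hyO : y ∈ O := mem_orth.2 hyH
    rw [← hsupO] at hyO
    obtain ⟨v, hv, z, hz, rfl⟩ := Submodule.mem_sup.1 hyO
    obtain ⟨b, rfl⟩ := Submodule.mem_span_singleton.1 hz
    by_cases hb : b = 0
    · left; rw [hb, zero_smul, add_zero]; exact hv
    right
    rw [← hsupW] at hv
    obtain ⟨u, hu, z, hz, rfl⟩ := Submodule.mem_sup.1 hv
    obtain ⟨a, rfl⟩ := Submodule.mem_span_singleton.1 hz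
    have hb2 : b * (b * Q x + a * p) = 0 := by
      rw [apply_add, polar_add_left', polar_smul_right', polar_smul_right', polar_smul_left',
        apply_smul, hW.2 (u + a • w) (W.add_mem (hHW hu) (W.smul_mem a hw)),
        mem_orth.1 hxO u hu] at hy
      linear_combination hy
    have hab : a = -(b * (Q x / p)) := by
      have := (mul_eq_zero.1 hb2).resolve_left hb
      field_simp
      linear_combination this
    have hyy : u + a • w + b • x = u + b • y₀ := by
      rw [hy₀, smul_sub, smul_smul, hab, neg_smul]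
      abel
    rw [hyy]
    exact Submodule.add_mem_sup hu (Submodule.mem_span_singleton.2 ⟨b, rfl⟩)

theorem IsSing.eq_or_eq {H W W' X : Submodule F V} (hW : IsSing Q m W) (hW' : IsSing Q m W')
    (hu : ∀ y, Q y = 0 → (∀ u ∈ H, polar Q u y = 0) → y ∈ W ∨ y ∈ W')
    (hX : IsSing Q m X) (hHX : H ≤ X) : X = W ∨ X = W' := by
  have h : X ≤ W ∨ X ≤ W' := by
    by_contra! hc
    obtain ⟨h1, h2⟩ := hc
    obtain ⟨a, ha, haW⟩ := SetLike.not_le_iff_exists.1 h1
    obtain ⟨b, hb, hbW⟩ := SetLike.not_le_iff_exists.1 h2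
    have hk : ∀ y ∈ X, y ∈ W ∨ y ∈ W' := fun y hy =>
      hu y (hX.2 y hy) fun u hu => polar_eq_zero_of_sing hX.2 (hHX hu) hy
    have haW' : a ∈ W' := (hk a ha).resolve_left haW
    have hbW' : b ∈ W := (hk b hb).resolve_right hbW
    rcases hk (a + b) (X.add_mem ha hb) with h | h
    · exact haW (by simpa using W.sub_mem h hbW')
    · exact hbW (by simpa using W'.sub_mem h haW')
  rcases h with h | h
  · exact Or.inl (Submodule.eq_of_le_of_finrank_eq h (hX.1.trans hW.1.symm))
  · exact Or.inr (Submodule.eq_of_le_of_finrank_eq h (hX.1.trans hW'.1.symm))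

theorem card_extensions (hQ : (polarBilin Q).Nondegenerate) (hV : Module.finrank F V = 2 * m)
    (hex : ∃ T, IsSing Q m T) {H : Submodule F V} (hH : Module.finrank F H + 1 = m)
    (hHs : ∀ u ∈ H, Q u = 0) :
    Nat.card {W : Submodule F V // IsSing Q m W ∧ H ≤ W} = 2 := by
  classical
  obtain ⟨T, hT⟩ := hex
  obtain ⟨W, hW, hHW⟩ : ∃ W, IsSing Q m W ∧ H ≤ W := by
    have hP : ∃ k, ∃ W : Submodule F V, H ≤ W ∧ (∀ w ∈ W, Q w = 0) ∧
        Module.finrank F V - Module.finrank F W = k :=
      ⟨_, H, le_rfl, hHs, rfl⟩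
    obtain ⟨W, h1, h2, h3⟩ := Nat.find_spec hP
    have hmax : ∀ W' : Submodule F V, W ≤ W' → (∀ w ∈ W', Q w = 0) → W' = W := by
      intro W' hle hs
      have := Nat.find_min' hP ⟨W', h1.trans hle, hs, rfl⟩
      have := Submodule.finrank_le W'
      have := Submodule.finrank_le W
      exact (Submodule.eq_of_le_of_finrank_le hle (by omega)).symm
    have hle : Module.finrank F W ≤ m := by
      have := two_mul_finrank_le hQ h2
      omega
    refine ⟨W, ⟨?_, h2⟩, h1⟩
    rw [finrank_eq_of_maximal hQ h2 hT.2 hmax (by rw [hT.1]; exact hle), hT.1]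
  obtain ⟨W', hW', hHW', hne, hu⟩ := exists_second hQ hV hH hW hHW
  have : {X : Submodule F V | IsSing Q m X ∧ H ≤ X} = {W, W'} := by
    ext X
    simp only [Set.mem_setOf_eq, Set.mem_insert_iff, Set.mem_singleton_iff]
    constructor
    · exact fun h => hW.eq_or_eq hW' hu h.1 h.2
    · rintro (rfl | rfl)
      exacts [⟨hW, hHW⟩, ⟨hW', hHW'⟩]
  show Nat.card ↥({X : Submodule F V | IsSing Q m X ∧ H ≤ X}) = 2
  rw [this, Nat.card_coe_set_eq, Set.ncard_pair hne.symm]

theorem inter_eq {H W W' : Submodule F V} (hW : IsSing Q m W) (hW' : IsSing Q m W')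
    (hH : Module.finrank F H + 1 = m) (h : H ≤ W) (h' : H ≤ W') (hne : W' ≠ W) : W ⊓ W' = H := by
  refine (Submodule.eq_of_le_of_finrank_le (le_inf h h') ?_).symm
  have hlt : W ⊓ W' < W := lt_of_le_of_ne inf_le_left fun e => hne
    (Submodule.eq_of_le_of_finrank_eq (inf_eq_left.1 e) (hW.1.trans hW'.1.symm)).symm
  have := Submodule.finrank_lt_finrank_of_lt hlt
  have := hW.1
  omega

/-- Exactly one of two adjacent maximal singular subspaces meets a third one more. -/
theorem flip_step (hQ : (polarBilin Q).Nondegenerate) (hV : Module.finrank F V = 2 * m)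
    {W W' X : Submodule F V} (hW : IsSing Q m W) (hW' : IsSing Q m W') (hX : IsSing Q m X)
    (hadj : Module.finrank F ↥(W ⊓ W') + 1 = m) :
    Module.finrank F ↥(X ⊓ W) = Module.finrank F ↥(X ⊓ W') + 1 ∨
      Module.finrank F ↥(X ⊓ W') = Module.finrank F ↥(X ⊓ W) + 1 := by
  set H := W ⊓ W' with hHdef
  obtain ⟨W'', hW'', hHW'', hne, hu⟩ := exists_second hQ hV hadj hW inf_le_left
  have hW'ne : W' ≠ W := fun h => by
    rw [hHdef, h, inf_idem, hW.1] at hadj
    omega
  obtain rfl : W' = W'' := (hW.eq_or_eq hW'' hu hW' inf_le_right).resolve_left hW'ne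
  set O := LinearMap.BilinForm.orthogonal (polarBilin Q) H with hOdef
  have hO : Module.finrank F O = m + 1 := by
    rw [hOdef, LinearMap.BilinForm.finrank_orthogonal hQ, hV]
    omega
  -- `(X ⊔ O)^⊥ = X ⊓ H`
  have hXO : Module.finrank F ↥(X ⊔ O) + Module.finrank F ↥(X ⊓ H) = 2 * m := by
    have heq : LinearMap.BilinForm.orthogonal (polarBilin Q) (X ⊔ O) = X ⊓ H := by
      ext y
      rw [mem_orth, Submodule.mem_inf]
      constructor
      · intro h
        refine ⟨hX.mem_of_polar hQ hV fun w hw => h w (Submodule.mem_sup_left hw), ?_⟩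
        have hO' : y ∈ LinearMap.BilinForm.orthogonal (polarBilin Q) O :=
          mem_orth.2 fun w hw => h w (Submodule.mem_sup_right hw)
        rwa [hOdef, LinearMap.BilinForm.orthogonal_orthogonal hQ
          (fun a b hab => by
            show polar Q b a = 0
            rw [QuadraticMap.polar_comm]; exact hab)] at hO'
      · rintro ⟨hyX, hyH⟩ w hw
        obtain ⟨a, ha, b, hb, rfl⟩ := Submodule.mem_sup.1 hw
        rw [polar_add_left', polar_eq_zero_of_sing hX.2 ha hyX, QuadraticMap.polar_comm _ b y,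
          mem_orth.1 hb y hyH, add_zero]
    rw [← heq, LinearMap.BilinForm.finrank_orthogonal hQ, hV]
    have := Submodule.finrank_le (X ⊔ O)
    omega
  have hsum := Submodule.finrank_sup_add_finrank_inf_eq X O
  have hXOd : Module.finrank F ↥(X ⊓ O) = Module.finrank F ↥(X ⊓ H) + 1 := by
    have := hX.1
    omega
  have hle : ∀ Y, IsSing Q m Y → H ≤ Y → X ⊓ Y ≤ X ⊓ O := fun Y hY hHY =>
    inf_le_inf le_rfl fun z hz => mem_orth.2 fun u hu => polar_eq_zero_of_sing hY.2 (hHY hu) hz
  have hor : X ⊓ O ≤ W ∨ X ⊓ O ≤ W' := by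
    by_contra! hc
    obtain ⟨h1, h2⟩ := hc
    obtain ⟨a, ha, haW⟩ := SetLike.not_le_iff_exists.1 h1
    obtain ⟨b, hb, hbW⟩ := SetLike.not_le_iff_exists.1 h2
    have hk : ∀ y ∈ X ⊓ O, y ∈ W ∨ y ∈ W' := fun y hy => hu y (hX.2 y hy.1) (mem_orth.1 hy.2)
    have haW' : a ∈ W' := (hk a ha).resolve_left haW
    have hbW' : b ∈ W := (hk b hb).resolve_right hbW
    rcases hk (a + b) (Submodule.add_mem _ ha hb) with h | h
    · exact haW (by simpa using W.sub_mem h hbW')
    · exact hbW (by simpa using W'.sub_mem h haW')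
  rcases hor with h | h
  · left
    have e1 : X ⊓ W = X ⊓ O := le_antisymm (hle W hW inf_le_left) (le_inf inf_le_left h)
    have e2 : X ⊓ W' = X ⊓ H := le_antisymm
      (fun z hz => ⟨hz.1, ⟨h ((hle W' hW' inf_le_right) hz), hz.2⟩⟩)
      (inf_le_inf le_rfl inf_le_right)
    rw [e1, e2, hXOd]
  · right
    have e1 : X ⊓ W' = X ⊓ O := le_antisymm (hle W' hW' inf_le_right) (le_inf inf_le_left h)
    have e2 : X ⊓ W = X ⊓ H := le_antisymm
      (fun z hz => ⟨hz.1, ⟨hz.2, h ((hle W hW inf_le_left) hz)⟩⟩)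
      (inf_le_inf le_rfl inf_le_left)
    rw [e1, e2, hXOd]

theorem even_three (hQ : (polarBilin Q).Nondegenerate) (hV : Module.finrank F V = 2 * m)
    {U W X : Submodule F V} (hU : IsSing Q m U) (hW : IsSing Q m W) (hX : IsSing Q m X) :
    Even ((m - Module.finrank F ↥(U ⊓ W)) + (m - Module.finrank F ↥(W ⊓ X)) +
      (m - Module.finrank F ↥(U ⊓ X))) := by
  induction hn : m - Module.finrank F ↥(W ⊓ X) generalizing W with
  | zero =>
    have h1 : W ⊓ X = W := Submodule.eq_of_le_of_finrank_le inf_le_left (by rw [hW.1]; omega)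
    obtain rfl : W = X :=
      Submodule.eq_of_le_of_finrank_eq (inf_eq_left.1 h1) (hW.1.trans hX.1.symm)
    exact ⟨m - Module.finrank F ↥(U ⊓ W), by omega⟩
  | succ n ih =>
    obtain ⟨x, hx, hxW⟩ : ∃ x ∈ X, x ∉ W := by
      by_contra! h
      have h1 : X = W := Submodule.eq_of_le_of_finrank_eq h (hX.1.trans hW.1.symm)
      rw [h1, inf_idem, hW.1] at hn
      omega
    let φ : W →ₗ[F] F := ((polarBilin Q) x).comp W.subtype
    have hφ : ∀ w : W, φ w = polar Q x (w : V) := fun _ => rfl
    obtain ⟨w₀, hw₀⟩ : ∃ w : W, φ w ≠ 0 := by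
      by_contra! h
      exact hxW (hW.mem_of_polar hQ hV fun w hw => by
        rw [QuadraticMap.polar_comm]; exact (hφ ⟨w, hw⟩).symm.trans (h ⟨w, hw⟩))
    let H := (LinearMap.ker φ).map W.subtype
    have hH : Module.finrank F H + 1 = m := by
      rw [Submodule.finrank_map_subtype_eq, ← hW.1, ← LinearMap.finrank_range_add_finrank_ker φ,
        LinearMap.range_eq_top.2 (fun c => ⟨(c / φ w₀) • w₀, by simp [div_mul_cancel₀ _ hw₀]⟩),
        finrank_top, Module.finrank_self]
      ring
    have hHW : H ≤ W := Submodule.map_subtype_le _ _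
    obtain ⟨W', hW', hHW', hne, hu⟩ := exists_second hQ hV hH hW hHW
    have hxH : ∀ u ∈ H, polar Q u x = 0 := by
      rintro _ ⟨u, hu, rfl⟩
      rw [QuadraticMap.polar_comm]
      exact hu
    have hxW' : x ∈ W' := (hu x (hX.2 x hx) hxH).resolve_left hxW
    have hadj : Module.finrank F ↥(W ⊓ W') + 1 = m := by rw [inter_eq hW hW' hH hHW hHW' hne, hH]
    have hlt : W ⊓ X < W' ⊓ X := by
      refine lt_of_le_of_ne (fun z hz => ⟨hHW' ?_, hz.2⟩) fun e => hxW ?_
      · exact ⟨⟨z, hz.1⟩, polar_eq_zero_of_sing hX.2 hx hz.2, rfl⟩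
      · exact (e ▸ (⟨hxW', hx⟩ : x ∈ W' ⊓ X) : x ∈ W ⊓ X).1
    have hlt' := Submodule.finrank_lt_finrank_of_lt hlt
    have hX' := flip_step hQ hV hW hW' hX hadj
    rw [inf_comm X W, inf_comm X W'] at hX'
    have hU' := flip_step hQ hV hW hW' hU hadj
    have h4 := ih hW' (by omega)
    have := Submodule.finrank_mono (inf_le_left : W' ⊓ X ≤ W')
    have := Submodule.finrank_mono (inf_le_right : U ⊓ W ≤ W)
    have := Submodule.finrank_mono (inf_le_right : U ⊓ W' ≤ W')
    have := hW.1
    have := hW'.1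
    rw [Nat.even_iff] at h4 ⊢
    omega

theorem exists_adjacent (hQ : (polarBilin Q).Nondegenerate) (hV : Module.finrank F V = 2 * m)
    (hm : 1 ≤ m) {T : Submodule F V} (hT : IsSing Q m T) :
    ∃ U W, IsSing Q m U ∧ IsSing Q m W ∧ Module.finrank F ↥(U ⊓ W) + 1 = m := by
  obtain ⟨k, rfl⟩ : ∃ k, m = k + 1 := ⟨m - 1, by omega⟩
  let b := Module.finBasisOfFinrankEq F T hT.1
  let H := (Submodule.span F (Set.range (b ∘ Fin.castSucc))).map T.subtype
  have hH : Module.finrank F H + 1 = k + 1 := by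
    rw [Submodule.finrank_map_subtype_eq,
      finrank_span_eq_card (b.linearIndependent.comp _ (Fin.castSucc_injective _)), Fintype.card_fin]
  obtain ⟨W, hW, hHW, hne, -⟩ := exists_second hQ hV hH hT (Submodule.map_subtype_le _ _)
  exact ⟨T, W, hT, hW, by rw [inter_eq hT hW hH (Submodule.map_subtype_le _ _) hHW hne, hH]⟩

/-- The coordinate singular subspace of `Σ x_i y_i`. -/
theorem exists_sing_qPlus (m : ℕ) : ∃ T, IsSing (qPlus m F) m T := by
  let L : (Fin m → F) →ₗ[F] (Fin m ⊕ Fin m → F) :=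
    { toFun := fun w => Sum.elim w 0
      map_add' := fun u v => by ext x; rcases x with i | i <;> simp
      map_smul' := fun r v => by ext x; rcases x with i | i <;> simp }
  have hL : Function.Injective L := fun u v h => funext fun i => congrFun h (Sum.inl i)
  refine ⟨LinearMap.range L, by rw [LinearMap.finrank_range_of_inj hL, Module.finrank_fin_fun], ?_⟩
  rintro _ ⟨w, rfl⟩
  simp [L, coe_qPlus, Cfsg.quadFormPlus]

end CfsgLib.Classical.Quad
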