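import Cfsg.Agent.Lib.Classical.Quad.PlusMinusType
import Cfsg.Agent.Lib.Classical.Symplectic.Geometry
import Cfsg.Agent.Lib.Classical.Symplectic.Matrix

/-!
Centralisers of isometries of odd order prime to the characteristic of a symmetric bilinear form:
similitudes with non-square multiplier, and elements with non-square determinant commuting with
their adjoint.
-/

set_option autoImplicit false

namespace CfsgLib.Classical.Quad.Semisimple

open LinearMap (BilinForm)

universe v

variable {F : Type*} [Field F] {V : Type v} [AddCommGroup V] [Module F V]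

/-- `g` is adjoint to `f`. -/
def IsAdj (B : BilinForm F V) (f g : Module.End F V) : Prop := ∀ x y, B (f x) y = B x (g y)

variable {B : BilinForm F V}

theorem IsAdj.add {f g f' g' : Module.End F V} (h : IsAdj B f g) (h' : IsAdj B f' g') :
    IsAdj B (f + f') (g + g') := fun x y => by simp [h x y, h' x y]

theorem IsAdj.sub {f g f' g' : Module.End F V} (h : IsAdj B f g) (h' : IsAdj B f' g') :
    IsAdj B (f - f') (g - g') := fun x y => by simp [h x y, h' x y]

theorem IsAdj.mul {f g f' g' : Module.End F V} (h : IsAdj B f g) (h' : IsAdj B f' g') :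
    IsAdj B (f * f') (g' * g) := fun x y => by
  rw [Module.End.mul_apply, Module.End.mul_apply, h, h']

theorem IsAdj.one : IsAdj B 1 1 := fun _ _ => rfl

theorem IsAdj.smul {f g : Module.End F V} (h : IsAdj B f g) (c : F) :
    IsAdj B (c • f) (c • g) := fun x y => by simp [h x y]

theorem IsAdj.pow {f g : Module.End F V} (h : IsAdj B f g) (n : ℕ) : IsAdj B (f ^ n) (g ^ n) := by
  induction n with
  | zero => simpa using IsAdj.one
  | succ n ih => rw [pow_succ, pow_succ']; exact ih.mul h

theorem IsAdj.symm (hS : ∀ x y, B x y = B y x) {f g : Module.End F V} (h : IsAdj B f g) :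
    IsAdj B g f := fun x y => by rw [hS, ← h, hS]

theorem IsAdj.unique (hB : B.Nondegenerate) {f g g' : Module.End F V} (h : IsAdj B f g)
    (h' : IsAdj B f g') : g = g' := LinearMap.ext fun y => sub_eq_zero.1 (hB.2 _ fun x => by
  rw [map_sub, ← h, ← h', sub_self])

theorem exists_adj [FiniteDimensional F V] (hB : B.Nondegenerate) (f : Module.End F V) :
    ∃ g, IsAdj B f g := by
  let b := Module.finBasis F V
  have h := fun i => Classical.Bilin.exists_right_dual hB ((LinearMap.flip B (b i)).comp f)
  choose a ha using h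
  refine ⟨b.constr F a, fun x y => ?_⟩
  have h2 : B.compLeft f = B.compRight (b.constr F a) := by
    refine LinearMap.ext fun x => b.ext fun i => ?_
    show B (f x) (b i) = B x (b.constr F a (b i))
    rw [Module.Basis.constr_basis, ha]
    rfl
  exact LinearMap.congr_fun (LinearMap.congr_fun h2 x) y

/-! ### Determinants -/

theorem det_sympSys_isometry [FiniteDimensional F V] (hA : B.IsAlt) (hB : B.Nondegenerate)
    (g : Module.End F V) (μ : F) (hg : ∀ x y, B (g x) (g y) = μ * B x y) :
    ∃ m, Module.finrank F V = 2 * m ∧ LinearMap.det g = μ ^ m := by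
  classical
  obtain ⟨m, v, hv, hm⟩ := Classical.Symp.exists_sympSys hA hB
  refine ⟨m, hm, ?_⟩
  let b : Module.Basis (Fin m ⊕ Fin m) F V :=
    basisOfLinearIndependentOfCardEqFinrank' _ (hv.linearIndependent hA) (by simp [hm]; ring)
  have hb : ∀ i, b i = v i := fun i => by simp [b]
  have hG : LinearMap.BilinForm.toMatrix b B = -Matrix.J (Fin m) F := by
    ext i j
    rw [LinearMap.BilinForm.toMatrix_apply, hb, hb, Matrix.J]
    rcases i with i | i <;> rcases j with j | j
    · simp [hv.2.1]
    · simp [hv.1, Matrix.one_apply]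
    · rw [Classical.Symp.swap hA (v (.inl j)) (v (.inr i)), hv.1]
      simp [Matrix.one_apply, eq_comm]
    · simp [hv.2.2]
  set M := LinearMap.toMatrix b b g with hM
  have hdet : LinearMap.det g = M.det := (LinearMap.det_toMatrix b g).symm
  have hMG : M.transpose * Matrix.J (Fin m) F * M = μ • Matrix.J (Fin m) F := by
    have h : B.comp g g = μ • B := LinearMap.ext fun x => LinearMap.ext fun y => hg x y
    have h' := congrArg (LinearMap.BilinForm.toMatrix b) h
    rw [LinearMap.BilinForm.toMatrix_comp b, map_smul, hG] at h'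
    simpa using h'
  by_cases hμ : μ = 0
  · subst hμ
    rcases Nat.eq_zero_or_pos m with h0 | h0
    · subst h0
      rw [hdet, pow_zero]
      exact Matrix.det_isEmpty
    rw [zero_pow (by omega), hdet]
    rw [zero_smul] at hMG
    have h' := congrArg Matrix.det hMG
    haveI : Nonempty (Fin m ⊕ Fin m) := ⟨Sum.inl ⟨0, h0⟩⟩
    rw [Matrix.det_zero, Matrix.det_mul, Matrix.det_mul, Matrix.det_transpose] at h'
    have hJ : (Matrix.J (Fin m) F).det ≠ 0 := Classical.Symp.det_J_ne_zero m F
    rcases mul_eq_zero.1 h' with h1 | h1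
    · exact (mul_eq_zero.1 h1).resolve_right hJ
    · exact h1
  let D : Matrix (Fin m ⊕ Fin m) (Fin m ⊕ Fin m) F :=
    Matrix.diagonal (Sum.elim (fun _ => 1) (fun _ => μ⁻¹))
  have hDJ : D.transpose * (μ • Matrix.J (Fin m) F) * D = Matrix.J (Fin m) F := by
    ext i j
    simp only [D, Matrix.diagonal_transpose, Matrix.mul_diagonal, Matrix.diagonal_mul,
      Matrix.smul_apply, smul_eq_mul, Matrix.J]
    rcases i with i | i <;> rcases j with j | j <;> simp [Matrix.one_apply] <;> split_ifs <;>
      field_simp
  have hmem : M * D ∈ Matrix.symplecticGroup (Fin m) F := by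
    rw [SymplecticGroup.mem_iff', Matrix.transpose_mul]
    calc D.transpose * M.transpose * Matrix.J (Fin m) F * (M * D)
        = D.transpose * (M.transpose * Matrix.J (Fin m) F * M) * D := by
          simp only [Matrix.mul_assoc]
      _ = Matrix.J (Fin m) F := by rw [hMG, hDJ]
  have h1 := SymplecticGroup.det_eq_one hmem
  have hD : D.det = μ⁻¹ ^ m := by simp [D, Matrix.det_diagonal, Fintype.prod_sum_type]
  rw [Matrix.det_mul, hD, ← hdet, inv_pow] at h1
  exact (mul_inv_eq_one₀ (pow_ne_zero _ hμ)).1 h1

theorem isSquare_det_gram_alt [FiniteDimensional F V] (hA : B.IsAlt) (hB : B.Nondegenerate)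
    {ι : Type*} [Fintype ι] [DecidableEq ι] (b : Module.Basis ι F V) :
    IsSquare (LinearMap.BilinForm.toMatrix b B).det := by
  classical
  obtain ⟨m, v, hv, hm⟩ := Classical.Symp.exists_sympSys hA hB
  let c : Module.Basis (Fin m ⊕ Fin m) F V :=
    basisOfLinearIndependentOfCardEqFinrank' _ (hv.linearIndependent hA) (by simp [hm]; ring)
  let e : ι ≃ Fin m ⊕ Fin m := b.indexEquiv c
  have h := det_gram_of_isometry (b.reindex e) c B B (LinearEquiv.refl F V) fun _ _ => rfl
  have rb : LinearMap.BilinForm.toMatrix (b.reindex e) B =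
      (LinearMap.BilinForm.toMatrix b B).submatrix e.symm e.symm := by
    ext i j; simp [LinearMap.BilinForm.toMatrix_apply]
  have hc : LinearMap.BilinForm.toMatrix c B = -Matrix.J (Fin m) F := by
    ext i j
    rw [LinearMap.BilinForm.toMatrix_apply, Matrix.J]
    simp only [c, coe_basisOfLinearIndependentOfCardEqFinrank']
    rcases i with i | i <;> rcases j with j | j
    · simp [hv.2.1]
    · simp [hv.1, Matrix.one_apply]
    · rw [Classical.Symp.swap hA (v (.inl j)) (v (.inr i)), hv.1]
      simp [Matrix.one_apply, eq_comm]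
    · simp [hv.2.2]
  rw [rb, Matrix.det_submatrix_equiv_self, hc] at h
  have hJ : (-Matrix.J (Fin m) F).det = 1 := by
    have hJ' : Matrix.J (Fin m) F ∈ Matrix.symplecticGroup (Fin m) F := SymplecticGroup.J_mem _ _
    rw [Matrix.det_neg, SymplecticGroup.det_eq_one hJ']
    simp [← two_mul, pow_mul]
  rw [h, hJ, mul_one]
  exact ⟨_, sq _⟩

/-- The determinant of a map acting as `k` on `W` and trivially on a complement. -/
theorem det_extend [FiniteDimensional F V] {W : Submodule F V} (p : Module.End F V)
    (hp : ∀ x, p x ∈ W) (hpW : ∀ x ∈ W, p x = x) (k : Module.End F W) :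
    LinearMap.det (W.subtype ∘ₗ k ∘ₗ p.codRestrict W hp + (1 - p)) = LinearMap.det k := by
  have hc : IsCompl W (LinearMap.ker p) := by
    refine ⟨Submodule.disjoint_def.2 fun x hx hk => ?_, codisjoint_iff_le_sup.2 fun x _ => ?_⟩
    · rw [← hpW x hx]; exact hk
    · exact Submodule.mem_sup.2 ⟨p x, hp x, x - p x, by
        show p (x - p x) = 0
        rw [map_sub, hpW _ (hp x), sub_self], add_sub_cancel _ _⟩
  let e := Submodule.prodEquivOfIsCompl W (LinearMap.ker p) hc
  set T := W.subtype ∘ₗ k ∘ₗ p.codRestrict W hp + (1 - p)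
  have h : T = (e : W × LinearMap.ker p →ₗ[F] V) ∘ₗ (k.prodMap LinearMap.id) ∘ₗ
      (e.symm : V →ₗ[F] W × LinearMap.ker p) := by
    refine LinearMap.ext fun x => ?_
    obtain ⟨⟨w, u⟩, rfl⟩ := e.surjective x
    simp only [LinearMap.comp_apply, LinearEquiv.coe_coe, LinearEquiv.symm_apply_apply,
      LinearMap.prodMap_apply, LinearMap.id_apply, e, Submodule.coe_prodEquivOfIsCompl', T,
      LinearMap.add_apply, LinearMap.sub_apply, Module.End.one_apply, map_add,
      LinearMap.mem_ker.1 u.2, hpW _ w.2, Submodule.subtype_apply, add_zero]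
    have hcr : p.codRestrict W hp (w : V) = w := Subtype.ext (hpW _ w.2)
    have hcu : p.codRestrict W hp (u : V) = 0 := Subtype.ext (LinearMap.mem_ker.1 u.2)
    rw [hcr, hcu]
    simp
  rw [h, LinearMap.det_conj, LinearMap.det_prodMap, LinearMap.det_id,
    mul_one]

/-! ### Binary forms over reduced finite rings -/

theorem exists_ring_binary {R : Type*} [CommRing R] [Finite R] [IsReduced R] (h2 : IsUnit (2 : R))
    (s α : R) : ∃ x y : R, (x ^ 2 + s * x * y + y ^ 2 - α) * (s ^ 2 - 4) = 0 := by
  classical
  have key : ∀ I : MaximalSpectrum R, ∃ x y : R ⧸ I.asIdeal,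
      (x ^ 2 + Ideal.Quotient.mk I.asIdeal s * x * y + y ^ 2 - Ideal.Quotient.mk I.asIdeal α) *
        (Ideal.Quotient.mk I.asIdeal s ^ 2 - 4) = 0 := by
    intro I
    haveI : I.asIdeal.IsMaximal := I.isMaximal
    letI := Ideal.Quotient.field I.asIdeal
    haveI : Finite (R ⧸ I.asIdeal) := Finite.of_surjective _ Ideal.Quotient.mk_surjective
    have h2' : (2 : R ⧸ I.asIdeal) ≠ 0 := by
      have h := h2.map (Ideal.Quotient.mk I.asIdeal)
      rw [map_ofNat] at h
      exact h.ne_zero
    set t := Ideal.Quotient.mk I.asIdeal s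
    by_cases h0 : t ^ 2 - 4 = 0
    · exact ⟨0, 0, by rw [h0, mul_zero]⟩
    obtain ⟨x, y, hxy⟩ := exists_sum_two_squares h2' (one_ne_zero (α := R ⧸ I.asIdeal))
      (neg_ne_zero.2 h0) (4 * Ideal.Quotient.mk I.asIdeal α)
    refine ⟨(x - t * y) / 2, y, mul_eq_zero_of_left ?_ _⟩
    field_simp
    linear_combination hxy
  choose x y hxy using key
  let e := IsArtinianRing.equivPi R
  refine ⟨e.symm x, e.symm y, e.injective ?_⟩
  rw [map_zero]
  funext I
  have hx : Ideal.Quotient.mk I.asIdeal (e.symm x) = x I := by
    rw [← IsArtinianRing.equivPi_apply]; exact congrFun (e.apply_symm_apply x) I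
  have hy : Ideal.Quotient.mk I.asIdeal (e.symm y) = y I := by
    rw [← IsArtinianRing.equivPi_apply]; exact congrFun (e.apply_symm_apply y) I
  rw [IsArtinianRing.equivPi_apply]
  simp only [map_mul, map_sub, map_add, map_pow, map_ofNat, hx, hy]
  exact hxy I

theorem alg_projection (a b : Module.End F V) (c : F) (hc : c + c = 1) (ha : a * a = a)
    (hb : b * b = b) (hba : b * a = 0) : (a - c • (a * b)) * (b - c • (a * b)) = 0 := by
  have e1 : a * (a * b) = a * b := by rw [← mul_assoc, ha]
  have e2 : a * b * b = a * b := by rw [mul_assoc, hb]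
  have e3 : a * b * (a * b) = 0 := by rw [mul_assoc, ← mul_assoc b, hba, zero_mul, mul_zero]
  rw [sub_mul, mul_sub, mul_sub, mul_smul_comm, smul_mul_assoc, smul_mul_assoc, mul_smul_comm,
    e1, e2, e3, smul_zero, smul_zero, sub_zero, sub_sub, ← add_smul, hc, one_smul, sub_self]

/-! ### The isometry -/

/-- An isometry of odd order, prime to the characteristic, of a symmetric form. -/
structure OddIsom (B : BilinForm F V) (h : Module.End F V) (r : ℕ) : Prop where
  nondeg : B.Nondegenerate
  symm : ∀ x y, B x y = B y x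
  two_ne : (2 : F) ≠ 0
  odd : Odd r
  cast_ne : (r : F) ≠ 0
  pow_eq : h ^ r = 1
  isom : ∀ x y, B (h x) (h y) = B x y

variable {h : Module.End F V} {r : ℕ} (H : OddIsom B h r)
include H

theorem hi_mul : h ^ (r - 1) * h = 1 ∧ h * h ^ (r - 1) = 1 := by
  obtain ⟨j, hj⟩ := H.odd
  have hr : r - 1 + 1 = r := by omega
  exact ⟨by rw [← pow_succ, hr, H.pow_eq], by rw [← pow_succ', hr, H.pow_eq]⟩

theorem adj_h : IsAdj B h (h ^ (r - 1)) := fun x y => by
  conv_rhs => rw [← H.isom, ← Module.End.mul_apply h, (hi_mul H).2, Module.End.one_apply]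

theorem adj_hi : IsAdj B (h ^ (r - 1)) h := (adj_h H).symm H.symm

theorem fix_of_D {x : V} (hx : (h - h ^ (r - 1)) x = 0) : h x = x := by
  rw [LinearMap.sub_apply, sub_eq_zero] at hx
  have h2 : h (h x) = x := by
    rw [hx, ← Module.End.mul_apply, (hi_mul H).2, Module.End.one_apply]
  obtain ⟨j, hj⟩ := H.odd
  have hp : ∀ i, (h ^ (2 * i + 1)) x = h x := by
    intro i
    induction i with
    | zero => simp
    | succ i ih =>
      rw [show 2 * (i + 1) + 1 = 2 + (2 * i + 1) by ring, pow_add, Module.End.mul_apply, ih, sq,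
        Module.End.mul_apply, h2]
  have := hp j
  rw [← hj, H.pow_eq, Module.End.one_apply] at this
  exact this.symm

omit H in
/-- The average of the powers of `h`. -/
def avg (h : Module.End F V) (r : ℕ) : Module.End F V :=
  (r : F)⁻¹ • ∑ i ∈ Finset.range r, h ^ i

theorem h_avg : h * avg h r = avg h r := by
  rw [avg, mul_smul_comm]
  congr 1
  have hg := mul_geom_sum h r
  rw [H.pow_eq, sub_self, sub_mul, one_mul, sub_eq_zero] at hg
  exact hg

omit H in
theorem avg_h : avg h r * h = h * avg h r := by
  have : Commute h (avg h r) :=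
    ((Commute.sum_right (Finset.range r) (fun i => h ^ i) h fun i _ => Commute.self_pow h i).smul_right _)
  exact this.eq.symm

theorem avg_fix {x : V} (hx : h x = x) : avg h r x = x := by
  have hp : ∀ i : ℕ, (h ^ i) x = x := by
    intro i
    induction i with
    | zero => simp
    | succ i ih => rw [pow_succ, Module.End.mul_apply, hx, ih]
  rw [avg, LinearMap.smul_apply, LinearMap.sum_apply, Finset.sum_congr rfl (fun i _ => hp i),
    Finset.sum_const, Finset.card_range, ← Nat.cast_smul_eq_nsmul F, inv_smul_smul₀ H.cast_ne]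

theorem avg_avg : avg h r * avg h r = avg h r :=
  LinearMap.ext fun x => avg_fix H (by rw [← Module.End.mul_apply, h_avg H])

theorem pow_isom (i : ℕ) (x y : V) : B ((h ^ i) x) ((h ^ i) y) = B x y := by
  induction i generalizing x y with
  | zero => simp
  | succ i ih => rw [pow_succ, Module.End.mul_apply, Module.End.mul_apply, ih, H.isom]

theorem adj_avg : IsAdj B (avg h r) (avg h r) := by
  have key : ∀ x y, B (avg h r x) y = B (avg h r x) (avg h r y) := by
    intro x y
    have hp : ∀ i : ℕ, (h ^ i) (avg h r x) = avg h r x := by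
      intro i
      induction i with
      | zero => simp
      | succ i ih => rw [pow_succ, Module.End.mul_apply, ← Module.End.mul_apply h, h_avg H, ih]
    have hi : ∀ i : ℕ, B (avg h r x) ((h ^ i) y) = B (avg h r x) y := fun i => by
      conv_lhs => rw [← hp i, pow_isom H]
    conv_rhs => rw [show avg h r y = (r : F)⁻¹ • ∑ i ∈ Finset.range r, (h ^ i) y by simp [avg]]
    rw [map_smul, map_sum, Finset.sum_congr rfl (fun i _ => hi i), Finset.sum_const,
      Finset.card_range, smul_eq_mul, nsmul_eq_mul, inv_mul_cancel_left₀ H.cast_ne]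
  intro x y
  rw [key, H.symm x (avg h r y), key y x, H.symm]

theorem D_isAlt : (B.compLeft (h - h ^ (r - 1))).IsAlt := fun x => by
  show B ((h - h ^ (r - 1)) x) x = 0
  rw [LinearMap.sub_apply, map_sub, LinearMap.sub_apply, adj_hi H x x, H.symm x (h x), sub_self]

theorem D_nondeg (hfix : ∀ x, h x = x → x = 0) :
    (B.compLeft (h - h ^ (r - 1))).Nondegenerate := by
  refine ⟨fun x hx => hfix x (fix_of_D H (H.nondeg.1 _ fun y => hx y)), fun y hy => ?_⟩
  refine hfix y (fix_of_D H (H.nondeg.1 _ fun x => ?_))
  have h1 : B ((h - h ^ (r - 1)) x) y = B x ((h ^ (r - 1) - h) y) :=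
    ((adj_h H).sub (adj_hi H)) x y
  have h2 : B ((h - h ^ (r - 1)) x) y = 0 := hy x
  rw [h2, ← neg_sub h (h ^ (r - 1)), LinearMap.neg_apply, map_neg, zero_eq_neg] at h1
  rw [H.symm]
  exact h1

variable [FiniteDimensional F V]

/-- Without fixed vectors, a similitude commuting with `h` has determinant `μ ^ (n / 2)`. -/
theorem det_similitude (hfix : ∀ x, h x = x → x = 0) (g : Module.End F V) (hg : g * h = h * g)
    (μ : F) (hμ : ∀ x y, B (g x) (g y) = μ * B x y) :
    ∃ m, Module.finrank F V = 2 * m ∧ LinearMap.det g = μ ^ m := by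
  refine det_sympSys_isometry (D_isAlt H) (D_nondeg H hfix) g μ fun x y => ?_
  have hc : Commute g (h - h ^ (r - 1)) :=
    (show Commute g h from hg).sub_right ((show Commute g h from hg).pow_right _)
  show B ((h - h ^ (r - 1)) (g x)) (g y) = μ * B ((h - h ^ (r - 1)) x) y
  rw [← Module.End.mul_apply, ← hc.eq, Module.End.mul_apply, hμ]

theorem nondeg_fix : (B.restrict (LinearMap.range (avg h r))).Nondegenerate := by
  have key : ∀ x ∈ LinearMap.range (avg h r),
      (∀ y ∈ LinearMap.range (avg h r), B x y = 0) → x = 0 := by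
    rintro _ ⟨x, rfl⟩ hx
    refine H.nondeg.1 _ fun y => ?_
    have e : B (avg h r x) y = B (avg h r x) (avg h r y) := by
      rw [adj_avg H x y, adj_avg H x (avg h r y), ← Module.End.mul_apply (avg h r), avg_avg H]
    rw [e]
    exact hx _ ⟨y, rfl⟩
  exact ⟨fun x hx => Subtype.ext (key x x.2 fun y hy => hx ⟨y, hy⟩),
    fun x hx => Subtype.ext (key x x.2 fun y hy => by rw [H.symm]; exact hx ⟨y, hy⟩)⟩

/-- The fixed space has the parity of the whole space. -/
theorem even_finrank_fix : Even (Module.finrank F V) →
    Even (Module.finrank F (LinearMap.range (avg h r))) := by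
  intro hev
  set U := LinearMap.ker (avg h r) with hU
  have hR : ((B.compLeft (h - h ^ (r - 1))).restrict U).Nondegenerate := by
    have key : ∀ x ∈ U, (∀ y ∈ U, B ((h - h ^ (r - 1)) x) y = 0) → x = 0 := by
      intro x hx hall
      have hz : ∀ y, B ((h - h ^ (r - 1)) x) y = 0 := by
        intro y
        have hc : Commute (avg h r) (h - h ^ (r - 1)) :=
          (show Commute (avg h r) h from avg_h).sub_right
            ((show Commute (avg h r) h from avg_h).pow_right _)
        have h0 : B ((h - h ^ (r - 1)) x) (avg h r y) = 0 := by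
          rw [← adj_avg H, ← Module.End.mul_apply, hc.eq, Module.End.mul_apply,
            LinearMap.mem_ker.1 hx, map_zero, map_zero, LinearMap.zero_apply]
        have h1 : y - avg h r y ∈ U := by
          rw [hU, LinearMap.mem_ker, map_sub, ← Module.End.mul_apply, avg_avg H, sub_self]
        have := hall _ h1
        rwa [map_sub, h0, sub_zero] at this
      have := avg_fix H (fix_of_D H (H.nondeg.1 _ hz))
      rw [← this]
      exact LinearMap.mem_ker.1 hx
    refine ⟨fun x hx => Subtype.ext (key x x.2 fun y hy => hx ⟨y, hy⟩), fun x hx => ?_⟩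
    refine Subtype.ext (key x x.2 fun y hy => ?_)
    have h1 : B.compLeft (h - h ^ (r - 1)) y x = 0 := hx ⟨y, hy⟩
    rw [← LinearMap.IsAlt.neg (D_isAlt H) (x : V) y] at h1
    exact neg_eq_zero.1 h1
  obtain ⟨m, v, -, hm⟩ := Classical.Symp.exists_sympSys
    (B := (B.compLeft (h - h ^ (r - 1))).restrict U) (fun x => D_isAlt H (x : V)) hR
  have hsum := LinearMap.finrank_range_add_finrank_ker (avg h r)
  rw [← hU, hm] at hsum
  rw [← hsum, Nat.even_add] at hev
  exact hev.2 (even_two_mul m)

/-- A similitude with any given multiplier commuting with `h`. -/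
theorem exists_similitude [Finite F] (hev : Even (Module.finrank F V)) {α : F} (hα : α ≠ 0) :
    ∃ C : Module.End F V, C * h = h * C ∧ ∀ x y, B (C x) (C y) = α * B x y := by
  classical
  haveI : Finite V := Module.finite_of_finite F
  haveI : Finite (Module.End F V) := Module.finite_of_finite F
  haveI := Fintype.ofFinite F
  set hi := h ^ (r - 1) with hhi
  have hch : Commute h hi := Commute.self_pow h _
  set s := h + hi with hs
  set A := Algebra.adjoin F ({s} : Set (Module.End F V)) with hA
  letI : CommRing A := Algebra.adjoinCommRingOfComm F (s := ({s} : Set (Module.End F V)))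
    (by rintro a (rfl : a = s) b (rfl : b = s); rfl)
  -- elements of `A` are self-adjoint and commute with `h`
  have hAdj : ∀ a ∈ A, IsAdj B a a ∧ Commute a h := by
    intro a ha
    induction ha using Algebra.adjoin_induction with
    | mem x hx =>
      rw [Set.mem_singleton_iff] at hx
      subst hx
      refine ⟨?_, ((Commute.refl h).add_left hch.symm)⟩
      have := (adj_h H).add (adj_hi H)
      rwa [add_comm (h ^ (r - 1)) h] at this
    | algebraMap c =>
      refine ⟨?_, Algebra.commutes c h⟩
      rw [Algebra.algebraMap_eq_smul_one]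
      exact IsAdj.one.smul c
    | add x y _ _ hx hy => exact ⟨hx.1.add hy.1, hx.2.add_left hy.2⟩
    | mul x y hx' hy' hx hy =>
      refine ⟨?_, hx.2.mul_left hy.2⟩
      have e : y * x = x * y := congrArg Subtype.val (mul_comm (⟨y, hy'⟩ : A) ⟨x, hx'⟩)
      have := hx.1.mul hy.1
      rwa [e] at this
  -- `A` is reduced
  haveI : IsReduced A := by
    obtain ⟨p, hp⟩ := CharP.exists F
    have hpp : p.Prime := CharP.char_is_prime F p
    haveI := Fact.mk hpp
    obtain ⟨f, -, hcard⟩ := FiniteField.card F p
    have hq : (Fintype.card F).Coprime r := by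
      rw [hcard]
      refine Nat.Coprime.pow_left _ (hpp.coprime_iff_not_dvd.2 fun hd => H.cast_ne ?_)
      exact (CharP.cast_eq_zero_iff F p r).2 hd
    set t := r.totient with ht
    have hQ : Fintype.card F ^ t ≡ 1 [MOD r] := Nat.ModEq.pow_totient hq
    set Q := Fintype.card F ^ t
    have hh : h ^ Q = h := by
      conv_lhs => rw [← Nat.div_add_mod Q r, pow_add, pow_mul, H.pow_eq, one_pow, one_mul, hQ]
      rcases Nat.lt_or_ge 1 r with h1 | h1
      · rw [Nat.mod_eq_of_lt h1, pow_one]
      · obtain ⟨j, hj⟩ := H.odd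
        obtain rfl : r = 1 := by omega
        have := H.pow_eq
        rw [pow_one] at this
        simp [this]
    have hQp : ∃ n, Q = p ^ n := ⟨(f : ℕ) * t, by rw [pow_mul, ← hcard]⟩
    obtain ⟨n, hn⟩ := hQp
    haveI : Nontrivial V → CharP (Module.End F V) p := fun _ =>
      charP_of_injective_algebraMap (FaithfulSMul.algebraMap_injective F (Module.End F V)) p
    rcases subsingleton_or_nontrivial V with hV | hV
    · haveI : Subsingleton A := inferInstance
      exact ⟨fun a _ => Subsingleton.elim _ _⟩
    haveI : CharP (Module.End F V) p :=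
      charP_of_injective_algebraMap (FaithfulSMul.algebraMap_injective F (Module.End F V)) p
    have hall : ∀ a ∈ A, a ^ Q = a := by
      intro a ha
      induction ha using Algebra.adjoin_induction with
      | mem x hx =>
        rw [Set.mem_singleton_iff] at hx
        subst hx
        rw [hn, add_pow_char_pow_of_commute (p := p) (h := hch), ← hn, hh, hhi, ← pow_mul, mul_comm, pow_mul, hh]
      | algebraMap c =>
        rw [← map_pow]
        congr 1
        exact FiniteField.pow_card_pow t c
      | add x y hx' hy' hx hy =>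
        have e : Commute x y := congrArg Subtype.val (mul_comm (⟨x, hx'⟩ : A) ⟨y, hy'⟩)
        rw [hn, add_pow_char_pow_of_commute (p := p) (h := e), ← hn, hx, hy]
      | mul x y hx' hy' hx hy =>
        have e : Commute x y := congrArg Subtype.val (mul_comm (⟨x, hx'⟩ : A) ⟨y, hy'⟩)
        rw [e.mul_pow, hx, hy]
    refine ⟨fun a ⟨N, hN⟩ => Subtype.ext ?_⟩
    have hN' : (a : Module.End F V) ^ N = 0 := congrArg Subtype.val hN
    have hit : ∀ j, (a : Module.End F V) ^ (Q ^ j) = a := by
      intro j
      induction j with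
      | zero => simp
      | succ j ih => rw [pow_succ, pow_mul, ih, hall _ a.2]
    have hQ1 : 1 < Q := Nat.one_lt_pow (fun h0 => by
      have := Nat.totient_eq_zero.1 h0
      obtain ⟨j, hj⟩ := H.odd
      omega) Fintype.one_lt_card
    rw [← hit N]
    exact pow_eq_zero_of_le (Nat.lt_pow_self hQ1).le hN'
  have h2A : IsUnit (2 : A) := by
    have h := (isUnit_iff_ne_zero.2 H.two_ne).map (algebraMap F A)
    rwa [map_ofNat] at h
  obtain ⟨⟨x, hx⟩, ⟨y, hy⟩, hxy⟩ := exists_ring_binary h2A
    (⟨s, Algebra.self_mem_adjoin_singleton F s⟩ : A) (algebraMap F A α)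
  have hxy' : (x ^ 2 + s * x * y + y ^ 2 - α • 1) * (s ^ 2 - 4) = 0 := by
    rw [← Algebra.algebraMap_eq_smul_one]
    exact congrArg Subtype.val hxy
  obtain ⟨hxa, hxh⟩ := hAdj x hx
  obtain ⟨hya, hyh⟩ := hAdj y hy
  set c := x + y * h with hc
  set cb := x + hi * y with hcb
  have hadj : IsAdj B c cb := hxa.add (hya.mul (adj_h H))
  have hxy1 : Commute x y := congrArg Subtype.val (mul_comm (⟨x, hx⟩ : A) ⟨y, hy⟩)
  have hch' : Commute c h := hxh.add_left (hyh.mul_left (Commute.refl h))
  -- the part on which `h` has no fixed vectors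
  have hnorm : ∀ z, avg h r z = 0 → (cb * c) z = α • z := by
    intro z hz
    set T := x ^ 2 + s * x * y + y ^ 2 - α • 1
    have hT : cb * c - α • 1 = T := by
      have e1 : hi * y * h = y := by
        rw [mul_assoc, hyh.eq, ← mul_assoc, (hi_mul H).1, one_mul]
      have e2 : x * (y * h) = h * (x * y) := by
        rw [← mul_assoc, ((hxh.mul_left hyh) : Commute (x * y) h).eq]
      simp only [hcb, hc, T, hs, sq, add_mul, mul_add, e2, hxy1.eq, mul_assoc]
      rw [show hi * (y * (y * h)) = y * (hi * (y * h)) by
          rw [← mul_assoc hi, ← mul_assoc y hi, (show Commute y hi from hyh.pow_right _).eq],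
        ← mul_assoc hi y h, e1]
      abel
    have hTh : Commute T h := by
      rw [← hT]
      exact (((hxh.add_left ((hch.symm).mul_left hyh))).mul_left hch').sub_left
        ((Commute.one_left h).smul_left α)
    have hTT : T * ((h - hi) * (h - hi)) = 0 := by
      rw [← hxy']
      congr 1
      rw [hs, sq, add_mul, mul_add, mul_add, sub_mul, mul_sub, mul_sub, (hi_mul H).1, (hi_mul H).2,
        show (4 : Module.End F V) = 1 + 1 + 1 + 1 by norm_num]
      abel
    have hav : Commute T (avg h r) :=
      (Commute.sum_right (Finset.range r) (fun i => h ^ i) T fun i _ => hTh.pow_right i).smul_right _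
    have hTd : Commute T (h - hi) := hTh.sub_right (hTh.pow_right _)
    have hTz : T z = 0 := by
      have h0 : avg h r (T z) = 0 := by
        rw [← Module.End.mul_apply, ← hav.eq, Module.End.mul_apply, hz, map_zero]
      have inj : ∀ w, avg h r w = 0 → (h - hi) w = 0 → w = 0 := fun w h1 h2 =>
        (avg_fix H (fix_of_D H h2)).symm.trans h1
      have h1 : avg h r ((h - hi) (T z)) = 0 := by
        have : Commute (avg h r) (h - hi) :=
          (show Commute (avg h r) h from avg_h).sub_right
            ((show Commute (avg h r) h from avg_h).pow_right _)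
        rw [← Module.End.mul_apply, this.eq, Module.End.mul_apply, h0, map_zero]
      refine inj _ h0 (inj _ h1 ?_)
      have h2' := LinearMap.congr_fun hTT z
      rw [Module.End.mul_apply, Module.End.mul_apply, ← Module.End.mul_apply T, hTd.eq,
        Module.End.mul_apply, ← Module.End.mul_apply T, hTd.eq, Module.End.mul_apply] at h2'
      exact h2'
    rw [← hT, LinearMap.sub_apply, sub_eq_zero] at hTz
    rw [hTz]
    rfl
  -- the fixed part
  set V0 := LinearMap.range (avg h r)
  obtain ⟨δ, hδ⟩ : ∃ δ : Module.End F V0, ∀ u w : V0, B (δ u : V) (δ w) = α * B (u : V) w := by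
    rcases Nat.eq_zero_or_pos (Module.finrank F V0) with h0 | h0
    · haveI : Subsingleton V0 := Module.finrank_zero_iff.1 h0
      exact ⟨1, fun u w => by simp [Subsingleton.elim u 0]⟩
    obtain ⟨n, hn⟩ : ∃ n, Module.finrank F V0 = n + 1 := ⟨_, (Nat.sub_add_cancel h0).symm⟩
    have hnd := nondeg_fix H
    have hnd' : (α⁻¹ • B.restrict V0).Nondegenerate :=
      ⟨fun u hu => hnd.1 u fun w => by
          have := hu w; simp only [LinearMap.smul_apply, smul_eq_mul, mul_eq_zero, inv_eq_zero] at this
          exact this.resolve_left hα,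
        fun u hu => hnd.2 u fun w => by
          have := hu w; simp only [LinearMap.smul_apply, smul_eq_mul, mul_eq_zero, inv_eq_zero] at this
          exact this.resolve_left hα⟩
    have hsym : (B.restrict V0).IsSymm := ⟨fun u w => H.symm _ _⟩
    have hsym' : (α⁻¹ • B.restrict V0).IsSymm := ⟨fun u w => by
      show α⁻¹ * B u w = α⁻¹ * B w u
      rw [H.symm]⟩
    let b := Module.finBasis F V0
    obtain ⟨e, he⟩ := exists_isometry_of_det H.two_ne hsym hnd hsym' hnd' b b hn hn (by
      obtain ⟨j, hj⟩ := even_finrank_fix H hev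
      rw [map_smul, Matrix.det_smul, Fintype.card_fin]
      exact ⟨α⁻¹ ^ j * (LinearMap.BilinForm.toMatrix b (B.restrict V0)).det, by
        rw [show (α⁻¹ : F) ^ Module.finrank F V0 = α⁻¹ ^ (j + j) from congrArg _ hj]
        ring⟩)
    refine ⟨e, fun u w => ?_⟩
    have h1 : α⁻¹ * B (e u : V) (e w) = B (u : V) w := he u w
    rw [← h1, mul_inv_cancel_left₀ hα]
    rfl
  let dd : Module.End F V := V0.subtype ∘ₗ δ ∘ₗ (avg h r).rangeRestrict
  have hddV : ∀ z, avg h r (dd z) = dd z := fun z => by
    obtain ⟨w, hw⟩ := (δ ((avg h r).rangeRestrict z)).2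
    show avg h r (δ ((avg h r).rangeRestrict z) : V) = _
    rw [← hw, ← Module.End.mul_apply, avg_avg H, hw]
    rfl
  have hfixh : ∀ z, h (avg h r z) = avg h r z := fun z => by
    rw [← Module.End.mul_apply, h_avg H]
  have hcav : Commute c (avg h r) :=
    (Commute.sum_right (Finset.range r) (fun i => h ^ i) c fun i _ => hch'.pow_right i).smul_right _
  refine ⟨c * (1 - avg h r) + dd, LinearMap.ext fun z => ?_, fun u w => ?_⟩
  · have e1 : (avg h r).rangeRestrict (h z) = (avg h r).rangeRestrict z := Subtype.ext (by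
      show avg h r (h z) = avg h r z
      rw [← Module.End.mul_apply, avg_h, h_avg H])
    have e2 : h (dd z) = dd z := by rw [← hddV z, hfixh]
    have e3 : (c * (1 - avg h r)) * h = h * (c * (1 - avg h r)) :=
      (hch'.mul_left ((Commute.one_left h).sub_left (show Commute (avg h r) h from avg_h))).eq
    have e4 := LinearMap.congr_fun e3 z
    simp only [Module.End.mul_apply, LinearMap.add_apply, map_add] at e4 ⊢
    rw [e4, e2]
    congr 1
    simp [dd, e1]
  · have hsplit : ∀ a b, avg h r a = 0 → avg h r b = b → B a b = 0 := fun a b ha hb => by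
      rw [← hb, ← adj_avg H, ha, map_zero, LinearMap.zero_apply]
    have hK : ∀ z, avg h r ((1 - avg h r : Module.End F V) z) = 0 := fun z => by
      rw [LinearMap.sub_apply, Module.End.one_apply, map_sub, ← Module.End.mul_apply, avg_avg H, sub_self]
    have hcK : ∀ z, avg h r z = 0 → avg h r (c z) = 0 := fun z hz => by
      rw [← Module.End.mul_apply, ← hcav.eq, Module.End.mul_apply, hz, map_zero]
    simp only [LinearMap.add_apply, Module.End.mul_apply, map_add]
    rw [hsplit _ _ (hcK _ (hK u)) (hddV w), H.symm (dd u), hsplit _ _ (hcK _ (hK w)) (hddV u),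
      add_zero, zero_add, hadj, ← Module.End.mul_apply cb, hnorm _ (hK w), map_smul, smul_eq_mul]
    have hd : B (dd u) (dd w) = α * B (avg h r u) (avg h r w) := hδ _ _
    rw [hd, LinearMap.sub_apply, LinearMap.sub_apply, Module.End.one_apply, Module.End.one_apply,
      map_sub, map_sub, LinearMap.sub_apply, LinearMap.sub_apply]
    have e5 : B (avg h r u) w = B (avg h r u) (avg h r w) := by
      rw [adj_avg H u w, adj_avg H u (avg h r w), ← Module.End.mul_apply (avg h r), avg_avg H]
    have e6 : B u (avg h r w) = B (avg h r u) (avg h r w) := by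
      rw [← adj_avg H u w, e5]
    rw [e5, e6]
    ring

/-- Without fixed vectors: a map commuting with `h` and with its adjoint, with non-square
determinant, whose difference from the adjoint is injective. -/
theorem exists_nonsquare_det [Finite F] [Nontrivial V] (hfix : ∀ x, h x = x → x = 0) :
    ∃ c cb : Module.End F V, IsAdj B c cb ∧ c * cb = cb * c ∧ c * h = h * c ∧
      ¬ IsSquare (LinearMap.det c) ∧ ∀ x, (cb - c) x = 0 → x = 0 := by
  classical
  set hi := h ^ (r - 1) with hhi
  have his1 : hi * h = 1 := (hi_mul H).1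
  have his2 : h * hi = 1 := (hi_mul H).2
  -- a minimal invariant subspace
  obtain ⟨W, hWne, hWh, hWmin⟩ : ∃ W : Submodule F V, W ≠ ⊥ ∧ (∀ x ∈ W, h x ∈ W) ∧
      ∀ W' : Submodule F V, W' ≤ W → (∀ x ∈ W', h x ∈ W') → W' = ⊥ ∨ W' = W := by
    have hP : ∃ n, ∃ W : Submodule F V, W ≠ ⊥ ∧ (∀ x ∈ W, h x ∈ W) ∧ Module.finrank F W = n :=
      ⟨_, ⊤, top_ne_bot, fun x _ => Submodule.mem_top, rfl⟩
    obtain ⟨W, h1, h2, h3⟩ := Nat.find_spec hP
    refine ⟨W, h1, h2, fun W' hle hinv => ?_⟩
    by_contra hc
    push Not at hc
    have hlt := Submodule.finrank_lt_finrank_of_lt (lt_of_le_of_ne hle hc.2)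
    exact Nat.find_min hP (m := Module.finrank F W') (by omega) ⟨W', hc.1, hinv, rfl⟩
  have hWpow : ∀ (i : ℕ), ∀ x ∈ W, (h ^ i) x ∈ W := by
    intro i
    induction i with
    | zero => simp
    | succ i ih => intro x hx; rw [pow_succ, Module.End.mul_apply]; exact ih _ (hWh x hx)
  let hW : Module.End F W := h.restrict hWh
  have hWpow' : ∀ (i : ℕ) (x : W), ((hW ^ i) x : V) = (h ^ i) (x : V) := by
    intro i
    induction i with
    | zero => simp
    | succ i ih => intro x; rw [pow_succ, Module.End.mul_apply, ih, pow_succ, Module.End.mul_apply]; rfl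
  set K := Algebra.adjoin F ({hW} : Set (Module.End F W)) with hKdef
  letI : CommRing K := Algebra.adjoinCommRingOfComm F (s := ({hW} : Set (Module.End F W)))
    (by rintro a (rfl : a = hW) b (rfl : b = hW); rfl)
  haveI : Nontrivial W := Submodule.nontrivial_iff_ne_bot.2 hWne
  have hKh : ∀ k ∈ K, k * hW = hW * k := fun k hk =>
    congrArg Subtype.val (mul_comm (⟨k, hk⟩ : K) ⟨hW, Algebra.self_mem_adjoin_singleton F hW⟩)
  have hKinj : ∀ k ∈ K, k ≠ 0 → Function.Injective k := by
    intro k hk hk0
    rw [← LinearMap.ker_eq_bot]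
    rcases hWmin ((LinearMap.ker k).map W.subtype) (Submodule.map_subtype_le _ _) (by
      rintro _ ⟨x, hx, rfl⟩
      refine ⟨hW x, ?_, rfl⟩
      show k (hW x) = 0
      rw [← Module.End.mul_apply, hKh k hk, Module.End.mul_apply, LinearMap.mem_ker.1 hx, map_zero])
      with h0 | h0
    · exact Submodule.map_injective_of_injective W.injective_subtype (h0.trans (Submodule.map_bot _).symm)
    · exfalso
      apply hk0
      refine LinearMap.ext fun x => ?_
      have hx : (x : V) ∈ (LinearMap.ker k).map W.subtype := h0.symm ▸ x.2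
      obtain ⟨y, hy, hyx⟩ := hx
      obtain rfl : y = x := Subtype.ext hyx
      exact hy
  haveI : Nontrivial K := ⟨0, 1, fun e => zero_ne_one (congrArg Subtype.val e)⟩
  haveI : IsDomain K := by
    haveI : NoZeroDivisors K := ⟨fun {a b} hab => by
      by_contra hc
      push Not at hc
      apply hc.2
      refine Subtype.ext (LinearMap.ext fun x => hKinj a a.2 (fun e => hc.1 (Subtype.ext e)) ?_)
      rw [← Module.End.mul_apply]
      have h0 : (a : Module.End F W) * b = 0 := congrArg Subtype.val hab
      rw [h0]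
      simp⟩
    exact NoZeroDivisors.to_isDomain K
  haveI : Finite W := Module.finite_of_finite F
  haveI : Finite (Module.End F W) := Module.finite_of_finite F
  letI : Field K := (Finite.isDomain_to_isField K).toField
  obtain ⟨v, hv⟩ := exists_ne (0 : W)
  let ev : K →ₗ[F] W :=
    { toFun := fun k => (k : Module.End F W) v
      map_add' := fun a b => rfl
      map_smul' := fun c a => rfl }
  have hevb : Function.Bijective ev := by
    refine ⟨fun a b hab => ?_, ?_⟩
    · by_contra hne
      refine hv (hKinj _ (a - b : K).2 (fun e => hne (sub_eq_zero.1 (Subtype.ext e))) ?_)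
      rw [map_zero]
      show (a : Module.End F W) v - (b : Module.End F W) v = 0
      exact sub_eq_zero.2 hab
    · rw [← LinearMap.range_eq_top]
      rcases hWmin ((LinearMap.range ev).map W.subtype) (Submodule.map_subtype_le _ _) (by
        rintro _ ⟨_, ⟨k, rfl⟩, rfl⟩
        exact ⟨_, ⟨⟨hW, Algebra.self_mem_adjoin_singleton F hW⟩ * k, rfl⟩, rfl⟩) with h0 | h0
      · exfalso
        have : (v : V) ∈ (LinearMap.range ev).map W.subtype := ⟨v, ⟨1, rfl⟩, rfl⟩
        rw [h0, Submodule.mem_bot] at this
        exact hv (Subtype.ext this)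
      · refine Submodule.map_injective_of_injective W.injective_subtype ?_
        rw [h0, Submodule.map_top, Submodule.range_subtype]
  haveI : Module.Finite F K := Module.Finite.of_injective ev hevb.1
  obtain ⟨α, hα⟩ : ∃ α : F, ¬ IsSquare α := FiniteField.exists_nonsquare fun e => H.two_ne (by
    have := ringChar.eq_iff.1 e
    exact CharTwo.two_eq_zero)
  obtain ⟨k₀, hk₀⟩ := FiniteField.norm_surjective F K α
  set k : Module.End F W := (k₀ : Module.End F W)
  have hdetk : LinearMap.det k = α := by
    rw [← hk₀, Algebra.norm_apply]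
    let e := LinearEquiv.ofBijective ev hevb
    have hconj : (e : K →ₗ[F] W) ∘ₗ (Algebra.lmul F K k₀) ∘ₗ (e.symm : W →ₗ[F] K) = k := by
      refine LinearMap.ext fun x => ?_
      obtain ⟨l, rfl⟩ := e.surjective x
      simp only [LinearMap.comp_apply, LinearEquiv.coe_coe, LinearEquiv.symm_apply_apply]
      rfl
    rw [← hconj, LinearMap.det_conj]
  have hk0 : k ≠ 0 := fun e => hα (by
    rw [← hdetk, e, LinearMap.det_zero, zero_pow Module.finrank_pos.ne']
    exact IsSquare.zero)
  have hKcomm : ∀ a ∈ K, ∀ b ∈ K, a * b = b * a := fun a ha b hb =>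
    congrArg Subtype.val (mul_comm (⟨a, ha⟩ : K) ⟨b, hb⟩)
  have hkK : k ∈ K := k₀.2
  have hWr : hW ^ r = 1 := LinearMap.ext fun x => Subtype.ext (by rw [hWpow', H.pow_eq]; rfl)
  -- squares among determinants
  have sq_of_pow : ∀ T : Module.End F V, T ^ r = 1 → IsSquare (LinearMap.det T) := by
    intro T hT
    obtain ⟨j, hj⟩ := H.odd
    refine ⟨LinearMap.det T ^ (j + 1), ?_⟩
    have e : LinearMap.det T ^ r = 1 := by rw [← map_pow, hT, map_one]
    rw [← pow_add, show j + 1 + (j + 1) = r + 1 by omega, pow_succ, e, one_mul]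
  have hext : ∀ (p : Module.End F V) (hp : ∀ x, p x ∈ W), Commute p h → ∀ a : Module.End F W,
      a * hW = hW * a → Commute (W.subtype ∘ₗ a ∘ₗ p.codRestrict W hp) h := by
    intro p hp hph a ha
    refine LinearMap.ext fun x => ?_
    have e1 : p.codRestrict W hp (h x) = hW (p.codRestrict W hp x) :=
      Subtype.ext (LinearMap.congr_fun hph.eq x)
    show (a (p.codRestrict W hp (h x)) : V) = h (a (p.codRestrict W hp x) : V)
    rw [e1, ← Module.End.mul_apply a, ha, Module.End.mul_apply]
    rfl
  have pow_split : ∀ (P : Module.End F V), P * P = P → Commute P h → ∀ n,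
      (P + h * (1 - P)) ^ n = P + h ^ n * (1 - P) := by
    intro P hP hPh n
    induction n with
    | zero => simp
    | succ n ih =>
      have e1 : P * (1 - P) = 0 := by rw [mul_sub, mul_one, hP, sub_self]
      have e2 : (1 - P) * P = 0 := by rw [sub_mul, one_mul, hP, sub_self]
      have e3 : (1 - P) * (1 - P) = 1 - P := by rw [mul_sub, mul_one, e2, sub_zero]
      have c1 : Commute (1 - P) h := (Commute.one_left h).sub_left hPh
      rw [pow_succ, ih, add_mul, mul_add, mul_add, hP, ← mul_assoc P h, hPh.eq, mul_assoc h P,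
        e1, mul_zero, add_zero, mul_assoc _ (1 - P) P, e2, mul_zero, zero_add,
        mul_assoc _ (1 - P) (h * (1 - P)), ← mul_assoc (1 - P) h, c1.eq, mul_assoc h, e3,
        ← mul_assoc, ← pow_succ]
  have hfixD : ∀ x, (hi - h) x = 0 → x = 0 := fun x hx => hfix x (fix_of_D H (by
    rw [← neg_sub, LinearMap.neg_apply, hx, neg_zero]))
  rcases hWmin (W ⊓ B.orthogonal W) inf_le_left (by
    rintro x ⟨hx1, hx2⟩
    refine ⟨hWh x hx1, fun y hy => ?_⟩
    show B y (h x) = 0
    rw [← (adj_hi H) y x]
    exact hx2 _ (hWpow (r - 1) y hy)) with hnd | hiso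
  · -- `W` non-degenerate
    have hzero : ∀ x ∈ W, (∀ y ∈ W, B x y = 0) → x = 0 := fun x hx hy => by
      have : x ∈ W ⊓ B.orthogonal W := ⟨hx, fun y hy' => (H.symm y x).trans (hy y hy')⟩
      rwa [hnd, Submodule.mem_bot] at this
    have hcompl : IsCompl W (B.orthogonal W) := by
      refine (Submodule.isCompl_iff_disjoint _ _ ?_).2 (disjoint_iff.2 hnd)
      rw [LinearMap.BilinForm.finrank_orthogonal H.nondeg]
      have := Submodule.finrank_le W
      omega
    let p : Module.End F V := W.projection (B.orthogonal W) hcompl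
    have hpW : ∀ x, p x ∈ W := fun x => Submodule.projection_apply_mem _ _
    have hpid : ∀ x ∈ W, p x = x := fun x hx => Submodule.projection_apply_of_mem_left _ hx
    have hpc : ∀ x, x - p x ∈ B.orthogonal W := fun x => by
      have := Submodule.projection_add_projection_eq_self hcompl x
      rw [← eq_sub_iff_add_eq'] at this
      rw [← this]
      exact Submodule.projection_apply_mem _ _
    have hpB : ∀ x y, B (p x) y = B (p x) (p y) := fun x y => by
      have e : B (p x) (y - p y) = 0 := hpc y _ (hpW x)
      rwa [map_sub, sub_eq_zero] at e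
    have hpadj : IsAdj B p p := fun x y => by rw [hpB, H.symm x (p y), hpB y x, H.symm]
    have hph : Commute p h := LinearMap.ext fun x => by
      show p (h x) = h (p x)
      have e : h x = h (p x) + h (x - p x) := by rw [← map_add, add_sub_cancel]
      have e2 : h (x - p x) ∈ B.orthogonal W := fun y hy => by
        show B y (h (x - p x)) = 0
        rw [← (adj_hi H) y]
        exact hpc x _ (hWpow (r - 1) y hy)
      conv_lhs => rw [e, map_add, hpid _ (hWh _ (hpW x)),
        show p (h (x - p x)) = 0 from
          (Submodule.projection_apply_eq_zero_iff hcompl).2 e2, add_zero]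
    have hp2 : p * p = p := LinearMap.ext fun x => hpid _ (hpW x)
    -- adjoints inside `K`
    have hKadj : ∀ a ∈ K, ∃ b ∈ K, ∀ x y : W, B (a x : V) y = B (x : V) (b y : V) := by
      intro a ha
      induction ha using Algebra.adjoin_induction with
      | mem x hx =>
        rw [Set.mem_singleton_iff] at hx
        subst hx
        refine ⟨hW ^ (r - 1), pow_mem (Algebra.self_mem_adjoin_singleton F hW) _, fun u w => ?_⟩
        rw [hWpow']
        exact adj_h H u w
      | algebraMap c =>
        exact ⟨_, K.algebraMap_mem c, fun u w => by simp [Algebra.algebraMap_eq_smul_one]⟩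
      | add a a' _ _ h1 h2 =>
        obtain ⟨b, hb, e1⟩ := h1
        obtain ⟨b', hb', e2⟩ := h2
        exact ⟨b + b', add_mem hb hb', fun u w => by simp [e1 u w, e2 u w]⟩
      | mul a a' _ _ h1 h2 =>
        obtain ⟨b, hb, e1⟩ := h1
        obtain ⟨b', hb', e2⟩ := h2
        exact ⟨b' * b, mul_mem hb' hb, fun u w => by
          rw [Module.End.mul_apply, e1, e2, Module.End.mul_apply]⟩
    obtain ⟨k', hk', hkk⟩ := hKadj k hkK
    have hne : k' ≠ k := by
      rintro rfl
      apply hα
      -- two alternating forms on `W`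
      let BW : BilinForm F W := B.restrict W
      let DW : Module.End F W := hW - hW ^ (r - 1)
      have hDW : ∀ x : W, (DW x : V) = (h - hi) (x : V) := fun x => by
        simp [DW, hWpow', hhi]; rfl
      have hkh : Commute k DW :=
        (show Commute k hW from hKh _ hkK).sub_right ((show Commute k hW from hKh _ hkK).pow_right _)
      have A0 : (BW.compLeft DW).IsAlt := fun x => by
        show B (DW x : V) x = 0
        rw [hDW]; exact D_isAlt H (x : V)
      have A1 : (BW.compLeft (DW * k)).IsAlt := fun x => by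
        show B ((DW * k) x : V) x = 0
        have h1 : B (DW (k x) : V) x = -B (k x : V) (DW x) := by
          rw [hDW, hDW, hhi, (adj_h H).sub (adj_hi H), ← neg_sub h (h ^ (r - 1)),
            LinearMap.neg_apply, map_neg]
        have h2 : B (k x : V) (DW x) = B (DW (k x) : V) x := by
          rw [hkk, ← Module.End.mul_apply k DW, hkh.eq, Module.End.mul_apply, H.symm]
        rw [h2, eq_neg_iff_add_eq_zero, ← two_mul] at h1
        exact (mul_eq_zero.1 h1).resolve_left H.two_ne
      have hBW : BW.Nondegenerate :=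
        ⟨fun x hx => Subtype.ext (hzero x x.2 fun y hy => hx ⟨y, hy⟩),
          fun x hx => Subtype.ext (hzero x x.2 fun y hy => by rw [H.symm]; exact hx ⟨y, hy⟩)⟩
      have inj0 : Function.Injective DW := by
        rw [injective_iff_map_eq_zero]
        intro x hx
        refine Subtype.ext (hfix _ (fix_of_D H ?_))
        rw [← hhi, ← hDW, hx]
        rfl
      have nd : ∀ T : Module.End F W, Function.Injective T → (BW.compLeft T).Nondegenerate := by
        intro T hT
        refine ⟨fun x hx => hT (by rw [map_zero]; exact hBW.1 _ fun y => hx y), fun y hy => ?_⟩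
        refine hBW.2 y fun z => ?_
        obtain ⟨x, rfl⟩ := LinearMap.injective_iff_surjective.1 hT z
        exact hy x
      let b := Module.finBasis F W
      have key : ∀ T : Module.End F W, (LinearMap.BilinForm.toMatrix b (BW.compLeft T)).det =
          LinearMap.det T * (LinearMap.BilinForm.toMatrix b BW).det := fun T => by
        rw [LinearMap.BilinForm.toMatrix_compLeft, Matrix.det_mul, Matrix.det_transpose,
          LinearMap.det_toMatrix]
      have s0 := isSquare_det_gram_alt A0 (nd _ inj0) b
      have s1 := isSquare_det_gram_alt A1 (nd _ (inj0.comp (hKinj _ hkK hk0))) b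
      rw [key] at s0 s1
      rw [map_mul, hdetk, mul_comm (LinearMap.det DW) α, mul_assoc] at s1
      set t := LinearMap.det DW * (LinearMap.BilinForm.toMatrix b BW).det
      have ht : t ≠ 0 := by
        have := (LinearMap.BilinForm.nondegenerate_iff_det_ne_zero b).1 (nd _ inj0)
        rwa [key] at this
      have hdiv := s1.div s0
      rwa [mul_div_assoc, div_self ht, mul_one] at hdiv
    let kp := W.subtype ∘ₗ k ∘ₗ p.codRestrict W hpW
    let kp' := W.subtype ∘ₗ k' ∘ₗ p.codRestrict W hpW
    have hkadj : IsAdj B kp kp' := fun x y => by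
      have e1 : ∀ (u : W) (z : V), B (u : V) z = B (u : V) (p z) := fun u z => by
        conv_lhs => rw [← hpid _ u.2, hpB, hpid _ u.2]
      show B (k _ : V) y = B x (k' _ : V)
      rw [e1, H.symm x, e1 (k' _) x, H.symm (k' _ : V)]
      exact hkk _ _
    have hkp : Commute kp h := hext p hpW hph k (hKh k hkK)
    have hkp' : Commute kp' h := hext p hpW hph k' (hKh k' hk')
    have hp_kp : ∀ (a : Module.End F W) x, p (W.subtype (a (p.codRestrict W hpW x))) =
        W.subtype (a (p.codRestrict W hpW x)) := fun a x => hpid _ (Subtype.coe_prop _)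
    set q := (1 : Module.End F V) - p with hq
    have hq2 : q * q = q := by rw [hq, mul_sub, mul_one, sub_mul, one_mul, hp2, sub_self, sub_zero]
    have hqh : Commute q h := (Commute.one_left h).sub_left hph
    have z1 : ∀ a : Module.End F W, (W.subtype ∘ₗ a ∘ₗ p.codRestrict W hpW) * q = 0 := fun a =>
      LinearMap.ext fun x => by
        have : p.codRestrict W hpW (q x) = 0 := Subtype.ext (by
          show p (q x) = 0
          rw [hq, LinearMap.sub_apply, Module.End.one_apply, map_sub, hpid _ (hpW x), sub_self])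
        simp [this]
    have z2 : ∀ a : Module.End F W, q * (W.subtype ∘ₗ a ∘ₗ p.codRestrict W hpW) = 0 := fun a =>
      LinearMap.ext fun x => by
        show W.subtype (a (p.codRestrict W hpW x)) - p (W.subtype (a (p.codRestrict W hpW x))) = 0
        rw [hp_kp, sub_self]
    refine ⟨kp + h * q, kp' + q * hi, hkadj.add ((adj_h H).mul (IsAdj.one.sub hpadj)), ?_, ?_, ?_, ?_⟩
    · have hqi : Commute q hi := hqh.pow_right _
      have hkk' : kp * kp' = kp' * kp := LinearMap.ext fun x => by
        have e1 : ∀ a : Module.End F W, p.codRestrict W hpW (W.subtype (a (p.codRestrict W hpW x))) =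
            a (p.codRestrict W hpW x) := fun a => Subtype.ext (hp_kp a x)
        show W.subtype (k (p.codRestrict W hpW (W.subtype (k' (p.codRestrict W hpW x))))) =
          W.subtype (k' (p.codRestrict W hpW (W.subtype (k (p.codRestrict W hpW x)))))
        rw [e1, e1, ← Module.End.mul_apply, hKcomm k hkK k' hk', Module.End.mul_apply]
      have a1 : kp * (q * hi) = 0 := by rw [← mul_assoc, z1, zero_mul]
      have a2 : h * q * kp' = 0 := by rw [mul_assoc, z2, mul_zero]
      have a3 : kp' * (h * q) = 0 := by rw [← hqh.eq, ← mul_assoc, z1, zero_mul]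
      have a4 : q * hi * kp = 0 := by rw [hqi.eq, mul_assoc, z2, mul_zero]
      have a5 : h * q * (q * hi) = q * hi * (h * q) := by
        rw [mul_assoc h q, ← mul_assoc q q, hq2, hqi.eq, ← mul_assoc h hi, his2, one_mul,
          mul_assoc hi q, ← hqh.eq, ← mul_assoc q q, hq2, hqh.eq, ← mul_assoc hi, his1, one_mul]
      rw [add_mul, mul_add, mul_add, a1, a2, add_mul, mul_add, mul_add, a3, a4, a5, hkk']
    · exact (hkp.add_left ((Commute.refl h).mul_left hqh)).eq
    · have hd : kp + h * q = (kp + q) * (p + h * q) := by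
        have e1 : kp * p = kp := LinearMap.ext fun x => by
          have : p.codRestrict W hpW (p x) = p.codRestrict W hpW x := Subtype.ext (hpid _ (hpW x))
          simp [kp, this]
        have e2 : kp * (h * q) = 0 := by rw [← hqh.eq, ← mul_assoc, z1, zero_mul]
        have e3 : q * p = 0 := by rw [hq, sub_mul, one_mul, hp2, sub_self]
        rw [add_mul, mul_add, mul_add, e1, e2, e3, ← mul_assoc q h, hqh.eq, mul_assoc, hq2,
          add_zero, zero_add]
      rw [hd, map_mul, det_extend p hpW hpid k, hdetk]
      intro hsq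
      apply hα
      have hs2 := sq_of_pow (p + h * q) (by rw [pow_split p hp2 hph, H.pow_eq, one_mul]; abel)
      have hne0 : LinearMap.det (p + h * q) ≠ 0 := fun e => by
        have e' : LinearMap.det (p + h * q) ^ r = 1 := by
          rw [← map_pow, pow_split p hp2 hph, H.pow_eq, one_mul, add_sub_cancel, map_one]
        rw [e, zero_pow (by obtain ⟨j, hj⟩ := H.odd; omega)] at e'
        exact zero_ne_one e'
      have := hsq.div hs2
      rwa [mul_div_assoc, div_self hne0, mul_one] at this
    · intro x hx
      have hx' : kp' x + q (hi x) - (kp x + h (q x)) = 0 := hx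
      have hpq : ∀ z, p (q z) = 0 := fun z => by
        rw [hq, LinearMap.sub_apply, Module.End.one_apply, map_sub, hpid _ (hpW z), sub_self]
      have hpx := congrArg p hx'
      rw [map_sub, map_add, map_add, map_zero, hpq, ← Module.End.mul_apply p h, hph.eq,
        Module.End.mul_apply, hpq, map_zero, add_zero, add_zero] at hpx
      change p (W.subtype (k' _)) - p (W.subtype (k _)) = 0 at hpx
      rw [hp_kp, hp_kp, ← map_sub, ← LinearMap.sub_apply] at hpx
      have hpx0 : p.codRestrict W hpW x = 0 := hKinj (k' - k) (sub_mem hk' hkK) (sub_ne_zero.2 hne)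
        (by rw [map_zero]; exact W.injective_subtype (hpx.trans (map_zero _).symm))
      have hqx : q x = x := by
        rw [hq, LinearMap.sub_apply, Module.End.one_apply, show p x = 0 from congrArg Subtype.val hpx0,
          sub_zero]
      have hk1 : kp x = 0 := by simp [kp, hpx0]
      have hk2 : kp' x = 0 := by simp [kp', hpx0]
      rw [hk1, hk2, hqx, zero_add, zero_add, ← Module.End.mul_apply q, (hqh.pow_right _).eq,
        Module.End.mul_apply, hqx] at hx'
      exact hfixD x hx'
  · -- `W` totally isotropic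
    have hiso' : ∀ x ∈ W, ∀ y ∈ W, B x y = 0 := fun x hx y hy => (inf_eq_left.1 hiso hy) x hx
    obtain ⟨W₂, hW₂⟩ := W.exists_isCompl
    let π : Module.End F V := W.projection W₂ hW₂
    let T : ℕ → Module.End F V := fun i => h ^ i * π * hi ^ i
    let p0 : Module.End F V := (r : F)⁻¹ • ∑ i ∈ Finset.range r, T i
    have hπW : ∀ x ∈ W, π x = x := fun x hx => Submodule.projection_apply_of_mem_left _ hx
    have hp0W : ∀ x, p0 x ∈ W := fun x => by
      simp only [p0, LinearMap.smul_apply, LinearMap.sum_apply]
      exact W.smul_mem _ (sum_mem fun i _ => hWpow i _ (Submodule.projection_apply_mem _ _))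
    have hTi : ∀ i, h ^ i * hi ^ i = 1 := fun i => by
      rw [← (Commute.self_pow h (r - 1)).mul_pow, (hi_mul H).2, one_pow]
    have hp0id : ∀ x ∈ W, p0 x = x := fun x hx => by
      have e : ∀ i, T i x = x := fun i => by
        have hm : (hi ^ i) x ∈ W := by rw [hhi, ← pow_mul]; exact hWpow _ x hx
        rw [show T i x = (h ^ i) (π ((hi ^ i) x)) from rfl, hπW _ hm, ← Module.End.mul_apply, hTi,
          Module.End.one_apply]
      simp only [p0, LinearMap.smul_apply, LinearMap.sum_apply]
      rw [Finset.sum_congr rfl (fun i _ => e i), Finset.sum_const, Finset.card_range,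
        ← Nat.cast_smul_eq_nsmul F, inv_smul_smul₀ H.cast_ne]
    have hp0h : Commute p0 h := by
      have hTh : h * (∑ i ∈ Finset.range r, T i) * hi = ∑ i ∈ Finset.range r, T i := by
        have hstep : ∀ i, h * T i * hi = T (i + 1) := fun i => by
          simp only [T, pow_succ' h, pow_succ hi, mul_assoc]
        rw [Finset.mul_sum, Finset.sum_mul, Finset.sum_congr rfl (fun i _ => hstep i)]
        have hT0 : T r = T 0 := by simp [T, H.pow_eq, hhi, ← pow_mul, mul_comm (r - 1) r]; simp [pow_mul, H.pow_eq]
        have := Finset.sum_range_succ T r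
        rw [Finset.sum_range_succ', hT0] at this
        exact add_right_cancel this
      show p0 * h = h * p0
      simp only [p0, smul_mul_assoc, mul_smul_comm]
      congr 1
      conv_lhs => rw [← hTh, mul_assoc, (hi_mul H).1, mul_one]
    obtain ⟨pb0, hpb0⟩ := exists_adj H.nondeg p0
    have comm_adj : ∀ f g, IsAdj B f g → Commute f h → Commute g h := by
      intro f g hfg hc
      have e1 : IsAdj B (f * hi) (h * g) := hfg.mul (adj_hi H)
      have e2 : IsAdj B (hi * f) (g * h) := (adj_hi H).mul hfg
      rw [(hc.pow_right (r - 1)).eq] at e1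
      exact (IsAdj.unique H.nondeg e1 e2).symm
    have hpp : pb0 * p0 = 0 := LinearMap.ext fun x => H.nondeg.2 _ fun y => by
      rw [Module.End.mul_apply, ← hpb0]
      exact hiso' _ (hp0W y) _ (hp0W x)
    have hpb0W : ∀ x ∈ W, pb0 x = 0 := fun x hx => by
      rw [← hp0id x hx, ← Module.End.mul_apply, hpp, LinearMap.zero_apply]
    set N := p0 * pb0
    let p : Module.End F V := p0 - (2 : F)⁻¹ • N
    let pb : Module.End F V := pb0 - (2 : F)⁻¹ • N
    have hNadj : IsAdj B N N := hpb0.mul (hpb0.symm H.symm)
    have hadj : IsAdj B p pb := hpb0.sub (hNadj.smul _)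
    have hpW : ∀ x, p x ∈ W := fun x => W.sub_mem (hp0W x) (W.smul_mem _ (hp0W _))
    have hpid : ∀ x ∈ W, p x = x := fun x hx => by
      simp [p, N, hpb0W x hx, hp0id x hx]
    have hp2 : p * p = p := LinearMap.ext fun x => hpid _ (hpW x)
    have hp00 : p0 * p0 = p0 := LinearMap.ext fun x => hp0id _ (hp0W x)
    have hpb00 : pb0 * pb0 = pb0 := IsAdj.unique H.nondeg (by
      have := hpb0.mul hpb0; rwa [hp00] at this) hpb0
    have hppb : p * pb = 0 := by
      exact alg_projection p0 pb0 ((2 : F)⁻¹)
        (by rw [← two_mul, mul_inv_cancel₀ H.two_ne]) hp00 hpb00 hpp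
    have hpbp : pb * p = 0 := LinearMap.ext fun x => H.nondeg.2 _ fun y => by
      rw [Module.End.mul_apply, ← hadj]
      exact hiso' _ (hpW y) _ (hpW x)
    have hpb2 : pb * pb = pb := IsAdj.unique H.nondeg (by
      have := hadj.mul hadj; rwa [hp2] at this) hadj
    have hph : Commute p h :=
      hp0h.sub_left ((hp0h.mul_left (comm_adj _ _ hpb0 hp0h)).smul_left _)
    have hpbh : Commute pb h := comm_adj p pb hadj hph
    set P := p + pb with hPdef
    have hP2 : P * P = P := by
      rw [hPdef, add_mul, mul_add, mul_add, hp2, hppb, hpbp, hpb2, add_zero, zero_add]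
    have hPh : Commute P h := hph.add_left hpbh
    set s := (1 : Module.End F V) - P with hsdef
    let kp := W.subtype ∘ₗ k ∘ₗ p.codRestrict W hpW
    obtain ⟨kb, hkb⟩ := exists_adj H.nondeg kp
    have hkp : Commute kp h := hext p hpW hph k (hKh k hkK)
    have e_pk : p * kp = kp := LinearMap.ext fun x => hpid _ (Subtype.coe_prop _)
    have e_kp : kp * p = kp := LinearMap.ext fun x => by
      have : p.codRestrict W hpW (p x) = p.codRestrict W hpW x := Subtype.ext (hpid _ (hpW x))
      simp [kp, this]
    have e_kb1 : kb * pb = kb := IsAdj.unique H.nondeg (by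
      have := hadj.mul hkb; rwa [e_pk] at this) hkb
    have e_kb2 : pb * kb = kb := IsAdj.unique H.nondeg (by
      have := hkb.mul hadj; rwa [e_kp] at this) hkb
    have hs2 : s * s = s := by
      rw [hsdef, mul_sub, mul_one, sub_mul, one_mul, hP2, sub_self, sub_zero]
    have hsh : Commute s h := (Commute.one_left h).sub_left hPh
    have e_sp : s * p = 0 := by
      rw [hsdef, hPdef, sub_mul, one_mul, add_mul, hp2, hpbp, add_zero, sub_self]
    have e_spb : s * pb = 0 := by
      rw [hsdef, hPdef, sub_mul, one_mul, add_mul, hppb, hpb2, zero_add, sub_self]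
    have e_ps : p * s = 0 := by
      rw [hsdef, hPdef, mul_sub, mul_one, mul_add, hp2, hppb, add_zero, sub_self]
    have e_pbs : pb * s = 0 := by
      rw [hsdef, hPdef, mul_sub, mul_one, mul_add, hpbp, hpb2, zero_add, sub_self]
    have hsadj : IsAdj B s s := by
      have := IsAdj.one.sub (hadj.add (hadj.symm H.symm))
      rwa [add_comm pb p] at this
    have hsi : Commute s hi := hsh.pow_right _
    have z_kp_pb : kp * pb = 0 := by rw [← e_kp, mul_assoc, hppb, mul_zero]
    have z_pb_kp : pb * kp = 0 := by rw [← e_pk, ← mul_assoc, hpbp, zero_mul]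
    have z_p_kb : p * kb = 0 := by rw [← e_kb2, ← mul_assoc, hppb, zero_mul]
    have z_kb_p : kb * p = 0 := by rw [← e_kb1, mul_assoc, hpbp, mul_zero]
    have z_kp_kb : kp * kb = 0 := by rw [← e_kp, mul_assoc, z_p_kb, mul_zero]
    have z_kb_kp : kb * kp = 0 := by rw [← e_kb1, mul_assoc, z_pb_kp, mul_zero]
    have z_kp_s : kp * s = 0 := by rw [← e_kp, mul_assoc, e_ps, mul_zero]
    have z_s_kp : s * kp = 0 := by rw [← e_pk, ← mul_assoc, e_sp, zero_mul]
    have z_kb_s : kb * s = 0 := by rw [← e_kb1, mul_assoc, e_pbs, mul_zero]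
    have z_s_kb : s * kb = 0 := by rw [← e_kb2, ← mul_assoc, e_spb, zero_mul]
    refine ⟨kp + pb + h * s, kb + p + s * hi, (hkb.add (hadj.symm H.symm)).add ((adj_h H).mul hsadj),
      ?_, ?_, ?_, ?_⟩
    · have b1 : kp * (s * hi) = 0 := by rw [← mul_assoc, z_kp_s, zero_mul]
      have b2 : pb * (s * hi) = 0 := by rw [← mul_assoc, e_pbs, zero_mul]
      have b3 : h * s * kb = 0 := by rw [mul_assoc, z_s_kb, mul_zero]
      have b4 : h * s * p = 0 := by rw [mul_assoc, e_sp, mul_zero]
      have b5 : kb * (h * s) = 0 := by rw [← hsh.eq, ← mul_assoc, z_kb_s, zero_mul]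
      have b6 : p * (h * s) = 0 := by rw [← hsh.eq, ← mul_assoc, e_ps, zero_mul]
      have b7 : s * hi * kp = 0 := by rw [hsi.eq, mul_assoc, z_s_kp, mul_zero]
      have b8 : s * hi * pb = 0 := by rw [hsi.eq, mul_assoc, e_spb, mul_zero]
      have b9 : h * s * (s * hi) = s * hi * (h * s) := by
        rw [mul_assoc h s, ← mul_assoc s s, hs2, hsi.eq, ← mul_assoc h hi, his2, one_mul,
          mul_assoc hi s, ← hsh.eq, ← mul_assoc s s, hs2, hsh.eq, ← mul_assoc hi, his1, one_mul]
      simp only [add_mul, mul_add, z_kp_kb, z_kb_kp, e_kp, e_pk, e_kb1, e_kb2, hppb, hpbp, b1, b2,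
        b3, b4, b5, b6, b7, b8, b9, z_kp_pb, z_pb_kp, z_p_kb, z_kb_p, add_zero, zero_add]
      abel
    · exact ((hkp.add_left hpbh).add_left ((Commute.refl h).mul_left hsh)).eq
    · have hd : kp + pb + h * s = (kp + (1 - p)) * (P + h * s) := by
        have e1 : kp * P = kp := by rw [hPdef, mul_add, e_kp, z_kp_pb, add_zero]
        have e2 : (1 - p) * P = pb := by
          rw [hPdef, sub_mul, one_mul, mul_add, hp2, hppb, add_zero, add_sub_cancel_left]
        have e3 : kp * (h * s) = 0 := by rw [← hsh.eq, ← mul_assoc, z_kp_s, zero_mul]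
        have e4 : (1 - p) * (h * s) = h * s := by
          rw [sub_mul, one_mul, ← hsh.eq, ← mul_assoc, e_ps, zero_mul, sub_zero]
        rw [add_mul, mul_add kp, mul_add (1 - p), e1, e2, e3, e4, add_zero, add_assoc]
      rw [hd, map_mul, det_extend p hpW hpid k, hdetk]
      intro hsq
      apply hα
      have hpr : (P + h * s) ^ r = 1 := by
        rw [pow_split P hP2 hPh, H.pow_eq, one_mul, add_sub_cancel]
      have hne0 : LinearMap.det (P + h * s) ≠ 0 := fun e => by
        have e' : LinearMap.det (P + h * s) ^ r = 1 := by rw [← map_pow, hpr, map_one]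
        rw [e, zero_pow (by obtain ⟨j, hj⟩ := H.odd; omega)] at e'
        exact zero_ne_one e'
      have := hsq.div (sq_of_pow _ hpr)
      rwa [mul_div_assoc, div_self hne0, mul_one] at this
    · intro x hx
      have hx1 : (kb + p + s * hi - (kp + pb + h * s)) x = 0 := hx
      have hk1 : k - 1 ≠ 0 := fun e => hα (by
        rw [← hdetk, sub_eq_zero.1 e, map_one]; exact IsSquare.one)
      -- the component in `W`
      have hpx : p x = 0 := by
        have e : p * (kb + p + s * hi - (kp + pb + h * s)) = p - kp := by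
          have b6 : p * (h * s) = 0 := by rw [← hsh.eq, ← mul_assoc, e_ps, zero_mul]
          have b10 : p * (s * hi) = 0 := by rw [← mul_assoc, e_ps, zero_mul]
          rw [mul_sub, mul_add, mul_add, mul_add, mul_add, z_p_kb, hp2, b10, e_pk, hppb, b6]
          abel
        have e' := LinearMap.congr_fun e x
        rw [Module.End.mul_apply, hx1, map_zero, LinearMap.sub_apply] at e'
        have e'' : (k - 1) (p.codRestrict W hpW x) = 0 := Subtype.ext (by
          show (k (p.codRestrict W hpW x) : V) - p x = 0
          rw [← neg_sub, neg_eq_zero]; exact e'.symm)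
        exact congrArg Subtype.val (hKinj _ (sub_mem hkK (one_mem K)) hk1
          (e''.trans (map_zero _).symm))
      -- the dual component
      have hpbx : pb x = 0 := by
        have e : pb * (kb + p + s * hi - (kp + pb + h * s)) = kb - pb := by
          have c1 : pb * (h * s) = 0 := by rw [← hsh.eq, ← mul_assoc, e_pbs, zero_mul]
          have c2 : pb * (s * hi) = 0 := by rw [← mul_assoc, e_pbs, zero_mul]
          rw [mul_sub, mul_add, mul_add, mul_add, mul_add, e_kb2, hpbp, c2, z_pb_kp, hpb2, c1]
          abel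
        have e' := LinearMap.congr_fun e x
        rw [Module.End.mul_apply, hx1, map_zero] at e'
        have hW0 : ∀ w ∈ W, B w x = 0 := by
          intro w hw
          obtain ⟨u, hu⟩ := LinearMap.injective_iff_surjective.1
            (hKinj _ (sub_mem hkK (one_mem K)) hk1) ⟨w, hw⟩
          have hu' : (kp - p) (u : V) = w := by
            have hc : p.codRestrict W hpW (u : V) = u := Subtype.ext (hpid _ u.2)
            rw [← show ((k - 1) u : V) = w from congrArg Subtype.val hu]
            simp [kp, hc, hpid _ u.2]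
          rw [← hu', (hkb.sub hadj) (u : V) x, ← e', map_zero]
        refine H.nondeg.2 _ fun y => ?_
        rw [← hadj]
        exact hW0 _ (hpW y)
      have hsx : s x = x := by
        rw [hsdef, hPdef, LinearMap.sub_apply, LinearMap.add_apply, hpx, hpbx, add_zero, sub_zero]
        rfl
      have e1 : kp x = 0 := by
        rw [← e_kp, Module.End.mul_apply, hpx, map_zero]
      have e2 : kb x = 0 := by rw [← e_kb1, Module.End.mul_apply, hpbx, map_zero]
      rw [LinearMap.sub_apply, LinearMap.add_apply, LinearMap.add_apply, LinearMap.add_apply,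
        LinearMap.add_apply, Module.End.mul_apply, Module.End.mul_apply, e1, e2, hpx, hpbx, hsx,
        ← Module.End.mul_apply s, hsi.eq, Module.End.mul_apply, hsx] at hx1
      exact hfixD x (by rw [LinearMap.sub_apply]; simpa using hx1)

end CfsgLib.Classical.Quad.Semisimple
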