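import Cfsg.Agent.Lib.Classical.Quad.OmegaIndex
import Cfsg.Agent.Lib.Classical.Quad.Sym
import Cfsg.Agent.Lib.Classical.Quad.Eichler

/-!
The subgroup generated by the reflections in vectors whose value lies in one square class.
-/

set_option autoImplicit false

namespace CfsgLib.Classical.Quad

open QuadraticMap (polar polarBilin)

variable {F : Type*} [Field F] {V : Type*} [AddCommGroup V] [Module F V] [FiniteDimensional F V]
  {Q : QuadraticForm F V}

/-- Reflections with values in the square class of `c`. -/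
def classReflGroup (Q : QuadraticForm F V) (c : F) : Subgroup (OQ Q) :=
  Subgroup.closure {g | ∃ (v : V) (hv : Q v ≠ 0), sqc (Q v) = sqc c ∧ g = refl hv}

theorem refl_mem_class {c : F} {v : V} (hv : Q v ≠ 0) (h : sqc (Q v) = sqc c) :
    refl hv ∈ classReflGroup Q c := Subgroup.subset_closure ⟨v, hv, h, rfl⟩

theorem classReflGroup_normal (c : F) : (classReflGroup Q c).Normal := by
  refine ⟨fun g hg h => ?_⟩
  have hle : classReflGroup Q c ≤ (classReflGroup Q c).comap (MulAut.conj h).toMonoidHom := by
    refine (Subgroup.closure_le _).2 ?_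
    rintro _ ⟨v, hv, hs, rfl⟩
    show h * refl hv * h⁻¹ ∈ classReflGroup Q c
    rw [refl_conj]
    exact refl_mem_class _ (by rw [OQ.map_apply]; exact hs)
  exact hle hg

theorem exists_normalised {v : V} (hv : Q v ≠ 0) {d : F} (hd : d ≠ 0) (h : sqc (Q v) = sqc d) :
    ∃ (v' : V) (hv' : Q v' ≠ 0), Q v' = d ∧ refl hv = refl hv' := by
  have hq : d / Q v ≠ 0 := div_ne_zero hd hv
  have h2 := sqc_mul hq hv
  rw [div_mul_cancel₀ _ hv, ← h] at h2
  obtain ⟨r, hr⟩ := (sqc_eq_one_iff hq).1 (mul_eq_right.1 h2.symm)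
  have hr0 : r ≠ 0 := fun e => hq (by rw [hr, e, mul_zero])
  refine ⟨r • v, by rw [apply_smul]; exact mul_ne_zero (mul_ne_zero hr0 hr0) hv, ?_, (refl_smul hv hr0).symm⟩
  rw [apply_smul, ← hr, div_mul_cancel₀ _ hv]

/-- Two reflections of equal value spanning a nondegenerate plane. -/
theorem plane_mem [Finite F] (h2 : (2 : F) ≠ 0) {c d : F} (hc : c ≠ 0) (hd : d ≠ 0) {v w : V}
    (hv : Q v = d) (hw : Q w = d) (hp : polar Q v w ^ 2 ≠ 4 * d ^ 2) (hv' : Q v ≠ 0) (hw' : Q w ≠ 0) :
    refl hv' * refl hw' ∈ classReflGroup Q c := by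
  set w1 := polar Q v w / (2 * d) with hw1
  have h4 : (4 : F) ≠ 0 := by rw [show (4 : F) = 2 * 2 by norm_num]; exact mul_ne_zero h2 h2
  have he : 1 - w1 ^ 2 ≠ 0 := by
    intro e
    apply hp
    have hp' : polar Q v w = w1 * (2 * d) := (div_mul_cancel₀ _ (mul_ne_zero h2 hd)).symm
    rw [hp']
    linear_combination -(4 * d ^ 2) * e
  obtain ⟨s, t, hst⟩ := exists_sum_two_squares h2 (one_ne_zero (α := F)) he (c / d)
  have hk : s ^ 2 + (1 - w1 ^ 2) * t ^ 2 ≠ 0 := by
    rw [show s ^ 2 + (1 - w1 ^ 2) * t ^ 2 = c / d by linear_combination hst]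
    exact div_ne_zero hc hd
  set v' := w - w1 • v with hv'def
  have hw_eq : w = w1 • v + v' := by rw [hv'def]; abel
  have hpv : polar Q v w = w1 * (2 * d) := (div_mul_cancel₀ _ (mul_ne_zero h2 hd)).symm
  have hperp : polar Q v v' = 0 := by
    rw [hv'def, QuadraticMap.polar_sub_right, polar_smul_right', polar_self', hv, hpv]
    ring
  have hqv' : Q v' = d * (1 - w1 ^ 2) := by
    have h := apply_add (Q := Q) (w1 • v) v'
    rw [← hw_eq, hw, apply_smul, hv, polar_smul_left', hperp] at h
    linear_combination -h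
  have hperp' : polar Q v' v = 0 := by rw [QuadraticMap.polar_comm]; exact hperp
  set a := s • v + t • v' with ha
  set b := (s * w1 - (1 - w1 ^ 2) * t) • v + (t * w1 + s) • v' with hb
  have hqa : Q a = c := by
    rw [ha, apply_add, apply_smul, apply_smul, hv, hqv', polar_smul_left', polar_smul_right', hperp]
    linear_combination d * hst + mul_div_cancel₀ c hd
  have hqb : Q b = c := by
    rw [hb, apply_add, apply_smul, apply_smul, hv, hqv', polar_smul_left', polar_smul_right', hperp]
    linear_combination d * hst + mul_div_cancel₀ c hd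
  have ha' : Q a ≠ 0 := by rw [hqa]; exact hc
  have hb' : Q b ≠ 0 := by rw [hqb]; exact hc
  have key : refl hv' * refl hw' = refl ha' * refl hb' := by
    refine Subtype.ext (LinearEquiv.ext fun z => ?_)
    show (refl hv' : V ≃ₗ[F] V) ((refl hw' : V ≃ₗ[F] V) z) = (refl ha' : V ≃ₗ[F] V) ((refl hb' : V ≃ₗ[F] V) z)
    have hqa' : Q a = d * (s ^ 2 + (1 - w1 ^ 2) * t ^ 2) := by
      rw [hqa]; linear_combination -d * hst - mul_div_cancel₀ c hd
    have hqb' : Q b = d * (s ^ 2 + (1 - w1 ^ 2) * t ^ 2) := hqb.trans (hqa.symm.trans hqa')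
    simp only [refl_apply, hqa', hqb', hv, hw]
    rw [hw_eq, ha, hb]
    simp only [QuadraticMap.polar_sub_left, polar_smul_left', polar_add_left', polar_add_right',
      polar_smul_right', polar_self', hv, hqv', hperp, hperp']
    generalize polar Q z v = P
    generalize polar Q z v' = P'
    match_scalars <;> field_simp <;> ring
  rw [key]
  exact mul_mem (refl_mem_class ha' (by rw [hqa])) (refl_mem_class hb' (by rw [hqb]))

variable [Finite F] (hQ : (polarBilin Q).Nondegenerate)

include hQ in
theorem pair_mem (h2 : (2 : F) ≠ 0)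
    (hex : 5 ≤ Module.finrank F V ∨ 4 ≤ Nat.card F ∨ Module.finrank F V = 2) {c d : F} (hc : c ≠ 0)
    (hd : d ≠ 0) {v w : V} (hv : Q v = d) (hw : Q w = d) (hv' : Q v ≠ 0) (hw' : Q w ≠ 0) :
    refl hv' * refl hw' ∈ classReflGroup Q c := by
  classical
  by_cases hp : polar Q v w ^ 2 ≠ 4 * d ^ 2
  · exact plane_mem h2 hc hd hv hw hp hv' hw'
  push Not at hp
  have h4 : (4 : F) ≠ 0 := by rw [show (4 : F) = 2 * 2 by norm_num]; exact mul_ne_zero h2 h2
  set x := w - (polar Q v w / (2 * d)) • v with hx
  have hpv : polar Q v w = polar Q v w / (2 * d) * (2 * d) := (div_mul_cancel₀ _ (mul_ne_zero h2 hd)).symm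
  have hxperp : polar Q v x = 0 := by
    rw [hx, QuadraticMap.polar_sub_right, polar_smul_right', polar_self', hv, ← hpv, sub_self]
  have hw_eq : w = (polar Q v w / (2 * d)) • v + x := by rw [hx]; abel
  have hqx : Q x = 0 := by
    have h := apply_add (Q := Q) ((polar Q v w / (2 * d)) • v) x
    rw [← hw_eq, hw, apply_smul, hv, polar_smul_left', hxperp] at h
    have hl : (polar Q v w / (2 * d)) * (polar Q v w / (2 * d)) = 1 := by
      field_simp
      linear_combination hp
    rw [hl] at h
    linear_combination -h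
  by_cases hx0 : x = 0
  · have hl0 : polar Q v w / (2 * d) ≠ 0 := fun e => by
      rw [e, zero_smul, hx0, add_zero] at hw_eq
      exact hw' (by rw [hw_eq, QuadraticMap.map_zero])
    have e : refl hw' = refl hv' := by
      rw [← refl_smul hv' hl0]
      congr 1
      exact hw_eq.trans (by rw [hx0, add_zero])
    rw [e, refl_mul_self]
    exact one_mem _
  -- a third vector
  suffices h : ∃ u, Q u = d ∧ polar Q v u = 0 ∧ polar Q x u ^ 2 ≠ 4 * d ^ 2 by
    obtain ⟨u, hu, hvu, hxu⟩ := h
    have hu' : Q u ≠ 0 := by rw [hu]; exact hd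
    have h1 : polar Q v u ^ 2 ≠ 4 * d ^ 2 := by
      rw [hvu]; simp [hd, h4]
    have h3 : polar Q u w ^ 2 ≠ 4 * d ^ 2 := by
      rw [QuadraticMap.polar_comm, hw_eq, polar_add_left', polar_smul_left', hvu, mul_zero, zero_add]
      exact hxu
    have e : refl hv' * refl hw' = (refl hv' * refl hu') * (refl hu' * refl hw') := by
      rw [mul_assoc, ← mul_assoc (refl hu'), refl_mul_self, one_mul]
    rw [e]
    exact mul_mem (plane_mem h2 hc hd hv hu h1 hv' hu') (plane_mem h2 hc hd hu hw h3 hu' hw')
  by_cases h6 : 6 ≤ Module.finrank F V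
  · obtain ⟨u, hu, hperp⟩ := exists_apply_eq_perp hQ (Submodule.span F ({v, x} : Set V)) (c := d) (by
      have h := finrank_span_finset_le_card (R := F) ({v, x} : Finset V)
      have hle := h.trans (Finset.card_le_two (a := v) (b := x))
      rw [show (({v, x} : Finset V) : Set V) = ({v, x} : Set V) by simp] at hle
      simp only [Set.finrank] at hle
      omega) hd
    refine ⟨u, hu, hperp v (Submodule.subset_span (by simp)), ?_⟩
    rw [hperp x (Submodule.subset_span (by simp))]
    simp [hd, h4]
  · obtain ⟨y₀, hy₀⟩ : ∃ y, polar Q x y ≠ 0 := by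
      by_contra hall
      push Not at hall
      exact hx0 (eq_zero_of_polar hQ hall)
    set y₁ := (polar Q x y₀)⁻¹ • (y₀ - (polar Q v y₀ / (2 * d)) • v) with hy₁
    have hxv : polar Q x v = 0 := by rw [QuadraticMap.polar_comm]; exact hxperp
    have h1 : polar Q x y₁ = 1 := by
      rw [hy₁, polar_smul_right', QuadraticMap.polar_sub_right, polar_smul_right', hxv, mul_zero, sub_zero,
        inv_mul_cancel₀ hy₀]
    have h1' : polar Q v y₁ = 0 := by
      rw [hy₁, polar_smul_right', QuadraticMap.polar_sub_right, polar_smul_right', polar_self', hv]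
      field_simp
      ring
    clear_value y₁
    set y := y₁ + (-Q y₁) • x with hy
    have hqy : Q y = 0 := by
      rw [hy, apply_add, apply_smul, hqx, polar_smul_right', QuadraticMap.polar_comm (⇑Q) y₁ x, h1]
      ring
    have hxy : polar Q x y = 1 := by
      rw [hy, polar_add_right', polar_smul_right', polar_self', hqx, h1]; ring
    have hvy : polar Q v y = 0 := by
      rw [hy, polar_add_right', polar_smul_right', hxperp, h1']; ring
    by_cases h5 : 5 ≤ Module.finrank F V
    · -- a third vector orthogonal to the nondegenerate space spanned by `v`, `x`, `y`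
      have hP : ∀ a ∈ Submodule.span F ({v, x, y} : Set V),
          (∀ b ∈ Submodule.span F ({v, x, y} : Set V), polar Q a b = 0) → a = 0 := by
        intro a ha hab
        obtain ⟨g0, g1, g2, rfl⟩ := Submodule.mem_span_triple.1 ha
        have e0 := hab v (Submodule.subset_span (by simp))
        have e1 := hab x (Submodule.subset_span (by simp))
        have e2 := hab y (Submodule.subset_span (by simp))
        simp only [polar_add_left', polar_smul_left', polar_self', hv, hqx, hqy, hxperp, hxv, hvy, hxy,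
          QuadraticMap.polar_comm (⇑Q) y v, QuadraticMap.polar_comm (⇑Q) y x] at e0 e1 e2
        simp [hd, h2] at e0 e1 e2
        simp [e0, e1, e2]
      obtain ⟨u, hu, hperp⟩ := exists_apply_eq_perp_nondeg hQ hP (c := d) (by
        have h := finrank_span_finset_le_card (R := F) ({v, x, y} : Finset V)
        have hle := h.trans (Finset.card_le_three (a := v) (b := x) (c := y))
        rw [show (({v, x, y} : Finset V) : Set V) = ({v, x, y} : Set V) by simp] at hle
        simp only [Set.finrank] at hle
        omega) hd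
      refine ⟨u, hu, hperp v (Submodule.subset_span (by simp)), ?_⟩
      rw [hperp x (Submodule.subset_span (by simp))]
      simp [hd, h4]
    have h4q : 4 ≤ Nat.card F := by
      rcases hex with h | h | h
      · exact absurd h h5
      · exact h
      · exfalso
        -- an isotropic vector orthogonal to the anisotropic one leaves no room
        have hli : LinearIndependent F ![v, x, y] := by
          rw [Fintype.linearIndependent_iff]
          intro g hg
          simp [Fin.sum_univ_three] at hg
          have hz : ∀ u, g 0 * polar Q v u + g 1 * polar Q x u + g 2 * polar Q y u = 0 := fun u => by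
            have := congrArg (fun z => polar Q z u) hg
            simp only [polar_add_left', polar_smul_left', QuadraticMap.polar_zero_left] at this
            exact this
          have e0 := hz v
          have e1 := hz x
          have e2 := hz y
          rw [polar_self', hv, hxv, QuadraticMap.polar_comm (⇑Q) y v, hvy] at e0
          rw [hxperp, polar_self', hqx, QuadraticMap.polar_comm (⇑Q) y x, hxy] at e1
          rw [hvy, hxy, polar_self', hqy] at e2
          simp [hd, h2] at e0 e1 e2
          intro i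
          fin_cases i <;> simp [e0, e1, e2]
        have := hli.fintype_card_le_finrank
        rw [Fintype.card_fin] at this
        omega
    have : Fintype F := Fintype.ofFinite F
    obtain ⟨b, -, hb⟩ := Finset.exists_mem_notMem_of_card_lt_card
      (s := ({0, 2 * d, -(2 * d)} : Finset F)) (t := Finset.univ) (Finset.card_le_three.trans_lt (by
        rw [Finset.card_univ, ← Nat.card_eq_fintype_card]; omega))
    simp at hb
    refine ⟨(d / b) • x + b • y, ?_, ?_, ?_⟩
    · rw [apply_add, apply_smul, apply_smul, hqx, hqy, polar_smul_left', polar_smul_right', hxy]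
      field_simp [hb.1]
      ring
    · rw [polar_add_right', polar_smul_right', polar_smul_right', hxperp, hvy]; ring
    · rw [polar_add_right', polar_smul_right', polar_smul_right', polar_self', hqx, hxy]
      intro e
      rcases mul_eq_zero.1 (show (b - 2 * d) * (b + 2 * d) = 0 by linear_combination e) with h | h
      · exact hb.2.1 (sub_eq_zero.1 h)
      · exact hb.2.2 (by linear_combination h)

theorem index_classReflGroup (h2 : (2 : F) ≠ 0) (hn : 2 ≤ Module.finrank F V)
    (hQ : (polarBilin Q).Nondegenerate) (hR : reflGroup Q = ⊤)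
    (hex : 5 ≤ Module.finrank F V ∨ 4 ≤ Nat.card F ∨ Module.finrank F V = 2) {c : F} (hc : c ≠ 0) :
    (classReflGroup Q c).index = 2 := by
  classical
  have : Fintype F := Fintype.ofFinite F
  obtain ⟨α, hα⟩ := FiniteField.exists_nonsquare (F := F) fun h => h2 (by
    have := ringChar.eq_iff.1 h
    exact CharTwo.two_eq_zero)
  have hα0 : α ≠ 0 := fun h => hα (h ▸ IsSquare.zero)
  set d := α * c with hd
  have hd0 : d ≠ 0 := mul_ne_zero hα0 hc
  have hne : sqc d ≠ sqc c := fun h => hα ((sqc_eq_one_iff hα0).1 (by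
    rw [hd, sqc_mul hα0 hc] at h
    exact mul_eq_right.1 h))
  have hcls : ∀ x : F, x ≠ 0 → sqc x = sqc c ∨ sqc x = sqc d := by
    intro x hx
    rcases exists_square_class h2 (mul_ne_zero hx hc) hα with ⟨r, hr, h | h⟩
    · left
      have e : sqc (x * c) = 1 := (sqc_eq_one_iff (mul_ne_zero hx hc)).2
        ⟨r⁻¹, by field_simp; linear_combination h⟩
      rw [sqc_mul hx hc] at e
      calc sqc x = sqc x * (sqc c * sqc c) := by rw [sqClass_mul_self, mul_one]
        _ = sqc c := by rw [← mul_assoc, e, one_mul]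
    · right
      rw [hd, ← h, mul_assoc (r * r), sqc_mul (mul_ne_zero hr hr) (mul_ne_zero (mul_ne_zero hx hc) hc),
        sqc_mul hr hr, sqClass_mul_self, one_mul, mul_assoc x, sqc_mul hx (mul_ne_zero hc hc),
        sqc_mul hc hc, sqClass_mul_self, mul_one]
  obtain ⟨v₀, hv₀⟩ := exists_apply_eq hQ hn hd0
  have hv₀' : Q v₀ ≠ 0 := by rw [hv₀]; exact hd0
  set S := classReflGroup Q c
  have hN : S.Normal := classReflGroup_normal c
  have hr0 : refl hv₀' ∉ S := by
    intro hmem
    have hle : S ≤ (Subgroup.zpowers ((Multiplicative.ofAdd (1 : ZMod 2), sqc c) :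
        Multiplicative (ZMod 2) × SqClass F)).comap (invHom hQ hR) := by
      refine (Subgroup.closure_le _).2 ?_
      rintro _ ⟨v, hv, hs, rfl⟩
      show invHom hQ hR (refl hv) ∈ Subgroup.zpowers ((Multiplicative.ofAdd (1 : ZMod 2), sqc c) :
        Multiplicative (ZMod 2) × SqClass F)
      rw [invHom_refl, hs]
      exact Subgroup.mem_zpowers _
    have h := hle hmem
    rw [Subgroup.mem_comap, invHom_refl, hv₀, Subgroup.mem_zpowers_iff] at h
    obtain ⟨z, hz⟩ := h
    rcases Int.even_or_odd' z with ⟨k, rfl | rfl⟩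
    · have h1 := congrArg (MonoidHom.fst (Multiplicative (ZMod 2)) (SqClass F)) hz
      rw [map_zpow] at h1
      change (Multiplicative.ofAdd (1 : ZMod 2)) ^ (2 * k) = Multiplicative.ofAdd 1 at h1
      rw [zpow_mul, (by decide : (Multiplicative.ofAdd (1 : ZMod 2)) ^ (2 : ℤ) = 1), one_zpow] at h1
      exact absurd h1 (by decide)
    · have h1 := congrArg (MonoidHom.snd (Multiplicative (ZMod 2)) (SqClass F)) hz
      rw [map_zpow] at h1
      change (sqc c) ^ (2 * k + 1) = sqc d at h1
      rw [zpow_add, zpow_mul, zpow_two, sqClass_mul_self, one_zpow, one_mul, zpow_one] at h1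
      exact hne h1.symm
  have hdich : ∀ g : OQ Q, g ∈ S ∨ g * refl hv₀' ∈ S := by
    intro g
    have hg : g ∈ reflGroup Q := hR ▸ Subgroup.mem_top g
    have hinv : (refl hv₀')⁻¹ = refl hv₀' := inv_eq_of_mul_eq_one_right (refl_mul_self hv₀')
    have hsw : ∀ a, a ∈ S → refl hv₀' * a * refl hv₀' ∈ S := fun a ha => by
      have := hN.conj_mem a ha (refl hv₀'); rwa [hinv] at this
    refine Subgroup.closure_induction (p := fun g _ => g ∈ S ∨ g * refl hv₀' ∈ S) ?_ ?_ ?_ ?_ hg
    · rintro _ ⟨v, hv, rfl⟩
      rcases hcls _ hv with h | h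
      · exact Or.inl (refl_mem_class hv h)
      · obtain ⟨v', hv', hvd, e⟩ := exists_normalised hv hd0 h
        rw [e]
        exact Or.inr (pair_mem hQ h2 hex hc hd0 hvd hv₀ hv' hv₀')
    · exact Or.inl S.one_mem
    · rintro a b - - ha hb
      rcases ha with ha | ha <;> rcases hb with hb | hb
      · exact Or.inl (mul_mem ha hb)
      · exact Or.inr (by rw [mul_assoc]; exact mul_mem ha hb)
      · refine Or.inr ?_
        rw [show a * b * refl hv₀' = (a * refl hv₀') * ((refl hv₀')⁻¹ * b * refl hv₀') by group, hinv]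
        exact mul_mem ha (hsw b hb)
      · refine Or.inl ?_
        rw [show a * b = (a * refl hv₀') * ((refl hv₀')⁻¹ * (b * refl hv₀') * (refl hv₀')⁻¹) by group, hinv]
        exact mul_mem ha (hsw _ hb)
    · rintro a - ha
      rcases ha with ha | ha
      · exact Or.inl (inv_mem ha)
      · refine Or.inr ?_
        have := hsw _ (inv_mem ha)
        rw [_root_.mul_inv_rev, hinv, ← mul_assoc, refl_mul_self, one_mul] at this
        exact this
  refine Subgroup.index_eq_two_iff.2 ⟨refl hv₀', fun g => ?_⟩
  rcases hdich g with h | h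
  · exact Or.inr ⟨h, fun h' => hr0 ((S.mul_mem_cancel_left h).1 h')⟩
  · exact Or.inl ⟨h, fun h' => hr0 ((S.mul_mem_cancel_left h').1 h)⟩

theorem index_class_reflections {F : Type*} [Field F] [Fintype F] (h2 : (2 : F) ≠ 0) {n : ℕ}
    (hn : 2 ≤ n) (heven : Even n) (Q : QuadraticForm F (Fin n → F)) (hQ : (polarBilin Q).Nondegenerate)
    (h43 : ¬ (n = 4 ∧ Fintype.card F = 3)) (c : F) (hc : c ≠ 0) :
    (Subgroup.closure {g : ↥(Cfsg.isometryGroup F ⇑Q) | ∃ (v : Fin n → F) (t : F), t ≠ 0 ∧ Q v = c * t ^ 2 ∧ ((g : Matrix.GeneralLinearGroup (Fin n) F) : Matrix (Fin n) (Fin n) F) = Cfsg.reflectionMatrix ⇑Q v}).index = 2 := by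
  classical
  have hR : reflGroup Q = ⊤ := reflGroup_pi_eq_top hQ (hex_of_two_ne_zero h2)
  have hq : 3 ≤ Fintype.card F := by
    have := Fintype.one_lt_card (α := F)
    have := FiniteField.odd_card_of_char_ne_two (F := F) fun h => h2 (by
      have := ringChar.eq_iff.1 h
      exact CharTwo.two_eq_zero)
    omega
  have hex : 5 ≤ Module.finrank F (Fin n → F) ∨ 4 ≤ Nat.card F ∨ Module.finrank F (Fin n → F) = 2 := by
    rw [Module.finrank_pi, Fintype.card_fin, Nat.card_eq_fintype_card]
    obtain ⟨m, rfl⟩ := heven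
    omega
  have h := index_classReflGroup (V := Fin n → F) h2 (by rwa [Module.finrank_pi, Fintype.card_fin]) hQ hR hex hc
  refine Eq.trans ?_ h
  rw [← Subgroup.index_comap_of_surjective (classReflGroup Q c)
    (f := (oEquiv Q).toMonoidHom) (oEquiv Q).surjective]
  congr 1
  refine le_antisymm ((Subgroup.closure_le _).2 ?_) ?_
  · rintro g ⟨v, t, ht, hv, hg⟩
    have hv0 : Q v ≠ 0 := by rw [hv]; exact mul_ne_zero hc (pow_ne_zero 2 ht)
    show oEquiv Q g ∈ classReflGroup Q c
    rw [(oEquiv_eq_refl_iff Q hv0 g).1 hg]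
    refine refl_mem_class hv0 ?_
    rw [hv, pow_two, sqc_mul hc (mul_ne_zero ht ht), sqc_mul ht ht, sqClass_mul_self, mul_one]
  · rw [Subgroup.comap_equiv_eq_map_symm']
    refine Subgroup.map_le_iff_le_comap.2 ((Subgroup.closure_le _).2 ?_)
    rintro _ ⟨v, hv, hs, rfl⟩
    obtain ⟨v', hv', hvc, e⟩ := exists_normalised hv hc hs
    rw [e]
    exact Subgroup.subset_closure ⟨v', 1, one_ne_zero, by rw [hvc, one_pow, mul_one],
      (oEquiv_eq_refl_iff Q hv' _).2 (MulEquiv.apply_symm_apply _ _)⟩

end CfsgLib.Classical.Quad
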