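import Cfsg.Agent.Lib.Classical.Quad.SpinorNorm

/-!
The commutator subgroup of the isometry group over a finite field as the kernel of parity and
spinor norm; subgroups of index two.
-/

set_option autoImplicit false

namespace CfsgLib.Classical.Quad

open QuadraticMap (polar polarBilin)

variable {F : Type*} [Field F] {V : Type*} [AddCommGroup V] [Module F V] [FiniteDimensional F V]
  {Q : QuadraticForm F V}

theorem refl_conj (g : OQ Q) {v : V} (hv : Q v ≠ 0) :
    g * refl hv * g⁻¹ = refl (v := (g : V ≃ₗ[F] V) v) (by rwa [OQ.map_apply]) := by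
  refine Subtype.ext (LinearEquiv.ext fun z => ?_)
  show (g : V ≃ₗ[F] V) ((refl hv : V ≃ₗ[F] V) ((g : V ≃ₗ[F] V).symm z)) = _
  rw [refl_apply, refl_apply, map_sub, map_smul, LinearEquiv.apply_symm_apply, OQ.map_apply,
    ← OQ.map_polar g, LinearEquiv.apply_symm_apply]

theorem refl_smul {v : V} (hv : Q v ≠ 0) {c : F} (hc : c ≠ 0) :
    refl (v := c • v) (by rw [apply_smul]; exact mul_ne_zero (mul_ne_zero hc hc) hv) = refl hv := by
  refine Subtype.ext (LinearEquiv.ext fun z => ?_)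
  rw [refl_apply, refl_apply, polar_smul_right', apply_smul, smul_smul]
  congr 2
  field_simp

theorem exists_map_vector (hQ : (polarBilin Q).Nondegenerate) {v w : V} (hv : v ≠ 0) (hw : w ≠ 0)
    (h : Q v = Q w) : ∃ g : OQ Q, (g : V ≃ₗ[F] V) v = w := by
  let e := LinearEquiv.toSpanNonzeroSingleton F V v hv
  obtain ⟨g, hg⟩ := witt hQ (Submodule.span F {v})
    ((LinearMap.id.smulRight w).comp (e.symm : _ →ₗ[F] F))
    ((smul_left_injective F hw).comp e.symm.injective) fun x => by
      obtain ⟨c, rfl⟩ := e.surjective x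
      simp only [LinearMap.comp_apply, LinearEquiv.coe_coe, LinearEquiv.symm_apply_apply,
        LinearMap.smulRight_apply, LinearMap.id_apply]
      rw [apply_smul, ← h]
      simp [e, LinearEquiv.toSpanNonzeroSingleton, apply_smul]
  refine ⟨g, ?_⟩
  have h1 := hg (e 1)
  simp only [LinearMap.comp_apply, LinearEquiv.coe_coe, LinearMap.smulRight_apply,
    LinearMap.id_apply] at h1
  rw [e.symm_apply_apply, one_smul] at h1
  simp only [e, LinearEquiv.toSpanNonzeroSingleton_one] at h1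
  exact h1

theorem exists_conj_refl (hQ : (polarBilin Q).Nondegenerate) {v w : V} (hv : Q v ≠ 0)
    (hw : Q w ≠ 0) (h : sqc (Q v) = sqc (Q w)) : ∃ g : OQ Q, refl hw = g * refl hv * g⁻¹ := by
  have h1 : sqc (Q w / Q v) = 1 := by
    have hd : Q w / Q v ≠ 0 := div_ne_zero hw hv
    have h2 := sqc_mul hd hv
    rw [div_mul_cancel₀ _ hv, ← h] at h2
    exact mul_eq_right.1 h2.symm
  obtain ⟨c, hc⟩ := (sqc_eq_one_iff (div_ne_zero hw hv)).1 h1
  have hc0 : c ≠ 0 := by rintro rfl; exact div_ne_zero hw hv (by simpa using hc)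
  have hv0 : c • v ≠ 0 := smul_ne_zero hc0 fun h => hv (by rw [h, QuadraticMap.map_zero])
  have hw0 : w ≠ 0 := fun h => hw (by rw [h, QuadraticMap.map_zero])
  obtain ⟨g, hg⟩ := exists_map_vector hQ hv0 hw0 (by
    rw [apply_smul, ← hc, div_mul_cancel₀ _ hv])
  refine ⟨g, ?_⟩
  rw [← refl_smul hv hc0, refl_conj]
  subst hg
  rfl

variable [Finite F]

/-- A square class generating all square classes. -/
theorem exists_generator_sqClass : ∃ α : F, α ≠ 0 ∧
    ∀ s : SqClass F, s = 1 ∨ s = sqc α := by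
  by_cases h : ∃ a : F, ¬ IsSquare a
  · obtain ⟨α, hα⟩ := h
    have hα0 : α ≠ 0 := by rintro rfl; exact hα IsSquare.zero
    refine ⟨α, hα0, fun s => ?_⟩
    obtain ⟨x, hx, rfl⟩ := exists_sqc_eq s
    have h2 : (2 : F) ≠ 0 := fun h2 => hα (by
      have := charP_two_of_eq_zero h2
      exact isSquare_of_charTwo' α)
    obtain ⟨c, hc, hcx⟩ := exists_square_class h2 hx hα
    rcases hcx with hcx | hcx
    · left
      rw [sqc_eq_one_iff hx]
      exact ⟨c⁻¹, by field_simp; linear_combination hcx⟩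
    · right
      rw [← hcx, sqc_mul (mul_ne_zero hc hc) hx, sqc_mul hc hc, sqClass_mul_self, one_mul]
  · push Not at h
    refine ⟨1, one_ne_zero, fun s => Or.inl ?_⟩
    obtain ⟨x, hx, rfl⟩ := exists_sqc_eq s
    exact (sqc_eq_one_iff hx).2 (h x)

variable (hQ : (polarBilin Q).Nondegenerate) (hR : reflGroup Q = ⊤)

theorem invHom_surjective (hn : 2 ≤ Module.finrank F V) :
    Function.Surjective (invHom hQ hR) := by
  rintro ⟨e, s⟩
  obtain ⟨c, hc, rfl⟩ := exists_sqc_eq s
  obtain ⟨v, hv⟩ := exists_apply_eq hQ hn hc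
  obtain ⟨w, hw⟩ := exists_apply_eq hQ hn (one_ne_zero (α := F))
  have hv' : Q v ≠ 0 := by rw [hv]; exact hc
  have hw' : Q w ≠ 0 := by rw [hw]; exact one_ne_zero
  have key : ∀ e : ZMod 2, e = 1 ∨ e = 0 := by decide
  rcases key (Multiplicative.toAdd e) with h | h
  · refine ⟨refl hv', ?_⟩
    rw [invHom_refl, hv, ← h]
    rfl
  · refine ⟨refl hv' * refl hw', ?_⟩
    rw [map_mul, invHom_refl, invHom_refl, hv, hw, sqc_one]
    refine Prod.ext ?_ (mul_one _)
    show Multiplicative.ofAdd (1 : ZMod 2) * Multiplicative.ofAdd 1 = e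
    rw [← ofAdd_add, show (1 : ZMod 2) + 1 = 0 from by decide, ← h]
    rfl

theorem ker_invHom_eq_commutator (hn : 2 ≤ Module.finrank F V) :
    (invHom hQ hR).ker = commutator (OQ Q) := by
  classical
  refine le_antisymm ?_ (Abelianization.commutator_subset_ker _)
  obtain ⟨α, hα, hcls⟩ := exists_generator_sqClass (F := F)
  obtain ⟨v, hv⟩ := exists_apply_eq hQ hn hα
  obtain ⟨w, hw⟩ := exists_apply_eq hQ hn (one_ne_zero (α := F))
  have hv' : Q v ≠ 0 := by rw [hv]; exact hα
  have hw' : Q w ≠ 0 := by rw [hw]; exact one_ne_zero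
  set a : Abelianization (OQ Q) := Abelianization.of (refl hw') with ha
  set b : Abelianization (OQ Q) :=
    if sqc α = 1 then a else Abelianization.of (refl hv') with hb
  have hab : ∀ (x : V) (hx : Q x ≠ 0), Abelianization.of (refl hx) = a ∧ sqc (Q x) = 1 ∨
      Abelianization.of (refl hx) = b ∧ sqc (Q x) = sqc α := by
    intro x hx
    rcases hcls (sqc (Q x)) with h | h
    · obtain ⟨g, hg⟩ := exists_conj_refl hQ hw' hx (by rw [h, hw, sqc_one])
      exact Or.inl ⟨by rw [hg, map_mul, map_mul, map_inv, mul_right_comm, mul_inv_cancel, one_mul],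
        h⟩
    · by_cases hα1 : sqc α = 1
      · obtain ⟨g, hg⟩ := exists_conj_refl hQ hw' hx (by rw [h, hw, sqc_one, hα1])
        exact Or.inl ⟨by rw [hg, map_mul, map_mul, map_inv, mul_right_comm, mul_inv_cancel, one_mul],
          h.trans hα1⟩
      · obtain ⟨g, hg⟩ := exists_conj_refl hQ hv' hx (by rw [h, hv])
        exact Or.inr ⟨by rw [hb, if_neg hα1, hg, map_mul, map_mul, map_inv, mul_right_comm,
          mul_inv_cancel, one_mul], h⟩
  have haa : a * a = 1 := by rw [ha, ← map_mul, refl_mul_self, map_one]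
  have hbb : b * b = 1 := by
    rw [hb]
    split_ifs with h
    · exact haa
    · rw [← map_mul, refl_mul_self, map_one]
  have key : ∀ g : OQ Q, ∃ i j : ℕ, Abelianization.of g = a ^ i * b ^ j ∧
      invHom hQ hR g = (Multiplicative.ofAdd ((i + j : ℕ) : ZMod 2), sqc α ^ j) := by
    intro g
    have hg : g ∈ reflGroup Q := hR ▸ Subgroup.mem_top g
    refine Subgroup.closure_induction (p := fun g _ => ∃ i j : ℕ, Abelianization.of g = a ^ i * b ^ j ∧
      invHom hQ hR g = (Multiplicative.ofAdd ((i + j : ℕ) : ZMod 2), sqc α ^ j)) ?_ ?_ ?_ ?_ hg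
    · rintro _ ⟨x, hx, rfl⟩
      rcases hab x hx with ⟨h1, h2⟩ | ⟨h1, h2⟩
      · exact ⟨1, 0, by rw [h1, pow_one, pow_zero, mul_one],
          by rw [invHom_refl, h2, pow_zero, Nat.cast_one]⟩
      · exact ⟨0, 1, by rw [h1, pow_one, pow_zero, one_mul],
          by rw [invHom_refl, h2, pow_one, Nat.cast_one]⟩
    · exact ⟨0, 0, by simp, by rw [map_one, pow_zero, Nat.cast_zero, ofAdd_zero, Prod.one_eq_mk]⟩
    · rintro x y _ _ ⟨i, j, h1, h2⟩ ⟨i', j', h1', h2'⟩
      refine ⟨i + i', j + j', by rw [map_mul, h1, h1', pow_add, pow_add, mul_mul_mul_comm], ?_⟩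
      rw [map_mul, h2, h2', Prod.mk_mul_mk, ← ofAdd_add, pow_add]
      push_cast
      ring_nf
    · rintro x _ ⟨i, j, h1, h2⟩
      refine ⟨i, j, ?_, ?_⟩
      · rw [map_inv, h1]
        refine inv_eq_of_mul_eq_one_right ?_
        rw [mul_mul_mul_comm, ← mul_pow, ← mul_pow, haa, hbb, one_pow, one_pow, mul_one]
      · rw [map_inv, h2]
        refine inv_eq_of_mul_eq_one_right ?_
        rw [Prod.mk_mul_mk, ← ofAdd_add, ← mul_pow, sqClass_mul_self, one_pow,
          show ((i + j : ℕ) : ZMod 2) + ((i + j : ℕ) : ZMod 2) = 0 from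
            CharTwo.add_self_eq_zero _, ofAdd_zero, Prod.one_eq_mk]
  intro g hg
  obtain ⟨i, j, h1, h2⟩ := key g
  rw [MonoidHom.mem_ker.1 hg, Prod.one_eq_mk, Prod.mk.injEq, eq_comm, ofAdd_eq_one,
    ZMod.natCast_eq_zero_iff_even] at h2
  rw [← Abelianization.ker_of, MonoidHom.mem_ker, h1]
  obtain ⟨hij, hs⟩ := h2
  have pe : ∀ (x : Abelianization (OQ Q)), x * x = 1 → ∀ n, Even n → x ^ n = 1 := by
    rintro x hx n ⟨k, rfl⟩
    rw [← two_mul, pow_mul, pow_two, hx, one_pow]
  by_cases hα1 : sqc α = 1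
  · rw [hb, if_pos hα1, ← pow_add]
    exact pe a haa _ hij
  · have hj : Even j := by
      rcases Nat.even_or_odd j with h | ⟨k, rfl⟩
      · exact h
      · rw [pow_succ, pow_mul, pow_two, sqClass_mul_self, one_pow, one_mul] at hs
        exact absurd hs.symm hα1
    have hi : Even i := (Nat.even_add.1 hij).2 hj
    rw [pe a haa _ hi, pe b hbb _ hj, mul_one]

include hQ hR in
theorem index_commutator_OQ (hn : 2 ≤ Module.finrank F V) :
    (commutator (OQ Q)).index = 2 * Nat.card (SqClass F) := by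
  rw [← ker_invHom_eq_commutator hQ hR hn, Subgroup.index_ker,
    MonoidHom.range_eq_top.2 (invHom_surjective hQ hR hn), Subgroup.card_top, Nat.card_prod]
  simp

omit [FiniteDimensional F V] in
theorem card_sqClass_of_odd (h2 : (2 : F) ≠ 0) : Nat.card (SqClass F) = 2 := by
  obtain ⟨α, hα⟩ : ∃ α : F, ¬ IsSquare α := FiniteField.exists_nonsquare fun h => h2 (by
    have := ringChar.eq_iff.1 h
    exact CharTwo.two_eq_zero)
  have hα0 : α ≠ 0 := by rintro rfl; exact hα IsSquare.zero
  have hne : sqc α ≠ 1 := fun h => hα ((sqc_eq_one_iff hα0).1 h)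
  obtain ⟨β, hβ, hcls⟩ := exists_generator_sqClass (F := F)
  have hβ' : sqc α = sqc β := (hcls _).resolve_left hne
  rw [← hβ'] at hcls
  rw [← Nat.card_univ, show (Set.univ : Set (SqClass F)) = {1, sqc α} from
    (Set.eq_univ_of_forall fun s => by simpa using hcls s).symm, Nat.card_coe_set_eq,
    Set.ncard_pair hne.symm]

omit [FiniteDimensional F V] in
theorem card_sqClass_of_two_eq_zero (h2 : (2 : F) = 0) : Nat.card (SqClass F) = 1 := by
  have := charP_two_of_eq_zero h2
  refine Nat.card_eq_one_iff_unique.2 ⟨⟨fun s t => ?_⟩, ⟨1⟩⟩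
  obtain ⟨x, hx, rfl⟩ := exists_sqc_eq s
  obtain ⟨y, hy, rfl⟩ := exists_sqc_eq t
  rw [(sqc_eq_one_iff hx).2 (isSquare_of_charTwo' x), (sqc_eq_one_iff hy).2 (isSquare_of_charTwo' y)]

end CfsgLib.Classical.Quad
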