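import Cfsg.Agent.Lib.Classical.Quad.InvolutiveSimilarity
import Cfsg.Agent.Lib.Known.ClassSplit
import Cfsg.Prelude.Def_KGroupFacts

/-!
Into how many inner classes does the inner-diagonal class of an involutory graph automorphism of
an even-dimensional orthogonal group split.
-/

set_option autoImplicit false
set_option linter.unusedSectionVars false

namespace CfsgLib.Classical.Quad

open QuadraticMap (polar polarBilin)
open scoped Matrix

variable {F : Type*} [Field F] [Finite F] {ι : Type} [Fintype ι] [DecidableEq ι]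
  {Q : QuadraticForm F (ι → F)} {k : ℕ} (H : EvenForm Q k)
include H

omit [Finite F] in
theorem mult_mul (x y : simGrp Q) : simMult (x * y) = simMult x * simMult y :=
  map_mul (multHom H) x y

/-- In the quotient by `innS` a similarity commutes with a reflection only if its multiplier is a
square, provided `-1 ∈ Ω`. -/
theorem isSquare_mult_of_refl_comm (hN : NegMem Q) (x : simGrp Q) {v : ι → F} (hv : Q v ≠ 0)
    (h : x * Subgroup.inclusion (isometry_le_sim Q) (rO hv) * x⁻¹ *
      (Subgroup.inclusion (isometry_le_sim Q) (rO hv))⁻¹ ∈ innS Q) :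
    IsSquare ((simMult x : Fˣ) : F) := by
  have hv' : Q (simMat x *ᵥ v) ≠ 0 := by
    rw [simMult_spec]; exact mul_ne_zero (simMult x).ne_zero hv
  have e : x * Subgroup.inclusion (isometry_le_sim Q) (rO hv) * x⁻¹ *
      (Subgroup.inclusion (isometry_le_sim Q) (rO hv))⁻¹ =
      Subgroup.inclusion (isometry_le_sim Q) (rO hv' * (rO hv)⁻¹) := by
    rw [map_mul, map_inv]
    congr 1
    rw [← conjO_rO x hv hv']
    exact Subtype.ext rfl
  rw [e, incl_mem_innS_iff H] at h
  have hs := h.2.resolve_right (not_not.2 hN)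
  rw [map_mul, map_inv, spinO_rO, spinO_rO, simMult_spec, sqc_mul (simMult x).ne_zero hv,
    mul_inv_cancel_right, sqc_eq_one_iff (simMult x).ne_zero] at hs
  exact hs

set_option maxHeartbeats 600000 in
/-- The count for the automorphism of a similarity. -/
theorem split_core (δ : simGrp Q) (hδm : ¬ IsSquare ((simMult δ : Fˣ) : F)) (hδs : sgnHom H δ = 1)
    (g : simGrp Q) (hg2 : conjAut Q (g * g) = 1) (hgs : sgnHom H g ≠ 1) :
    (Cfsg.splitClassCount ((sgnHom H).ker.map (conjAut Q)) (Cfsg.Inn (Cfsg.POmega F (⇑Q)))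
          (conjAut Q g) = 1 ∨
      Cfsg.splitClassCount ((sgnHom H).ker.map (conjAut Q)) (Cfsg.Inn (Cfsg.POmega F (⇑Q)))
          (conjAut Q g) = 2) ∧
    ((NegMem Q ∨ Even k) →
      Cfsg.splitClassCount ((sgnHom H).ker.map (conjAut Q)) (Cfsg.Inn (Cfsg.POmega F (⇑Q)))
          (conjAut Q g) = 2) := by
  set K := (sgnHom H).ker with hKdef
  set Φ := (conjAut Q).comp K.subtype with hΦ
  have hr : Φ.range = K.map (conjAut Q) := by
    rw [hΦ, MonoidHom.range_comp, Subgroup.range_subtype]
  have hle : Cfsg.Inn (Cfsg.POmega F (⇑Q)) ≤ Φ.range := by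
    rw [hr, inn_eq]
    exact Subgroup.map_mono fun x hx => ((mem_soS_iff H x).1 (omS_le_soS H hx)).2
  rw [← hr, CfsgLib.Known.ClassSplit.splitClassCount_eq_index Φ _ hle]
  set N := (Cfsg.Inn (Cfsg.POmega F (⇑Q))).comap Φ with hNdef
  set C := (Subgroup.centralizer {conjAut Q g}).comap Φ
  have hNmem : ∀ h : K, h ∈ N ↔ (h : simGrp Q) ∈ innS Q := fun h => Iff.rfl
  have hNeq : N = (innS Q).subgroupOf K := rfl
  have hCmem : ∀ h : K, h ∈ C ↔
      conjAut Q (h : simGrp Q) * conjAut Q g = conjAut Q g * conjAut Q (h : simGrp Q) := fun h =>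
    Subgroup.mem_centralizer_singleton_iff
  have hsurj := multBit_restrict_surjective H δ hδm hδs
  have hupper : (N ⊔ C).index = 1 ∨ (N ⊔ C).index = 2 := by
    by_cases hN : NegMem Q
    · have h4 : N.index = 4 := by
        rw [hNeq, Subgroup.index_eq_card]; exact card_diag_quotient H δ hδm hδs hN
      haveI : N.FiniteIndex := ⟨by rw [h4]; norm_num⟩
      obtain ⟨e, he1, he2, he3⟩ := exists_comm_so H g hg2 hgs
      set e' := Subgroup.inclusion (isometry_le_sim Q) e with he'
      have heK : e' ∈ K := by rw [hKdef, MonoidHom.mem_ker, he', sgn_incl H, he1]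
      have hlt : N < N ⊔ C := by
        refine lt_of_le_of_ne le_sup_left fun heq => he2 ?_
        have h2 : (⟨e', heK⟩ : K) ∈ N := by
          rw [heq]
          refine Subgroup.mem_sup_right ((hCmem _).2 ?_)
          have h3 : g * e' * g⁻¹ = e' :=
            Subtype.ext ((conjO_apply g e).symm.trans (congrArg Subtype.val he3))
          show conjAut Q e' * conjAut Q g = conjAut Q g * conjAut Q e'
          rw [← map_mul, ← map_mul, mul_inv_eq_iff_eq_mul.1 h3]
        rw [hNeq, Subgroup.mem_subgroupOf, Subgroup.coe_mk] at h2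
        have h4' := (incl_mem_innS_iff H e).1 h2
        exact h4'.2.resolve_right (not_not.2 hN)
      have h1 := Subgroup.index_strictAnti hlt
      have h2 := Subgroup.index_dvd_of_le hlt.le
      rw [h4] at h1 h2
      generalize (N ⊔ C).index = i at h1 h2 ⊢
      interval_cases i <;> omega
    · have h2 : N.index = 2 := by
        rw [hNeq, ← ker_phi0_eq_innS H hN, ← ker_multBit_restrict H, Subgroup.index_ker,
          MonoidHom.range_eq_top.2 hsurj, Subgroup.card_top]
        simp
      exact (Nat.dvd_prime Nat.prime_two).1 (h2 ▸ Subgroup.index_dvd_of_le le_sup_left)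
  refine ⟨hupper, fun hcase => hupper.resolve_left fun h1 => ?_⟩
  rw [Subgroup.index_eq_one] at h1
  rcases hcase with hN | hk
  · let π := QuotientGroup.mk' (innS Q)
    let D : Subgroup K := (Subgroup.centralizer {π g}).comap (π.comp K.subtype)
    have hall : ∀ h : simGrp Q, h ∈ K → π h * π g = π g * π h := by
      intro h hh
      have hD : N ⊔ C ≤ D := by
        refine sup_le (fun x hx => ?_) (fun x hx => ?_)
        · refine Subgroup.mem_centralizer_singleton_iff.2 ?_
          show π (x : simGrp Q) * π g = π g * π (x : simGrp Q)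
          rw [show π (x : simGrp Q) = 1 from (QuotientGroup.eq_one_iff _).2 ((hNmem x).1 hx),
            one_mul, mul_one]
        · refine Subgroup.mem_centralizer_singleton_iff.2 ?_
          show π (x : simGrp Q) * π g = π g * π (x : simGrp Q)
          rw [← map_mul, ← map_mul]
          refine QuotientGroup.eq.2 ?_
          show conjAut Q _ ∈ Cfsg.Inn _
          rw [map_mul, map_inv, map_mul, map_mul, (hCmem x).1 hx, inv_mul_cancel]
          exact Subgroup.one_mem _
      exact Subgroup.mem_centralizer_singleton_iff.1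
        (hD (h1 ▸ Subgroup.mem_top (⟨h, hh⟩ : K)) : (⟨h, hh⟩ : K) ∈ D)
    have hto : ∀ a b : simGrp Q, π a * π b = π b * π a → a * b * a⁻¹ * b⁻¹ ∈ innS Q := by
      intro a b hab
      refine (QuotientGroup.eq_one_iff _).1 ?_
      show π (a * b * a⁻¹ * b⁻¹) = 1
      rw [map_mul, map_mul, map_mul, map_inv, map_inv, hab, mul_inv_cancel_right, mul_inv_cancel]
    obtain ⟨v, hv⟩ := H.exists_ne
    set r := Subgroup.inclusion (isometry_le_sim Q) (rO hv) with hr'
    have hrs : sgnHom H r = -1 := by rw [hr', sgn_incl H, det_rO]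
    have hgr : g * r ∈ K := by
      rw [hKdef, MonoidHom.mem_ker, map_mul, (sgnHom_cases H g).resolve_left hgs, hrs,
        neg_one_mul, neg_neg]
    have hgsq : IsSquare ((simMult g : Fˣ) : F) := by
      refine isSquare_mult_of_refl_comm H hN g hv (hto g r ?_)
      have h := hall _ hgr
      rw [map_mul, mul_assoc] at h
      exact (mul_left_cancel h).symm
    set y := g * r with hy
    have hyP : y ∈ (phi0 H).ker := by
      refine (phi0_eq_one_iff H y).2 ⟨?_, MonoidHom.mem_ker.1 hgr⟩
      rw [hy, mult_mul H, hr', mult_incl H, mul_one]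
      exact hgsq
    haveI : (phi0 H).ker.Normal := MonoidHom.normal_ker _
    haveI : (innS Q).Normal := inferInstanceAs ((Cfsg.Inn _).comap (conjAut Q)).Normal
    have hyP' : δ * y * δ⁻¹ ∈ (phi0 H).ker := Subgroup.Normal.conj_mem inferInstance y hyP δ
    have hconj : δ * y * δ⁻¹ * y⁻¹ ∈ innS Q := by
      have h2 : ((innS Q).subgroupOf (phi0 H).ker).index = 2 := relIndex_innS_ker_phi0 H hN
      refine (Subgroup.mul_mem_iff_of_index_two h2 (a := (⟨_, hyP'⟩ : (phi0 H).ker))
        (b := (⟨_, hyP⟩ : (phi0 H).ker)⁻¹)).2 ?_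
      show δ * y * δ⁻¹ ∈ innS Q ↔ y⁻¹ ∈ innS Q
      rw [inv_mem_iff]
      refine ⟨fun h => ?_, fun h => Subgroup.Normal.conj_mem inferInstance y h δ⟩
      have := Subgroup.Normal.conj_mem (inferInstanceAs (innS Q).Normal) _ h δ⁻¹
      simpa [mul_assoc] using this
    have hδy : π δ * π y = π y * π δ := by
      have h := (QuotientGroup.eq_one_iff _).2 hconj
      change π (δ * y * δ⁻¹ * y⁻¹) = 1 at h
      rw [map_mul, map_mul, map_mul, map_inv, map_inv, mul_inv_eq_one, mul_inv_eq_iff_eq_mul] at h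
      exact h
    refine hδm (isSquare_mult_of_refl_comm H hN δ hv (hto δ r ?_))
    have hδg := hall δ hδs
    rw [hy, map_mul, ← mul_assoc, hδg, mul_assoc, mul_assoc] at hδy
    exact mul_left_cancel hδy
  · refine hδm ?_
    have hle' : N ⊔ C ≤ ((multBit H).comp K.subtype).ker := by
      refine sup_le (fun x hx => ?_) fun x hx => ?_
      · exact (multBit_eq_one_iff H _).2
          ((phi0_eq_one_iff H _).1 (innS_le_ker_phi0 H ((hNmem x).1 hx))).1
      · exact (multBit_eq_one_iff H _).2
          (isSquare_mult_of_comm H g hg2 hgs hk (x : simGrp Q) ((hCmem x).1 hx))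
    have hδK : δ ∈ K := MonoidHom.mem_ker.2 hδs
    have hm : (⟨δ, hδK⟩ : K) ∈ N ⊔ C := by rw [h1]; exact Subgroup.mem_top _
    have h5 := MonoidHom.mem_ker.1 (hle' hm)
    rw [MonoidHom.comp_apply, Subgroup.coe_subtype] at h5
    exact (multBit_eq_one_iff H δ).1 h5

/-- The count, for an automorphism given through some spelling of the form. -/
theorem split_transfer {f : (ι → F) → F} (hf : f = ⇑Q) (γ : MulAut (Cfsg.POmega F f))
    (hγ2 : orderOf γ = 2) (R : Subgroup (MulAut (Cfsg.POmega F f)))
    (hR : HEq R ((sgnHom H).ker.map (conjAut Q)))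
    (δ : simGrp Q) (hδm : ¬ IsSquare ((simMult δ : Fˣ) : F)) (hδs : sgnHom H δ = 1)
    (g : GL ι F) (hg : g ∈ Cfsg.Geo.quadSimilarityGroup (F := F) f)
    (hind : Cfsg.IsInducedBySemilinearPOmega f g (RingEquiv.refl F) γ)
    (hout : γ ∉ R ∨ ∀ g' : simGrp Q, (g' : GL ι F) = g → sgnHom H g' ≠ 1) :
    (Cfsg.splitClassCount R (Cfsg.Inn (Cfsg.POmega F f)) γ = 1 ∨
      Cfsg.splitClassCount R (Cfsg.Inn (Cfsg.POmega F f)) γ = 2) ∧
    ((NegMem Q ∨ Even k) → Cfsg.splitClassCount R (Cfsg.Inn (Cfsg.POmega F f)) γ = 2) := by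
  subst hf
  obtain rfl := eq_of_heq hR
  set g' : simGrp Q := ⟨g, hg⟩
  obtain rfl := (induced_iff g' γ).1 hind
  have hgs : sgnHom H g' ≠ 1 := fun h => by
    rcases hout with h1 | h1
    · exact h1 (Subgroup.mem_map_of_mem _ (MonoidHom.mem_ker.2 h))
    · exact h1 g' rfl h
  refine split_core H δ hδm hδs g' ?_ hgs
  rw [map_mul, ← sq, ← hγ2]
  exact pow_orderOf_eq_one _

end CfsgLib.Classical.Quad
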