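import Cfsg.Agent.Lib.Classical.Quad.SimilarityForms
import Cfsg.Agent.Lib.Known.AutPSL.GraphFieldCent

/-!
An involutory automorphism of `PΩ⁻` induced by a semisimilarity is induced by a similarity: the
discriminant of the minus type form is not a square.
-/

set_option autoImplicit false
set_option linter.unusedSectionVars false

namespace CfsgLib.Classical.Quad

open QuadraticMap (polar polarBilin)
open scoped Matrix

/-- An endomorphism of a finite perfect group, trivial on the central quotient, is trivial. -/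
theorem hom_eq_id_of_centerQuot {X : Type*} [Group X] (hperf : commutator X = ⊤) (f : X →* X)
    (hf : ∀ x, x⁻¹ * f x ∈ Subgroup.center X) (x : X) : f x = x := by
  let χ : X →* Subgroup.center X :=
    { toFun := fun x => ⟨x⁻¹ * f x, hf x⟩
      map_one' := Subtype.ext (by simp)
      map_mul' := fun x y => Subtype.ext (by
        show (x * y)⁻¹ * f (x * y) = x⁻¹ * f x * (y⁻¹ * f y)
        rw [map_mul, mul_inv_rev, mul_assoc, ← mul_assoc x⁻¹,
          ← mul_assoc y⁻¹ (x⁻¹ * f x) (f y), Subgroup.mem_center_iff.1 (hf x) y⁻¹]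
        group) }
  have hle : commutator X ≤ χ.ker := by
    rw [commutator_def, Subgroup.commutator_le]
    intro a _ b _
    rw [MonoidHom.mem_ker, map_commutatorElement, commutatorElement_eq_one_iff_mul_comm]
    exact Subtype.ext (Subgroup.mem_center_iff.1 (χ b).2 (χ a))
  have hx : χ x = 1 := hle (by rw [hperf]; exact Subgroup.mem_top x)
  exact (inv_mul_eq_one.1 (congrArg Subtype.val hx)).symm

variable {F : Type*} [Field F] {ι : Type} [Fintype ι] [DecidableEq ι]

/-- A ring automorphism acting on matrices. -/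
abbrev semiMap (σ : F ≃+* F) : GL ι F →* GL ι F := Units.map σ.toRingHom.mapMatrix.toMonoidHom

theorem coe_semiMap (σ : F ≃+* F) (g : GL ι F) :
    ((semiMap σ g : GL ι F) : Matrix ι ι F) = (g : Matrix ι ι F).map σ := rfl

theorem semiMap_mulVec (σ : F ≃+* F) (g : GL ι F) (v : ι → F) :
    ((semiMap σ g : GL ι F) : Matrix ι ι F) *ᵥ (fun i => σ (v i)) =
      fun i => σ (((g : Matrix ι ι F) *ᵥ v) i) := by
  funext i
  exact (RingHom.map_mulVec σ.toRingHom (g : Matrix ι ι F) v i).symm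

variable {Q : QuadraticForm F (ι → F)}

/-- `β` is induced by a semisimilarity of `Q`. -/
def IsSemiInduced (Q : QuadraticForm F (ι → F)) (β : MulAut (Cfsg.POmega F (⇑Q))) : Prop :=
  ∃ (g : GL ι F) (σ : F ≃+* F), Cfsg.IsSemisimilarityPair (⇑Q) g σ ∧
    Cfsg.IsInducedBySemilinearPOmega (⇑Q) g σ β

theorem semiConj_mem {g : GL ι F} {σ : F ≃+* F} (hp : Cfsg.IsSemisimilarityPair (⇑Q) g σ)
    {h : GL ι F} (hh : h ∈ Cfsg.isometryGroup F (⇑Q)) :
    g * semiMap σ h * g⁻¹ ∈ Cfsg.isometryGroup F (⇑Q) := by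
  obtain ⟨c, hc⟩ := hp
  intro v v'
  show Q (((g * semiMap σ h * g⁻¹ : GL ι F) : Matrix ι ι F) *ᵥ v) = Q v
  set w : ι → F := fun i => σ.symm ((((g⁻¹ : GL ι F) : Matrix ι ι F) *ᵥ v) i)
  have hw : (fun i => σ (w i)) = ((g⁻¹ : GL ι F) : Matrix ι ι F) *ᵥ v := by
    funext i; simp [w]
  rw [Units.val_mul, Units.val_mul, ← Matrix.mulVec_mulVec, ← Matrix.mulVec_mulVec, ← hw,
    semiMap_mulVec, hc, show Q ((h : Matrix ι ι F) *ᵥ w) = Q w from hh w w, ← hc, hw,
    Matrix.mulVec_mulVec, ← Units.val_mul, mul_inv_cancel, Units.val_one, Matrix.one_mulVec]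

/-- Conjugation of isometries by a semisimilarity. -/
def semiConj {g : GL ι F} {σ : F ≃+* F} (hp : Cfsg.IsSemisimilarityPair (⇑Q) g σ) :
    ↥(Cfsg.isometryGroup F (⇑Q)) →* ↥(Cfsg.isometryGroup F (⇑Q)) where
  toFun h := ⟨_, semiConj_mem hp h.2⟩
  map_one' := Subtype.ext (by simp)
  map_mul' a b := Subtype.ext (by simp [mul_assoc])

theorem semiConj_omega {g : GL ι F} {σ : F ≃+* F} (hp : Cfsg.IsSemisimilarityPair (⇑Q) g σ)
    (s : ↥(Cfsg.Omega F (⇑Q))) :
    semiConj hp (s : ↥(Cfsg.isometryGroup F (⇑Q))) ∈ Cfsg.Omega F (⇑Q) := by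
  have hle : (commutator ↥(Cfsg.isometryGroup F (⇑Q))).map (semiConj hp) ≤ commutator _ := by
    rw [commutator_def, Subgroup.map_commutator]
    exact Subgroup.commutator_mono le_top le_top
  exact hle (Subgroup.mem_map_of_mem _ s.2)

theorem coe_semiConj {g : GL ι F} {σ : F ≃+* F} (hp : Cfsg.IsSemisimilarityPair (⇑Q) g σ)
    (s : ↥(Cfsg.isometryGroup F (⇑Q))) :
    (((semiConj hp s : GL ι F)) : Matrix ι ι F) =
      (g : Matrix ι ι F) * ((s : GL ι F) : Matrix ι ι F).map σ * ((g⁻¹ : GL ι F) : Matrix ι ι F) :=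
  rfl

theorem semisim_mul {g h : GL ι F} {σ τ : F ≃+* F} (hg : Cfsg.IsSemisimilarityPair (⇑Q) g σ)
    (hh : Cfsg.IsSemisimilarityPair (⇑Q) h τ) :
    Cfsg.IsSemisimilarityPair (⇑Q) (g * semiMap σ h) (τ.trans σ) := by
  obtain ⟨c, hc⟩ := hg
  obtain ⟨d, hd⟩ := hh
  refine ⟨c * Units.map σ.toRingHom.toMonoidHom d, fun v => ?_⟩
  show Q (((g * semiMap σ h : GL ι F) : Matrix ι ι F) *ᵥ fun i => σ (τ (v i))) = _
  rw [Units.val_mul, ← Matrix.mulVec_mulVec, semiMap_mulVec, hc, hd, map_mul]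
  simp [mul_assoc]

theorem IsSemiInduced.one : IsSemiInduced Q 1 := by
  refine ⟨1, RingEquiv.refl F, ⟨1, fun v => by simp⟩, fun s s' hs => ?_⟩
  rw [MulAut.one_apply]
  refine congrArg _ (Subtype.ext (Subtype.ext (Units.ext ?_)))
  rw [hs]
  simp

theorem IsSemiInduced.mul {β₁ β₂ : MulAut (Cfsg.POmega F (⇑Q))} (h₁ : IsSemiInduced Q β₁)
    (h₂ : IsSemiInduced Q β₂) : IsSemiInduced Q (β₁ * β₂) := by
  obtain ⟨g, σ, hg, hi⟩ := h₁
  obtain ⟨h, τ, hh, hj⟩ := h₂
  refine ⟨g * semiMap σ h, τ.trans σ, semisim_mul hg hh, fun s s' hs => ?_⟩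
  rw [MulAut.mul_apply, hj s ⟨_, semiConj_omega hh s⟩ (coe_semiConj hh _)]
  refine hi _ _ ?_
  rw [hs]
  show _ = (g : Matrix ι ι F) * ((h : Matrix ι ι F) * (((s : ↥(Cfsg.isometryGroup F (⇑Q))) : GL ι F) :
    Matrix ι ι F).map τ * ((h⁻¹ : GL ι F) : Matrix ι ι F)).map σ * ((g⁻¹ : GL ι F) : Matrix ι ι F)
  rw [Matrix.map_mul, Matrix.map_mul, mul_inv_rev, ← map_inv, Units.val_mul, Units.val_mul,
    coe_semiMap, coe_semiMap, Matrix.map_map]
  simp only [mul_assoc]
  rfl

theorem IsSemiInduced.inv {β : MulAut (Cfsg.POmega F (⇑Q))} (h : IsSemiInduced Q β) :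
    IsSemiInduced Q β⁻¹ := by
  obtain ⟨g, σ, ⟨c, hc⟩, hi⟩ := h
  refine ⟨semiMap σ.symm g⁻¹, σ.symm, ⟨Units.map σ.symm.toRingHom.toMonoidHom c⁻¹, fun v => ?_⟩,
    fun s s' hs => ?_⟩
  · set w : ι → F := fun i => σ.symm ((((g⁻¹ : GL ι F) : Matrix ι ι F) *ᵥ v) i) with hw
    rw [semiMap_mulVec, ← hw]
    have h1 : (fun i => σ (w i)) = ((g⁻¹ : GL ι F) : Matrix ι ι F) *ᵥ v := by
      funext i; simp [w]
    have h2 := hc w
    rw [h1, Matrix.mulVec_mulVec, ← Units.val_mul, mul_inv_cancel, Units.val_one,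
      Matrix.one_mulVec] at h2
    apply σ.injective
    simp [h2]
  · refine (MulEquiv.symm_apply_eq β).2 (hi s' s ?_).symm
    rw [hs, Matrix.map_mul, Matrix.map_mul, ← map_inv, inv_inv, coe_semiMap, coe_semiMap,
      Matrix.map_map, Matrix.map_map, Matrix.map_map,
      show (⇑σ ∘ ⇑σ.symm) = id from funext fun x => σ.apply_symm_apply x, Matrix.map_id,
      Matrix.map_id, Matrix.map_id, ← mul_assoc, ← mul_assoc, ← Units.val_mul, mul_inv_cancel,
      Units.val_one, one_mul, mul_assoc, ← Units.val_mul, mul_inv_cancel, Units.val_one, mul_one]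

theorem isSemiInduced_of_mem {β : MulAut (Cfsg.POmega F (⇑Q))}
    (h : β ∈ Cfsg.gammaPOmega F (⇑Q)) : IsSemiInduced Q β := by
  refine Subgroup.closure_induction (fun x hx => hx) IsSemiInduced.one
    (fun x y _ _ hx hy => hx.mul hy) (fun x _ hx => hx.inv) h

/-! ### Traces -/

variable [Finite F] {k : ℕ} (H : EvenForm Q k)
include H

theorem exists_omega_trace (c : F) : ∃ s : ↥(Cfsg.Omega F (⇑Q)),
    (((s : ↥(Cfsg.isometryGroup F (⇑Q))) : GL ι F) : Matrix ι ι F).trace =
      (Fintype.card ι : F) - 4 + c ^ 2 := by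
  obtain ⟨v, hv⟩ := H.exists_value (one_ne_zero (α := F))
  obtain ⟨u, hu, huv⟩ : ∃ u, Q u = 1 - c / 2 * (c / 2) ∧ polar Q v u = 0 := by
    by_cases h : 1 - c / 2 * (c / 2) = 0
    · exact ⟨0, by rw [QuadraticMap.map_zero, h], QuadraticMap.polar_zero_right _ _⟩
    · obtain ⟨u, hu, hP⟩ := exists_apply_eq_perp H.nondeg (Submodule.span F {v})
        (by
          rw [Module.finrank_pi]
          have h1 : Module.finrank F (Submodule.span F {v}) ≤ 1 :=
            (finrank_span_le_card {v}).trans (by simp)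
          have := H.seven_le
          omega) h
      exact ⟨u, hu, hP v (Submodule.mem_span_singleton_self v)⟩
  set w := (c / 2) • v + u with hwdef
  have hw : Q w = 1 := by
    rw [hwdef, apply_add, apply_smul, polar_smul_left', hv, hu, huv]; ring
  have hvw : polar Q v w = c := by
    rw [hwdef, polar_add_right', polar_smul_right', polar_self', hv, huv]
    field_simp [H.two_ne]
    ring
  have hv0 : Q v ≠ 0 := hv.trans_ne one_ne_zero
  have hw0 : Q w ≠ 0 := hw.trans_ne one_ne_zero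
  refine ⟨⟨rO hv0 * rO hw0, (mem_Omega_iff H _).2 ⟨?_, ?_⟩⟩, ?_⟩
  · rw [Subgroup.coe_mul, map_mul, det_rO, det_rO, neg_one_mul, neg_neg]
  · rw [map_mul, spinO_rO, spinO_rO, hv, hw, sqc_one, one_mul]
  set a := (polarBilin Q).flip v
  set b := (polarBilin Q).flip w
  have hlin : Matrix.toLin' (((rO hv0 * rO hw0 : ↥(Cfsg.isometryGroup F (⇑Q))) : GL ι F) :
      Matrix ι ι F) = LinearMap.id - a.smulRight v - b.smulRight w + (a w) • b.smulRight v := by
    refine LinearMap.ext fun z => ?_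
    rw [Matrix.toLin'_apply, Subgroup.coe_mul, Units.val_mul, ← Matrix.mulVec_mulVec, rO_mulVec,
      rO_mulVec]
    simp only [reflMap_apply, hv, hw, inv_one, one_mul, a, b, sub_eq_add_neg, polar_add_left',
      ← neg_smul, polar_smul_left', LinearMap.add_apply, LinearMap.neg_apply,
      LinearMap.id_coe, id_eq, LinearMap.smul_apply, LinearMap.smulRight_apply,
      LinearMap.flip_apply, QuadraticMap.polarBilin_apply_apply]
    module
  show Matrix.trace (((rO hv0 * rO hw0 : ↥(Cfsg.isometryGroup F (⇑Q))) : GL ι F) : Matrix ι ι F) = _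
  rw [← Matrix.trace_toLin'_eq, hlin, map_add, map_sub, map_sub, map_smul,
    LinearMap.trace_smulRight, LinearMap.trace_smulRight, LinearMap.trace_smulRight,
    LinearMap.trace_id, Module.finrank_pi]
  simp only [a, b, LinearMap.flip_apply, QuadraticMap.polarBilin_apply_apply, polar_self', hv, hw,
    QuadraticMap.polar_comm (⇑Q) w v, hvw, smul_eq_mul]
  ring

/-- A semisimilarity inducing an involution is a similarity when the discriminant is a non-square
whenever `-1` is a square. -/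
theorem exists_sim_of_involution [Fintype F] (hodd : Odd (Fintype.card F))
    (hD : IsSquare (-1 : F) →
      ¬ IsSquare (LinearMap.BilinForm.toMatrix (Pi.basisFun F ι) (polarBilin Q)).det)
    {γ : MulAut (Cfsg.POmega F (⇑Q))} (hγ : γ ∈ Cfsg.gammaPOmega F (⇑Q)) (hγ2 : orderOf γ = 2) :
    ∃ g ∈ Cfsg.Geo.quadSimilarityGroup (F := F) (⇑Q),
      Cfsg.IsInducedBySemilinearPOmega (⇑Q) g (RingEquiv.refl F) γ := by
  classical
  obtain ⟨g, σ, hp, hi⟩ := isSemiInduced_of_mem hγ
  by_cases hσ : σ = RingEquiv.refl F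
  · subst hσ
    obtain ⟨c, hc⟩ := hp
    exact ⟨g, ⟨c, fun v => by simpa using hc v⟩, hi⟩
  exfalso
  set G := g * semiMap σ g with hGdef
  have hp2 := semisim_mul hp hp
  rw [← hGdef] at hp2
  have hfix : ∀ s : ↥(Cfsg.Omega F (⇑Q)),
      semiConj hp2 (s : ↥(Cfsg.isometryGroup F (⇑Q))) = (s : ↥(Cfsg.isometryGroup F (⇑Q))) := by
    let f : ↥(Cfsg.Omega F (⇑Q)) →* ↥(Cfsg.Omega F (⇑Q)) :=
      ((semiConj hp2).comp (Cfsg.Omega F (⇑Q)).subtype).codRestrict _ (semiConj_omega hp2)
    intro s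
    refine congrArg Subtype.val (hom_eq_id_of_centerQuot (commutator_Omega_top H.nondeg H.seven_le)
      f (fun x => ?_) s)
    have h1 : γ * γ = 1 := by rw [← sq, ← hγ2, pow_orderOf_eq_one]
    have h2 := hi x ⟨_, semiConj_omega hp x⟩ (coe_semiConj hp _)
    have h3 := hi ⟨_, semiConj_omega hp x⟩ (f x) (by
      show _ = (g : Matrix ι ι F) * ((g : Matrix ι ι F) *
        (((x : ↥(Cfsg.isometryGroup F (⇑Q))) : GL ι F) : Matrix ι ι F).map σ *
          ((g⁻¹ : GL ι F) : Matrix ι ι F)).map σ * ((g⁻¹ : GL ι F) : Matrix ι ι F)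
      show (((semiConj hp2 (x : ↥(Cfsg.isometryGroup F (⇑Q)))) : GL ι F) : Matrix ι ι F) = _
      rw [coe_semiConj, hGdef, Matrix.map_mul, Matrix.map_mul, mul_inv_rev, ← map_inv,
        Units.val_mul, Units.val_mul, coe_semiMap, coe_semiMap, Matrix.map_map]
      simp only [mul_assoc]
      rfl)
    rw [← h2, ← MulAut.mul_apply, h1, MulAut.one_apply] at h3
    exact QuotientGroup.eq.1 h3
  have hσ2 : ∀ x, σ (σ x) = x := by
    have key : ∀ c : F, σ (σ c) ^ 2 = c ^ 2 := fun c => by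
      obtain ⟨s, hs⟩ := exists_omega_trace H c
      have h := congrArg (fun y : ↥(Cfsg.isometryGroup F (⇑Q)) => ((y : GL ι F) : Matrix ι ι F).trace)
        (hfix s)
      have e : ∀ A : Matrix ι ι F, (A.map (σ.trans σ)).trace = σ (σ A.trace) := fun A => by
        simp [Matrix.trace, map_sum]
      simp only [coe_semiConj] at h
      rw [Matrix.trace_mul_comm, ← mul_assoc, ← Units.val_mul, inv_mul_cancel, Units.val_one,
        one_mul, e] at h
      rw [hs] at h
      simp only [map_add, map_sub, map_pow, map_natCast, map_ofNat] at h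
      linear_combination h
    intro c
    have h1 := key c
    have h2 := key (c + 1)
    rw [map_add, map_add, map_one, map_one] at h2
    exact mul_left_cancel₀ H.two_ne (by linear_combination h2 - h1)
  haveI : Finite (F ≃+* F) := Finite.of_injective (fun τ => (τ : F → F)) DFunLike.coe_injective
  have hord : orderOf σ = 2 := orderOf_eq_prime (RingEquiv.ext hσ2) hσ
  obtain ⟨p, f, hpp, hcard⟩ : ∃ p f : ℕ, p.Prime ∧ Fintype.card F = p ^ f := by
    obtain ⟨n, hp, hn⟩ := FiniteField.card F (ringChar F)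
    exact ⟨_, n, hp, hn⟩
  haveI : Fact p.Prime := ⟨hpp⟩
  have hf : 1 ≤ f := by
    rcases Nat.eq_zero_or_pos f with rfl | h
    · exact absurd (Fintype.one_lt_card (α := F)) (by rw [hcard, pow_zero]; omega)
    · exact h
  obtain ⟨⟨l, hl⟩, hpow⟩ := CfsgLib.Known.AutPSL.involution_eq_pow hcard hf σ hord
  set q0 := p ^ (f / 2) with hq0
  have hq : Fintype.card F = q0 * q0 := by
    rw [hcard, hq0, ← pow_add]; congr 1; omega
  have hq0odd : Odd q0 := by rw [hq, Nat.odd_mul] at hodd; exact hodd.1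
  have hcharF : ringChar F ≠ 2 := fun h => H.two_ne (by
    have := ringChar.eq_iff.1 h
    exact CharTwo.two_eq_zero)
  have hneg : IsSquare (-1 : F) := by
    rw [FiniteField.isSquare_neg_one_iff, hq, Nat.mul_mod]
    obtain ⟨j, hj⟩ := hq0odd
    have : q0 % 4 = 1 ∨ q0 % 4 = 3 := by omega
    rcases this with e | e <;> rw [e] <;> decide
  refine hD hneg ?_
  set b := Pi.basisFun F ι
  set M := LinearMap.BilinForm.toMatrix b (polarBilin Q) with hM
  set D := M.det with hDdef
  have hD0 : D ≠ 0 := (LinearMap.BilinForm.nondegenerate_iff_det_ne_zero b).1 H.nondeg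
  obtain ⟨μ, hμ⟩ := hp
  set A := (g : Matrix ι ι F)
  have hgram : Aᵀ * M * A = (μ : F) • M.map σ := by
    have hsingle : ∀ i : ι, (fun l => σ ((Pi.single i (1 : F) : ι → F) l)) = Pi.single i 1 := fun i => by
      funext l; by_cases h : l = i <;> simp [h]
    have hpol : ∀ x y, polar Q (A *ᵥ fun l => σ (x l)) (A *ᵥ fun l => σ (y l)) =
        (μ : F) * σ (polar Q x y) := fun x y => by
      rw [polar, ← Matrix.mulVec_add,
        show ((fun l => σ (x l)) + fun l => σ (y l)) = fun l => σ ((x + y) l) from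
          funext fun l => (map_add σ _ _).symm, hμ, hμ, hμ, polar, map_sub, map_sub]
      ring
    have e : LinearMap.BilinForm.toMatrix b
        (LinearMap.BilinForm.comp (polarBilin Q) (Matrix.toLin' A) (Matrix.toLin' A)) = Aᵀ * M * A := by
      rw [LinearMap.BilinForm.toMatrix_comp b, show LinearMap.toMatrix b b (Matrix.toLin' A) = A from
        LinearMap.toMatrix'_toLin' _]
    rw [← e]
    ext i l
    simp only [LinearMap.BilinForm.toMatrix_apply, LinearMap.BilinForm.comp_apply,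
      Matrix.toLin'_apply, QuadraticMap.polarBilin_apply_apply, Matrix.smul_apply, Matrix.map_apply,
      hM, smul_eq_mul]
    simp only [b, Pi.basisFun_apply]
    rw [← hpol, hsingle, hsingle]
  have hdet : A.det ^ 2 * D = (μ : F) ^ (2 * k) * σ D := by
    have h := congrArg Matrix.det hgram
    rw [Matrix.det_mul, Matrix.det_mul, Matrix.det_transpose, Matrix.det_smul, H.card_eq,
      show M.map σ = σ.toRingHom.mapMatrix M from rfl, ← RingHom.map_det] at h
    show A.det ^ 2 * D = (μ : F) ^ (2 * k) * σ.toRingHom D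
    linear_combination h
  -- the product of `g` and its image is a scalar
  have hGsim : G ∈ simGrp Q := by
    obtain ⟨c, hc⟩ := hp2
    exact ⟨c, fun v => by
      have := hc v
      simp only [RingEquiv.trans_apply, hσ2] at this
      exact this⟩
  have hGker : (⟨G, hGsim⟩ : simGrp Q) ∈ (conjAut Q).ker := by
    refine MonoidHom.mem_ker.2 ((induced_iff _ _).1 fun s s' hs => ?_).symm
    rw [MulAut.one_apply]
    refine congrArg _ (Subtype.ext ((hfix s).symm.trans (Subtype.ext (Units.ext ?_))))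
    rw [coe_semiConj, hs]
    congr 2
    ext i l
    simp [hσ2]
  rw [ker_conjAut H.nondeg H.seven_le] at hGker
  obtain ⟨c, hc⟩ := (Cfsg.Geo.mem_scalars_iff _).1 hGker
  have hc' : A * A.map σ = (c : F) • (1 : Matrix ι ι F) := hc
  obtain ⟨v, hv⟩ := H.exists_ne
  have hcc : (c : F) * c = (μ : F) * σ μ := by
    refine mul_right_cancel₀ hv ?_
    have h1 : Q ((A * A.map σ) *ᵥ fun l => σ (σ (v l))) = (μ : F) * σ ((μ : F) * σ (Q v)) := by
      rw [← Matrix.mulVec_mulVec, ← coe_semiMap, semiMap_mulVec, hμ, hμ]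
    simp only [hσ2, map_mul] at h1
    rw [hc', Matrix.smul_mulVec, Matrix.one_mulVec, apply_smul] at h1
    linear_combination h1
  have hnorm : A.det * σ A.det = ((μ : F) * σ μ) ^ k := by
    have h := congrArg Matrix.det hc'
    rw [Matrix.det_mul, Matrix.det_smul, Matrix.det_one, mul_one, H.card_eq,
      show A.map σ = σ.toRingHom.mapMatrix A from rfl, ← RingHom.map_det] at h
    rw [← hcc, ← sq, ← pow_mul]
    exact h
  have hμ0 : (μ : F) ^ k ≠ 0 := pow_ne_zero _ μ.ne_zero
  set y := A.det / (μ : F) ^ k with hy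
  have hy2 : y ^ 2 * D = σ D := by
    rw [hy, div_pow, div_mul_eq_mul_div, hdet, ← pow_mul, mul_comm k 2,
      mul_div_cancel_left₀ _ (pow_ne_zero _ μ.ne_zero)]
  have hyy : y * y ^ q0 = 1 := by
    rw [← hpow, hy, map_div₀, map_pow, div_mul_div_comm, hnorm, ← mul_pow, div_self]
    exact pow_ne_zero _ (mul_ne_zero μ.ne_zero (by simp))
  obtain ⟨j, hj⟩ := hq0odd
  rw [FiniteField.isSquare_iff hcharF hD0, hq]
  have he : q0 * q0 / 2 = 2 * j * (j + 1) := by
    rw [hj, show (2 * j + 1) * (2 * j + 1) = 2 * (2 * j * (j + 1)) + 1 by ring]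
    omega
  have hy3 : y ^ 2 = D ^ (2 * j) := by
    refine mul_right_cancel₀ hD0 ?_
    rw [hy2, hpow, hj, pow_succ]
  rw [he, pow_mul, ← hy3, ← pow_mul, show 2 * (j + 1) = q0 + 1 by omega, pow_succ']
  exact hyy

end CfsgLib.Classical.Quad
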