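import Cfsg.Agent.Lib.Classical.Quad.GraphAutSplit
import Cfsg.Agent.Lib.Classical.Quad.MinusGraphClass

/-!
Class splitting of the involutory graph automorphisms of the standard plus and minus type groups.
-/

set_option autoImplicit false

namespace CfsgLib.Classical.Quad

open QuadraticMap (polar polarBilin)
open scoped Matrix

variable {F : Type*} [Field F] {ι : Type} [Fintype ι] [DecidableEq ι] {Q : QuadraticForm F (ι → F)}

/-- Moving a preservation hypothesis to the similarities of a `QuadraticForm`. -/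
theorem exists_sim_transfer [Fintype F] {k : ℕ} (H : EvenForm Q k) {f : (ι → F) → F} (hf : f = ⇑Q)
    (hodd : Odd (Fintype.card F))
    (hD : IsSquare (-1 : F) →
      ¬ IsSquare (LinearMap.BilinForm.toMatrix (Pi.basisFun F ι) (polarBilin Q)).det)
    {γ : MulAut (Cfsg.POmega F f)} (hγ : γ ∈ Cfsg.gammaPOmega F f) (hγ2 : orderOf γ = 2) :
    ∃ g ∈ Cfsg.Geo.quadSimilarityGroup (F := F) f,
      Cfsg.IsInducedBySemilinearPOmega f g (RingEquiv.refl F) γ := by
  subst hf
  exact exists_sim_of_involution H hodd hD hγ hγ2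

variable [Fintype F] (hodd : Odd (Fintype.card F))
include hodd

/-- The plus type. -/
theorem split_graph_plus {m : ℕ} (hm : 4 ≤ m)
    (γ : MulAut (Cfsg.POmega F (Cfsg.quadFormPlus m F)))
    (hγ : Cfsg.IsSimilarityGraphAutPOmegaPlus m γ) (hγ2 : orderOf γ = 2) :
    (Cfsg.splitClassCount (Cfsg.inndiagPOmegaPlus m F)
          (Cfsg.Inn (Cfsg.POmega F (Cfsg.quadFormPlus m F))) γ = 1 ∨
      Cfsg.splitClassCount (Cfsg.inndiagPOmegaPlus m F)
          (Cfsg.Inn (Cfsg.POmega F (Cfsg.quadFormPlus m F))) γ = 2) ∧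
    (¬ (Odd m ∧ Fintype.card F % 4 = 3) →
      Cfsg.splitClassCount (Cfsg.inndiagPOmegaPlus m F)
          (Cfsg.Inn (Cfsg.POmega F (Cfsg.quadFormPlus m F))) γ = 2) := by
  obtain ⟨g, hg, hpres, hind⟩ := hγ
  obtain ⟨δ, hδm, hδs, ⟨T, hT, hδT⟩, -⟩ := exists_delta_plus hodd hm
  have hR : HEq (Cfsg.inndiagPOmegaPlus m F)
      ((sgnHom (evenForm_qPlus hodd hm)).ker.map (conjAut (qPlus m F))) := by
    rw [inndiagPlus_eq hodd hm]; exact cast_heq _ _
  have h := split_transfer (evenForm_qPlus hodd hm) (coe_qPlus m F).symm γ hγ2 _ hR δ hδm hδs g hg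
    hind (Or.inr fun g' hg' hs => hpres (by
      have h' := (preserves_iff_of_delta (evenForm_qPlus hodd hm) hT δ hδm hδs hδT g').2 hs
      rw [simMat, hg', coe_qPlus] at h'
      exact h'))
  exact ⟨h.1, fun hm' => h.2 (Or.inl ((negMem_qPlus hodd hm).2 hm'))⟩

/-- The minus type. -/
theorem split_graph_minus {m : ℕ} (hm : 3 ≤ m) (a b : F)
    (hab : ∀ z₁ z₂ : F, z₁ ^ 2 + a * z₁ * z₂ + b * z₂ ^ 2 = 0 → z₁ = 0 ∧ z₂ = 0)
    (γ : MulAut (Cfsg.POmega F (Cfsg.quadFormMinus m F a b)))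
    (hγ : Cfsg.IsGraphAutClassPOmegaMinus m a b γ) (hγ2 : orderOf γ = 2) :
    (Cfsg.splitClassCount (Cfsg.inndiagPOmegaMinus m F a b)
          (Cfsg.Inn (Cfsg.POmega F (Cfsg.quadFormMinus m F a b))) γ = 1 ∨
      Cfsg.splitClassCount (Cfsg.inndiagPOmegaMinus m F a b)
          (Cfsg.Inn (Cfsg.POmega F (Cfsg.quadFormMinus m F a b))) γ = 2) ∧
    (¬ (Even m ∧ Fintype.card F % 4 = 1) →
      Cfsg.splitClassCount (Cfsg.inndiagPOmegaMinus m F a b)
          (Cfsg.Inn (Cfsg.POmega F (Cfsg.quadFormMinus m F a b))) γ = 2) := by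
  obtain ⟨hmem, hout, -⟩ := hγ
  set H := evenForm_qMinus (F := F) hodd hm hab
  have hD : IsSquare (-1 : F) → ¬ IsSquare (LinearMap.BilinForm.toMatrix
      (Pi.basisFun F ((Fin m ⊕ Fin m) ⊕ Fin 2)) (polarBilin (qMinus m F a b))).det := by
    rintro ⟨i, hi⟩ ⟨r, hr⟩
    rw [det_gram_qMinus] at hr
    have hs : a ^ 2 - 4 * b = (i * r / i ^ m) * (i * r / i ^ m) := by
      have hi0 : i ≠ 0 := fun h => by rw [h, mul_zero] at hi; exact neg_ne_zero.2 one_ne_zero hi
      have hp : ((-1 : F)) ^ m = i ^ m * i ^ m := by rw [← mul_pow, ← hi]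
      rw [hp] at hr
      field_simp
      linear_combination (r * r) * hi - hr
    set s := i * r / i ^ m
    have h2 := H.two_ne
    have h1 := hab ((-a + s) / 2) 1 (by field_simp; linear_combination -hs)
    exact one_ne_zero h1.2
  obtain ⟨g, hg, hind⟩ := exists_sim_transfer H (coe_qMinus m F a b).symm hodd hD hmem hγ2
  obtain ⟨δ, hδm, hδs, -⟩ := exists_delta_minus hodd hm hab
  have hR : HEq (Cfsg.inndiagPOmegaMinus m F a b)
      ((sgnHom (evenForm_qMinus hodd hm hab)).ker.map (conjAut (qMinus m F a b))) := by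
    rw [inndiagMinus_eq hodd hm hab]; exact cast_heq _ _
  have h := split_transfer H (coe_qMinus m F a b).symm γ hγ2 _ hR δ hδm hδs g hg hind (Or.inl hout)
  refine ⟨h.1, fun hm' => h.2 ?_⟩
  rcases Nat.even_or_odd m with hev | hod
  · left
    refine (negMem_qMinus hodd hm hab).2 ⟨hev, ?_⟩
    have : ¬ Fintype.card F % 4 = 1 := fun h' => hm' ⟨hev, h'⟩
    rw [Nat.odd_iff] at hodd
    omega
  · exact Or.inr hod.add_one

end CfsgLib.Classical.Quad
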