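import Cfsg.Agent.Lib.Classical.Quad.Basic

/-!
The orthogonal sum of a hyperbolic plane and a quadratic space: singular vectors and the order of
the isometry group.
-/

set_option autoImplicit false

namespace CfsgLib.Classical.Quad

open QuadraticMap (polar polarBilin)

variable {F : Type*} [Field F] {V : Type*} [AddCommGroup V] [Module F V]

/-- `xy + Q'(u)` on `F × F × V`. -/
def hyp (Q : QuadraticForm F V) : QuadraticForm F (F × F × V) :=
  QuadraticMap.linMulLin (LinearMap.fst F F (F × V))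
      ((LinearMap.fst F F V).comp (LinearMap.snd F F (F × V))) +
    Q.comp ((LinearMap.snd F F V).comp (LinearMap.snd F F (F × V)))

theorem hyp_apply (Q : QuadraticForm F V) (z : F × F × V) :
    hyp Q z = z.1 * z.2.1 + Q z.2.2 := rfl

theorem polar_hyp (Q : QuadraticForm F V) (z z' : F × F × V) :
    polar (hyp Q) z z' = z.1 * z'.2.1 + z'.1 * z.2.1 + polar Q z.2.2 z'.2.2 := by
  simp only [polar, hyp_apply, Prod.fst_add, Prod.snd_add]
  ring

theorem hyp_nondegenerate {Q : QuadraticForm F V} (hQ : (polarBilin Q).Nondegenerate) :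
    (polarBilin (hyp Q)).Nondegenerate := by
  have h : ∀ z : F × F × V, (∀ z', polar (hyp Q) z z' = 0) → z = 0 := by
    rintro ⟨x, y, u⟩ hz
    have h1 := hz (0, 1, 0)
    have h2 := hz (1, 0, 0)
    have h3 : u = 0 := hQ.1 u fun u' => by simpa [polar_hyp] using hz (0, 0, u')
    simp [polar_hyp] at h1 h2
    simp [h1, h2, h3]
  exact ⟨fun z hz => h z hz, fun z hz => h z fun z' => by
    rw [QuadraticMap.polar_comm]; exact hz z'⟩

/-- Zeros of `xy + f(u)`. -/
theorem card_zero_hyp [Finite F] {W : Type*} [Finite W] (f : W → F) :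
    Nat.card {z : F × F × W // z.1 * z.2.1 + f z.2.2 = 0} =
      Nat.card F * Nat.card {u : W // f u = 0} + (Nat.card F - 1) * Nat.card W := by
  classical
  have : Fintype W := Fintype.ofFinite W
  have : Fintype F := Fintype.ofFinite F
  let e : {z : F × F × W // z.1 * z.2.1 + f z.2.2 = 0} ≃
      ({u : W // f u = 0} × F) ⊕ ({x : F // x ≠ 0} × W) :=
    { toFun := fun z => if h : z.1.1 = 0 then
          Sum.inl (⟨z.1.2.2, by have := z.2; rw [h, zero_mul, zero_add] at this; exact this⟩,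
            z.1.2.1)
        else Sum.inr (⟨z.1.1, h⟩, z.1.2.2)
      invFun := Sum.elim (fun p => ⟨(0, p.2, p.1.1), by simp [p.1.2]⟩)
        fun p => ⟨(p.1.1, -(f p.2) / p.1.1, p.2), by
          have := p.1.2
          field_simp
          ring⟩
      left_inv := fun z => by
        obtain ⟨⟨x, y, u⟩, hz⟩ := z
        by_cases hx : x = 0
        · subst hx; simp
        · simp only [dif_neg hx, Sum.elim_inr]
          refine Subtype.ext ?_
          have hy : -(f u) / x = y := by
            rw [div_eq_iff hx]; simp only at hz; linear_combination -hz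
          simp [hy]
      right_inv := fun p => by
        rcases p with ⟨u, y⟩ | ⟨⟨x, hx⟩, u⟩
        · simp
        · simp [hx] }
  rw [Nat.card_congr e, Nat.card_sum, Nat.card_prod, Nat.card_prod, mul_comm _ (Nat.card F)]
  congr 2
  rw [Nat.card_eq_fintype_card, Fintype.card_subtype_compl, Fintype.card_subtype_eq,
    Nat.card_eq_fintype_card]

variable {Q : QuadraticForm F V}

/-- The first vector of the hyperbolic plane. -/
abbrev hv₀ (F : Type*) [Field F] (V : Type*) [AddCommGroup V] [Module F V] : F × F × V := (1, 0, 0)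

/-- The second vector of the hyperbolic plane. -/
abbrev hw₀ (F : Type*) [Field F] (V : Type*) [AddCommGroup V] [Module F V] : F × F × V := (0, 1, 0)

/-- Hyperbolic pairs. -/
def hypPairs (Q : QuadraticForm F V) : Set ((F × F × V) × (F × F × V)) :=
  {p | hyp Q p.1 = 0 ∧ hyp Q p.2 = 0 ∧ polar (hyp Q) p.1 p.2 = 1}

theorem hv₀_singular (Q : QuadraticForm F V) : hyp Q (hv₀ F V) = 0 := by simp [hyp_apply]

theorem hw₀_singular (Q : QuadraticForm F V) : hyp Q (hw₀ F V) = 0 := by simp [hyp_apply]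

theorem exists_map_pair [FiniteDimensional F V] (hQ : (polarBilin Q).Nondegenerate)
    {p : (F × F × V) × (F × F × V)} (hp : p ∈ hypPairs Q) :
    ∃ g : OQ (hyp Q), (g : _ ≃ₗ[F] (F × F × V)) (hv₀ F V) = p.1 ∧
      (g : _ ≃ₗ[F] (F × F × V)) (hw₀ F V) = p.2 := by
  obtain ⟨v, w⟩ := p
  obtain ⟨hv, hw, hvw⟩ := hp
  let ι : F × F →ₗ[F] F × F × V :=
    (LinearMap.fst F F F).prod ((LinearMap.snd F F F).prod 0)
  have hι : ∀ x, ι x = (x.1, x.2, 0) := fun x => rfl
  have hιinj : Function.Injective ι := fun a b h => by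
    rw [hι, hι] at h
    simp only [Prod.mk.injEq] at h
    exact Prod.ext h.1 h.2.1
  let ψ : F × F →ₗ[F] F × F × V :=
    (LinearMap.fst F F F).smulRight v + (LinearMap.snd F F F).smulRight w
  have hψ : ∀ x, ψ x = x.1 • v + x.2 • w := fun x => rfl
  have hψQ : ∀ x, hyp Q (ψ x) = x.1 * x.2 := fun x => by
    rw [hψ, apply_add, apply_smul, apply_smul, polar_smul_left', polar_smul_right', hv, hw, hvw]
    ring
  have hψinj : Function.Injective ψ := by
    rw [injective_iff_map_eq_zero]
    intro x hx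
    have h1 := congrArg (fun z => polar (hyp Q) z w) hx
    have h2 := congrArg (fun z => polar (hyp Q) v z) hx
    simp only [hψ, polar_add_left', polar_smul_left', polar_add_right', polar_smul_right',
      polar_self', hv, hw, hvw, QuadraticMap.polar_zero_left, QuadraticMap.polar_zero_right] at h1 h2
    refine Prod.ext ?_ ?_
    · simpa using h1
    · simpa using h2
  let e := LinearEquiv.ofInjective ι hιinj
  obtain ⟨g, hg⟩ := witt (hyp_nondegenerate hQ) (LinearMap.range ι) (ψ.comp (e.symm : _ →ₗ[F] F × F))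
    (hψinj.comp e.symm.injective) fun x => by
      obtain ⟨y, rfl⟩ := e.surjective x
      simp only [LinearMap.comp_apply, LinearEquiv.coe_coe, LinearEquiv.symm_apply_apply, hψQ]
      simp [e, hι, hyp_apply]
  refine ⟨g, ?_, ?_⟩
  · have := hg (e (1, 0))
    simpa [e, hι, hψ] using this
  · have := hg (e (0, 1))
    simpa [e, hι, hψ] using this

theorem exists_map_singular [FiniteDimensional F V] (hQ : (polarBilin Q).Nondegenerate)
    {v : F × F × V} (hv0 : v ≠ 0) (hv : hyp Q v = 0) :
    ∃ g : OQ (hyp Q), (g : _ ≃ₗ[F] (F × F × V)) (hv₀ F V) = v := by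
  obtain ⟨w, hw, hvw, -⟩ := exists_singular_partner (hyp_nondegenerate hQ) (U := ⊥) hv
    (fun u hu => by rw [(Submodule.mem_bot F).1 hu, QuadraticMap.polar_zero_left]) (by simpa using hv0)
  obtain ⟨g, hg, -⟩ := exists_map_pair hQ (p := (v, w)) ⟨hv, hw, hvw⟩
  exact ⟨g, hg⟩

/-- An isometry of the summand, extended. -/
def hypExtend (Q : QuadraticForm F V) (h : OQ Q) : OQ (hyp Q) :=
  ⟨(LinearEquiv.refl F F).prodCongr ((LinearEquiv.refl F F).prodCongr (h : V ≃ₗ[F] V)),
    fun z _ => by simp [hyp_apply, OQ.map_apply]⟩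

/-- The pointwise stabiliser of the hyperbolic plane is the isometry group of the summand. -/
theorem exists_extend_eq (hQ : (polarBilin Q).Nondegenerate) [FiniteDimensional F V]
    (g : OQ (hyp Q)) (hv : (g : _ ≃ₗ[F] (F × F × V)) (hv₀ F V) = hv₀ F V)
    (hw : (g : _ ≃ₗ[F] (F × F × V)) (hw₀ F V) = hw₀ F V) : ∃ h : OQ Q, hypExtend Q h = g := by
  have hfst : ∀ z : F × F × V, ((g : _ ≃ₗ[F] (F × F × V)) z).1 = z.1 := fun z => by
    have h1 := OQ.map_polar g z (hw₀ F V)
    rw [hw] at h1
    simpa [polar_hyp] using h1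
  have hsnd : ∀ z : F × F × V, ((g : _ ≃ₗ[F] (F × F × V)) z).2.1 = z.2.1 := fun z => by
    have h1 := OQ.map_polar g z (hv₀ F V)
    rw [hv] at h1
    simpa [polar_hyp] using h1
  let f : V →ₗ[F] V := ((LinearMap.snd F F V).comp (LinearMap.snd F F (F × V))).comp
    (((g : (F × F × V) ≃ₗ[F] (F × F × V)) : (F × F × V) →ₗ[F] (F × F × V)).comp
      ((LinearMap.inr F F (F × V)).comp (LinearMap.inr F F V)))
  have hf : ∀ u, (g : _ ≃ₗ[F] (F × F × V)) ((0, 0, u) : F × F × V) = (0, 0, f u) := fun u => by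
    refine Prod.ext (hfst _) (Prod.ext (hsnd _) rfl)
  have hfQ : ∀ u, Q (f u) = Q u := fun u => by
    have := OQ.map_apply g (0, 0, u)
    rw [hf] at this
    simpa [hyp_apply] using this
  refine ⟨ofPreserves hQ f hfQ, Subtype.ext (LinearEquiv.ext fun z => ?_)⟩
  obtain ⟨x, y, u⟩ := z
  have hz : ((x, y, u) : F × F × V) = x • hv₀ F V + y • hw₀ F V + (0, 0, u) := by simp
  conv_rhs => rw [hz, map_add, map_add, map_smul, map_smul, hv, hw, hf]
  simp [hypExtend]

theorem card_OQ_hyp [Finite F] [Finite V] (hQ : (polarBilin Q).Nondegenerate) :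
    Nat.card (OQ (hyp Q)) =
      (Nat.card {z : F × F × V // hyp Q z = 0} - 1) * Nat.card V * Nat.card (OQ Q) := by
  classical
  have : FiniteDimensional F V := Module.Finite.of_finite
  have hfinE : Finite ((F × F × V) ≃ₗ[F] (F × F × V)) :=
    Finite.of_injective (fun e => (e : F × F × V → F × F × V)) DFunLike.coe_injective
  have : Finite (OQ (hyp Q)) := inferInstance
  have : Fintype (hypPairs Q) := Fintype.ofFinite _
  -- the number of hyperbolic pairs
  let S := {v : F × F × V // hyp Q v = 0 ∧ v ≠ 0}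
  have : Fintype S := Fintype.ofFinite S
  have hS : Nat.card S = Nat.card {z : F × F × V // hyp Q z = 0} - 1 := by
    have : Fintype {z : F × F × V // hyp Q z = 0} := Fintype.ofFinite _
    have e : {z : {z : F × F × V // hyp Q z = 0} // z ≠ ⟨0, QuadraticMap.map_zero _⟩} ≃ S :=
      (Equiv.subtypeEquivRight fun z => by simp [Subtype.ext_iff]).trans
        (Equiv.subtypeSubtypeEquivSubtypeInter _ fun v => v ≠ 0)
    rw [← Nat.card_congr e, Nat.card_eq_fintype_card, Fintype.card_subtype_compl,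
      Fintype.card_subtype_eq, Nat.card_eq_fintype_card]
  have hpart : ∀ v : S, Nat.card {w : F × F × V //
      hyp Q w = 0 ∧ polar (hyp Q) v.1 w = 1} = Nat.card V := fun v => by
    obtain ⟨g, hg⟩ := exists_map_singular hQ v.2.2 v.2.1
    let e0 : V ≃ {w : F × F × V // hyp Q w = 0 ∧ polar (hyp Q) (hv₀ F V) w = 1} :=
      { toFun := fun u => ⟨(-Q u, 1, u), by simp [hyp_apply], by simp [polar_hyp]⟩
        invFun := fun w => w.1.2.2
        left_inv := fun u => rfl
        right_inv := fun w => by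
          obtain ⟨⟨x, y, u⟩, h1, h2⟩ := w
          simp [hyp_apply, polar_hyp] at h1 h2
          subst h2
          refine Subtype.ext (Prod.ext ?_ rfl)
          simp only
          linear_combination -h1 }
    refine (Nat.card_congr (e0.trans ((g : _ ≃ₗ[F] (F × F × V)).toEquiv.subtypeEquiv fun w => ?_))).symm
    show _ ↔ hyp Q ((g : _ ≃ₗ[F] (F × F × V)) w) = 0 ∧ _
    rw [OQ.map_apply]
    refine and_congr_right fun _ => ?_
    show _ ↔ polar (hyp Q) v.1 ((g : _ ≃ₗ[F] (F × F × V)) w) = 1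
    rw [← hg, OQ.map_polar]
  have hP : Nat.card (hypPairs Q) = Nat.card S * Nat.card V := by
    let e : hypPairs Q ≃ Σ v : S, {w : F × F × V // hyp Q w = 0 ∧ polar (hyp Q) v.1 w = 1} :=
      { toFun := fun p => ⟨⟨p.1.1, p.2.1, fun h0 => by
            have := p.2.2.2
            rw [h0, QuadraticMap.polar_zero_left] at this
            exact zero_ne_one this⟩, ⟨p.1.2, p.2.2.1, p.2.2.2⟩⟩
        invFun := fun q => ⟨(q.1.1, q.2.1), q.1.2.1, q.2.2.1, q.2.2.2⟩
        left_inv := fun _ => rfl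
        right_inv := fun _ => rfl }
    rw [Nat.card_congr e, Nat.card_sigma, Finset.sum_congr rfl fun v _ => hpart v, Finset.sum_const,
      Finset.card_univ, smul_eq_mul, Nat.card_eq_fintype_card (α := S)]
  -- fibres over the pairs
  let π : OQ (hyp Q) → hypPairs Q := fun g =>
    ⟨((g : _ ≃ₗ[F] (F × F × V)) (hv₀ F V), (g : _ ≃ₗ[F] (F × F × V)) (hw₀ F V)),
      by simp [OQ.map_apply, hv₀_singular],
      by simp [OQ.map_apply, hw₀_singular],
      by simp [OQ.map_polar, polar_hyp]⟩
  have hfib : ∀ p : hypPairs Q, Nat.card {g : OQ (hyp Q) // π g = p} = Nat.card (OQ Q) := fun p => by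
    obtain ⟨g₀, hg1, hg2⟩ := exists_map_pair hQ p.2
    let f : OQ Q → {g : OQ (hyp Q) // π g = p} := fun h => ⟨g₀ * hypExtend Q h, by
      apply Subtype.ext
      refine Prod.ext ?_ ?_
      · show (g₀ : _ ≃ₗ[F] (F × F × V)) ((hypExtend Q h : _ ≃ₗ[F] (F × F × V)) (hv₀ F V)) = _
        rw [show (hypExtend Q h : _ ≃ₗ[F] (F × F × V)) (hv₀ F V) = hv₀ F V by simp [hypExtend], hg1]
      · show (g₀ : _ ≃ₗ[F] (F × F × V)) ((hypExtend Q h : _ ≃ₗ[F] (F × F × V)) (hw₀ F V)) = _
        rw [show (hypExtend Q h : _ ≃ₗ[F] (F × F × V)) (hw₀ F V) = hw₀ F V by simp [hypExtend], hg2]⟩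
    refine (Nat.card_congr (Equiv.ofBijective f ⟨fun a b hab => ?_, fun g => ?_⟩)).symm
    · have h1 := mul_left_cancel (congrArg Subtype.val hab)
      refine Subtype.ext (LinearEquiv.ext fun u => ?_)
      have h2 := congrArg (fun g : OQ (hyp Q) => (g : _ ≃ₗ[F] (F × F × V)) ((0, 0, u) : F × F × V)) h1
      simpa [hypExtend] using h2
    · have hgp := congrArg Subtype.val g.2
      simp only [π] at hgp
      have hfix : ∀ x, (g₀ : _ ≃ₗ[F] (F × F × V)) x = (g.1 : _ ≃ₗ[F] (F × F × V)) x →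
          ((g₀⁻¹ * g.1 : OQ (hyp Q)) : _ ≃ₗ[F] (F × F × V)) x = x := fun x hx => by
        show (g₀ : _ ≃ₗ[F] (F × F × V)).symm ((g.1 : _ ≃ₗ[F] (F × F × V)) x) = x
        rw [← hx, LinearEquiv.symm_apply_apply]
      obtain ⟨h, hh⟩ := exists_extend_eq hQ (g₀⁻¹ * g.1)
        (hfix _ (hg1.trans (by rw [← hgp]))) (hfix _ (hg2.trans (by rw [← hgp])))
      exact ⟨h, Subtype.ext (by simp [f, hh])⟩
  rw [← Nat.card_congr (Equiv.sigmaFiberEquiv π), Nat.card_sigma,
    Finset.sum_congr rfl fun p _ => hfib p, Finset.sum_const, Finset.card_univ, smul_eq_mul,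
    ← Nat.card_eq_fintype_card, hP, hS]

end CfsgLib.Classical.Quad
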