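import Cfsg.Agent.Lib.Classical.Quad.SimilarityOuter
import Cfsg.Agent.Lib.Classical.Quad.CommutatorIndex

/-!
Similarities `g` of an even-dimensional form in odd characteristic whose square is a scalar and
whose determinant is not the middle power of the multiplier: the square is the multiplier, `g` is
self-adjoint, and some product of two reflections with non-trivial spinor norm commutes with `g`.
-/

set_option autoImplicit false
set_option linter.unusedSectionVars false

namespace CfsgLib.Classical.Quad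

open QuadraticMap (polar polarBilin)
open scoped Matrix

/-! ### Characteristic polynomials -/

theorem charpoly_mul_charpoly_neg {R : Type*} [CommRing R] {n : Type*} [Fintype n] [DecidableEq n]
    (A : Matrix n n R) {c : R} (hA : A * A = c • (1 : Matrix n n R)) :
    A.charpoly * (-A).charpoly =
      (Polynomial.X ^ 2 - Polynomial.C c) ^ Fintype.card n := by
  unfold Matrix.charpoly Matrix.charmatrix
  rw [← Matrix.det_mul, map_neg, sub_neg_eq_add]
  set m := (Polynomial.C : R →+* Polynomial R).mapMatrix A with hm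
  set s := Matrix.scalar n (Polynomial.X : Polynomial R) with hs
  have hc : Commute s m := Matrix.scalar_commute _ (fun _ => Commute.all _ _) m
  have hmm : m * m = Matrix.scalar n (Polynomial.C c) := by
    rw [hm, ← map_mul, hA, RingHom.mapMatrix_apply]
    ext i j
    by_cases hij : i = j <;> simp [hij]
  have hprod : (s - m) * (s + m) = Matrix.scalar n (Polynomial.X ^ 2 - Polynomial.C c) := by
    rw [sub_mul, mul_add, mul_add, hc.eq, hmm, map_sub, map_pow, sq]
    abel
  rw [hprod, Matrix.scalar_apply, Matrix.det_diagonal, Finset.prod_const, Finset.card_univ]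

/-! ### Determinants and restricted forms -/

section General

variable {F : Type*} [Field F] {V : Type*} [AddCommGroup V] [Module F V] [FiniteDimensional F V]

theorem det_eq_mul_of_isCompl {W W' : Submodule F V} (h : IsCompl W W') (f : V →ₗ[F] V)
    (f₁ : W →ₗ[F] W) (f₂ : W' →ₗ[F] W') (h₁ : ∀ x : W, f x = f₁ x)
    (h₂ : ∀ x : W', f x = f₂ x) : LinearMap.det f = LinearMap.det f₁ * LinearMap.det f₂ := by
  set e := Submodule.prodEquivOfIsCompl W W' h
  have hf : f = (e : (W × W') →ₗ[F] V) ∘ₗ f₁.prodMap f₂ ∘ₗ (e.symm : V →ₗ[F] W × W') := by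
    refine LinearMap.ext fun x => ?_
    obtain ⟨⟨x, y⟩, rfl⟩ := e.surjective x
    simp [e, h₁, h₂]
  rw [hf, LinearMap.det_conj, LinearMap.det_prodMap]

theorem det_sq_restrict {B : LinearMap.BilinForm F V} (hB : B.Nondegenerate) (f : V →ₗ[F] V)
    (c : F) (hf : ∀ x y, B (f x) (f y) = c * B x y) :
    LinearMap.det f ^ 2 = c ^ Module.finrank F V := by
  set b := Module.finBasis F V
  have h : c • B = LinearMap.BilinForm.comp B f f :=
    LinearMap.ext fun x => LinearMap.ext fun y => (hf x y).symm
  have h2 := congrArg (fun B => (LinearMap.BilinForm.toMatrix b B).det) h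
  rw [LinearMap.BilinForm.toMatrix_comp b, map_smul, Matrix.det_smul, Matrix.det_mul,
    Matrix.det_mul, Matrix.det_transpose, LinearMap.det_toMatrix, Fintype.card_fin] at h2
  refine mul_left_cancel₀ ((LinearMap.BilinForm.nondegenerate_iff_det_ne_zero b).1 hB) ?_
  linear_combination -h2

theorem restrict_nondeg_of_compl {Q : QuadraticForm F V} (hQ : (polarBilin Q).Nondegenerate)
    {W W' : Submodule F V} (h : IsCompl W W') (horth : ∀ x ∈ W, ∀ y ∈ W', polar Q x y = 0) :
    (polarBilin (Q.comp W.subtype)).Nondegenerate := by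
  have key : ∀ x : W, (∀ y : W, polar Q (x : V) y = 0) → x = 0 := by
    intro x hx
    refine Subtype.ext (hQ.1 (x : V) fun z => ?_)
    obtain ⟨⟨a, b⟩, rfl⟩ := (Submodule.prodEquivOfIsCompl W W' h).surjective z
    show polar Q (x : V) _ = 0
    rw [Submodule.coe_prodEquivOfIsCompl', polar_add_right', hx a, horth _ x.2 _ b.2, add_zero]
  exact ⟨fun x hx => key x fun y => hx y, fun x hx => key x fun y => by
    rw [QuadraticMap.polar_comm]; exact hx y⟩

end General

/-! ### Self-adjoint similitudes with non-square multiplier -/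

section TwistedForm

variable {F : Type*} [Field F] [Finite F] {V : Type*} [AddCommGroup V] [Module F V]
  [FiniteDimensional F V] {Q : QuadraticForm F V}

theorem exists_perp_apply_self (hQ : (polarBilin Q).Nondegenerate) (h2 : (2 : F) ≠ 0)
    (hn : 5 ≤ Module.finrank F V) (G : V →ₗ[F] V)
    (hadj : ∀ x y, polar Q (G x) y = polar Q x (G y)) {μ : F} (hG : ∀ x, G (G x) = μ • x)
    (hμ : ¬ IsSquare μ) : ∃ v, polar Q v (G v) = 0 ∧ Q v ≠ 0 := by
  by_contra hcon
  simp only [not_exists, not_and, not_not] at hcon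
  set R : QuadraticForm F V := LinearMap.BilinMap.toQuadraticMap ((polarBilin Q).compl₂ G) with hR
  have hR' : ∀ x, R x = polar Q x (G x) := fun x => rfl
  have hpR : ∀ x y, polar R x y = 2 * polar Q x (G y) := fun x y => by
    rw [polar, hR', hR', hR', map_add, polar_add_left', polar_add_right', polar_add_right',
      ← hadj y x, QuadraticMap.polar_comm (⇑Q) (G y) x]
    ring
  have hμ0 : μ ≠ 0 := by rintro rfl; exact hμ IsSquare.zero
  have hRn : (polarBilin R).Nondegenerate := by
    have key : ∀ x, (∀ y, polar R x y = 0) → x = 0 := fun x hx => by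
      refine hQ.1 x fun z => ?_
      have h := hx (μ⁻¹ • G z)
      rw [hpR, map_smul, hG, inv_smul_smul₀ hμ0] at h
      exact (mul_eq_zero.1 h).resolve_left h2
    exact ⟨fun x hx => key x hx, fun x hx => key x fun y => by
      rw [QuadraticMap.polar_comm]; exact hx y⟩
  obtain ⟨u, hu0, hu⟩ := exists_singular hRn (by omega)
  obtain ⟨w, hw, huw, -⟩ := exists_singular_partner hRn (U := ⊥) hu
    (fun x hx => by rw [(Submodule.mem_bot F).1 hx, QuadraticMap.polar_zero_left]) (by simpa using hu0)
  let φ : V →ₗ[F] F × F := (polarBilin R u).prod (polarBilin R w)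
  set Z := LinearMap.ker φ with hZdef
  set c := polar Q u w with hc
  have hZ : ∀ z ∈ Z, Q z = c * R z := by
    intro z hz
    have h' : polar R u z = 0 ∧ polar R w z = 0 := by simpa [Z, φ, Prod.ext_iff] using hz
    have hv : ∀ t : F, t * t = 1 →
        Q z + (-(R z)) * c + t * (polar Q u z - R z * polar Q w z) = 0 := by
      intro t ht
      have hRv : R (t • u + (-(R z) * t) • w + z) = 0 := by
        rw [apply_add, apply_add, apply_smul, apply_smul, polar_add_left', polar_smul_left',
          polar_smul_left', polar_smul_left', polar_smul_right', hu, hw, huw, h'.1, h'.2]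
        linear_combination (-(R z)) * ht
      have hQv := hcon _ ((hR' _).symm.trans hRv)
      rw [apply_add, apply_add, apply_smul, apply_smul, polar_add_left', polar_smul_left',
        polar_smul_left', polar_smul_left', polar_smul_right', ← hc,
        hcon u ((hR' u).symm.trans hu), hcon w ((hR' w).symm.trans hw)] at hQv
      linear_combination hQv + (R z * c) * ht
    have e1 := hv 1 (one_mul 1)
    have e2 := hv (-1) (by ring)
    exact mul_left_cancel₀ h2 (by linear_combination e1 + e2)
  have hpol : ∀ x ∈ Z, ∀ y ∈ Z, polar Q x (y - (2 * c) • G y) = 0 := by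
    intro x hx y hy
    have e : polar Q x y = c * polar R x y := by
      rw [polar, polar, hZ _ (Z.add_mem hx hy), hZ x hx, hZ y hy]; ring
    rw [sub_eq_add_neg, ← neg_smul, polar_add_right', polar_smul_right', e, hpR]
    ring
  let L : V →ₗ[F] V := LinearMap.id - (2 * c) • G
  have hLinj : Function.Injective L := by
    rw [injective_iff_map_eq_zero]
    intro y hy
    by_contra hy0
    have e : y = (2 * c) • G y := sub_eq_zero.1 hy
    have e2 : y = (2 * c * (2 * c) * μ) • y := by
      conv_lhs => rw [e, e, map_smul, hG, smul_smul, smul_smul]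
    have e3 : (1 - 2 * c * (2 * c) * μ) • y = 0 := by rw [sub_smul, one_smul, ← e2, sub_self]
    have e4 := (smul_eq_zero.1 e3).resolve_right hy0
    have hcc : 2 * c ≠ 0 := fun h0 => by rw [h0] at e4; simp at e4
    exact hμ ⟨(2 * c)⁻¹, by rw [← mul_inv]; exact eq_inv_of_mul_eq_one_left (by linear_combination -e4)⟩
  have h1 : Module.finrank F (Z.map L) + Module.finrank F Z ≤ Module.finrank F V := by
    have hle : Z.map L ≤ LinearMap.BilinForm.orthogonal (polarBilin Q) Z := by
      rintro _ ⟨y, hy, rfl⟩ x hx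
      exact hpol x hx y hy
    have hle' := Submodule.finrank_mono hle
    rw [LinearMap.BilinForm.finrank_orthogonal hQ] at hle'
    have := Submodule.finrank_le Z
    omega
  rw [← LinearEquiv.finrank_eq (Submodule.equivMapOfInjective L hLinj Z)] at h1
  have h3 := LinearMap.finrank_range_add_finrank_ker φ
  have h4 : Module.finrank F (LinearMap.range φ) ≤ 2 :=
    (Submodule.finrank_le _).trans (by simp)
  rw [← hZdef] at h3
  omega

end TwistedForm

/-! ### Involutive similarities -/

variable {F : Type*} [Field F] [Finite F] {ι : Type} [Fintype ι] [DecidableEq ι]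
  {Q : QuadraticForm F (ι → F)} {k : ℕ} (H : EvenForm Q k) (g : simGrp Q)
include H

theorem gram_sim :
    (simMat g)ᵀ * LinearMap.BilinForm.toMatrix (Pi.basisFun F ι) (polarBilin Q) * simMat g =
      (simMult g : F) • LinearMap.BilinForm.toMatrix (Pi.basisFun F ι) (polarBilin Q) := by
  have h : (simMult g : F) • polarBilin Q =
      LinearMap.BilinForm.comp (polarBilin Q) (Matrix.toLin' (simMat g)) (Matrix.toLin' (simMat g)) :=
    LinearMap.ext fun u => LinearMap.ext fun v => (polar_sim g u v).symm
  have h2 := congrArg (LinearMap.BilinForm.toMatrix (Pi.basisFun F ι)) h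
  rw [LinearMap.BilinForm.toMatrix_comp (Pi.basisFun F ι), map_smul] at h2
  have e : LinearMap.toMatrix (Pi.basisFun F ι) (Pi.basisFun F ι) (Matrix.toLin' (simMat g)) =
      simMat g := LinearMap.toMatrix'_toLin' _
  rw [e] at h2
  exact h2.symm

theorem det_of_charpoly_eq (a : F) (h : (simMat g).charpoly = (Polynomial.X ^ 2 + Polynomial.C a) ^ k) :
    (simMat g).det = a ^ k := by
  rw [Matrix.det_eq_sign_charpoly_coeff, h, H.card_eq, Even.neg_one_pow (even_two_mul k), one_mul,
    Polynomial.coeff_zero_eq_eval_zero]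
  simp

variable (hg2 : conjAut Q (g * g) = 1) (hgs : sgnHom H g ≠ 1)
include hg2 hgs

/-- The square of `g` is its multiplier. -/
theorem sq_eq_mult : simMat g * simMat g = (simMult g : F) • (1 : Matrix ι ι F) := by
  have hz : g * g ∈ (conjAut Q).ker := MonoidHom.mem_ker.2 hg2
  rw [ker_conjAut H.nondeg H.seven_le] at hz
  obtain ⟨c, hc⟩ := (Cfsg.Geo.mem_scalars_iff _).1 hz
  have hc' : simMat g * simMat g = (c : F) • (1 : Matrix ι ι F) := hc
  obtain ⟨v, hv⟩ := H.exists_ne
  have hcc : (c : F) ^ 2 = (simMult g : F) ^ 2 := by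
    refine mul_right_cancel₀ hv ?_
    have h1 : Q ((simMat g * simMat g) *ᵥ v) = (simMult g : F) * ((simMult g : F) * Q v) := by
      rw [← Matrix.mulVec_mulVec, simMult_spec, simMult_spec]
    rw [hc', Matrix.smul_mulVec, Matrix.one_mulVec, apply_smul] at h1
    linear_combination h1
  rcases sq_eq_sq_iff_eq_or_eq_neg.1 hcc with h | h
  · rw [hc', h]
  exfalso
  set M := LinearMap.BilinForm.toMatrix (Pi.basisFun F ι) (polarBilin Q)
  set μ := (simMult g : F)
  have hμ : μ ≠ 0 := (simMult g).ne_zero
  rw [h] at hc'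
  have h1 : (simMat g)ᵀ * M = M * (-simMat g) := by
    have h2 := congrArg (· * simMat g) (gram_sim H g)
    simp only [mul_assoc, hc', Matrix.mul_smul, mul_one, Matrix.smul_mul] at h2
    have h3 : (-μ) • ((simMat g)ᵀ * M) = (-μ) • (M * (-simMat g)) := by
      rw [h2, mul_neg, smul_neg, neg_smul, neg_neg]
    exact smul_right_injective _ (neg_ne_zero.2 hμ) h3
  have hM : M.det ≠ 0 := (LinearMap.BilinForm.nondegenerate_iff_det_ne_zero _).1 H.nondeg
  have hsim : (simMat g).charpoly = (-simMat g).charpoly := by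
    obtain ⟨U, hU⟩ : IsUnit M := (Matrix.isUnit_iff_isUnit_det M).2 (isUnit_iff_ne_zero.2 hM)
    have h4 : (simMat g)ᵀ = U.val * (-simMat g) * U.val⁻¹ := by
      rw [hU, ← h1, mul_assoc, Matrix.mul_nonsing_inv M (isUnit_iff_ne_zero.2 hM), mul_one]
    rw [← Matrix.charpoly_transpose (simMat g), h4, Matrix.charpoly_units_conj]
  have hP := charpoly_mul_charpoly_neg (simMat g) hc'
  rw [← hsim, map_neg, sub_neg_eq_add, H.card_eq, ← sq, mul_comm 2 k, pow_mul] at hP
  rcases sq_eq_sq_iff_eq_or_eq_neg.1 hP with hP' | hP'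
  · exact hgs ((sgnHom_eq_one_iff H g).2 (det_of_charpoly_eq H g μ hP'))
  · have hm1 := (Matrix.charpoly_monic (simMat g)).leadingCoeff
    rw [hP', Polynomial.leadingCoeff_neg,
      ((Polynomial.monic_X_pow_add_C μ two_ne_zero).pow k).leadingCoeff] at hm1
    exact H.two_ne (by linear_combination -hm1)

theorem sq_apply (v : ι → F) : simMat g *ᵥ (simMat g *ᵥ v) = (simMult g : F) • v := by
  rw [Matrix.mulVec_mulVec, sq_eq_mult H g hg2 hgs, Matrix.smul_mulVec, Matrix.one_mulVec]

theorem adjoint_self (u v : ι → F) :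
    polar Q (simMat g *ᵥ u) v = polar Q u (simMat g *ᵥ v) := by
  have h := polar_sim g u (simMat g *ᵥ v)
  rw [sq_apply H g hg2 hgs, polar_smul_right'] at h
  exact mul_left_cancel₀ (simMult g).ne_zero h

theorem isSquare_mult_of_even (hk : Even k) : IsSquare ((simMult g : Fˣ) : F) := by
  by_contra hns
  set μ := (simMult g : F)
  have hP := charpoly_mul_charpoly_neg (simMat g) (sq_eq_mult H g hg2 hgs)
  set q2 := Polynomial.X ^ 2 - Polynomial.C μ
  have hmon : q2.Monic := Polynomial.monic_X_pow_sub_C μ two_ne_zero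
  have hdeg : q2.natDegree = 2 := Polynomial.natDegree_X_pow_sub_C
  have hirr : Irreducible q2 := by
    rw [Polynomial.irreducible_iff_roots_eq_zero_of_degree_le_three (by omega) (by omega),
      Multiset.eq_zero_iff_forall_notMem]
    intro r hr
    have h := (Polynomial.mem_roots hmon.ne_zero).1 hr
    simp [Polynomial.IsRoot, q2] at h
    exact hns ⟨r, by linear_combination -h⟩
  obtain ⟨j, -, hj⟩ := (_root_.dvd_prime_pow hirr.prime _).1 (Dvd.intro _ hP)
  have hPj := Polynomial.eq_of_monic_of_associated (Matrix.charpoly_monic _) (hmon.pow j) hj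
  have hjk : j = k := by
    have h := congrArg Polynomial.natDegree hPj
    rw [Matrix.charpoly_natDegree_eq_dim, Polynomial.natDegree_pow, hdeg, H.card_eq] at h
    omega
  refine hgs ((sgnHom_eq_one_iff H g).2 ?_)
  have h := det_of_charpoly_eq H g (-μ) (by rw [hPj, hjk, map_neg, ← sub_eq_add_neg])
  rwa [hk.neg_pow] at h

omit H hg2 hgs in
/-- The eigenspace of `g` for the eigenvalue `t`. -/
noncomputable def eigSp (g : simGrp Q) (t : F) : Submodule F (ι → F) :=
  LinearMap.ker (Matrix.toLin' (simMat g) - t • LinearMap.id)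

omit H hg2 hgs in
theorem mem_eigSp {t : F} {v : ι → F} : v ∈ eigSp g t ↔ simMat g *ᵥ v = t • v := by
  simp [eigSp, sub_eq_zero]

theorem eig_facts {t : F} (ht : t * t = (simMult g : F)) :
    IsCompl (eigSp g t) (eigSp g (-t)) ∧
      (∀ x ∈ eigSp g t, ∀ y ∈ eigSp g (-t), polar Q x y = 0) ∧
      Module.finrank F (eigSp g t) + Module.finrank F (eigSp g (-t)) = 2 * k ∧
      Odd (Module.finrank F (eigSp g (-t))) := by
  have ht0 : t ≠ 0 := fun h => (simMult g).ne_zero (by rw [← ht, h, mul_zero])
  have h2 := H.two_ne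
  have h2t : 2 * t ≠ 0 := mul_ne_zero h2 ht0
  have hcompl : IsCompl (eigSp g t) (eigSp g (-t)) := by
    refine IsCompl.of_eq ((Submodule.eq_bot_iff _).2 fun v hv => ?_) (eq_top_iff.2 fun v _ => ?_)
    · have h1 := (mem_eigSp g).1 hv.1
      rw [(mem_eigSp g).1 hv.2] at h1
      have h3 : (2 * t) • v = 0 := by
        rw [two_mul, add_smul]
        nth_rw 1 [← h1]
        rw [← add_smul, neg_add_cancel, zero_smul]
      exact (smul_eq_zero.1 h3).resolve_left h2t
    · set G := simMat g *ᵥ v with hG
      have hGG : simMat g *ᵥ G = (t * t) • v := by rw [hG, sq_apply H g hg2 hgs, ht]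
      refine Submodule.mem_sup.2 ⟨(2 * t)⁻¹ • (t • v + G), (mem_eigSp g).2 ?_,
        (2 * t)⁻¹ • (t • v - G), (mem_eigSp g).2 ?_, ?_⟩
      · rw [Matrix.mulVec_smul, Matrix.mulVec_add, Matrix.mulVec_smul, hGG, ← hG]; module
      · rw [Matrix.mulVec_smul, Matrix.mulVec_sub, Matrix.mulVec_smul, hGG, ← hG]; module
      · rw [← smul_add, add_add_sub_cancel, ← two_smul F, smul_smul, smul_smul,
          mul_assoc, inv_mul_cancel₀ h2t, one_smul]
  refine ⟨hcompl, fun x hx y hy => ?_, ?_, ?_⟩
  · have h := adjoint_self H g hg2 hgs x y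
    rw [(mem_eigSp g).1 hx, (mem_eigSp g).1 hy, polar_smul_left', polar_smul_right'] at h
    exact (mul_eq_zero.1 (show (2 * t) * polar Q x y = 0 by linear_combination h)).resolve_left h2t
  · rw [Submodule.finrank_add_eq_of_isCompl hcompl, Module.finrank_pi, H.card_eq]
  · rw [← Nat.not_even_iff_odd]
    intro hev
    refine hgs ((sgnHom_eq_one_iff H g).2 ?_)
    rw [← LinearMap.det_toLin', det_eq_mul_of_isCompl hcompl (Matrix.toLin' (simMat g))
      (t • LinearMap.id) ((-t) • LinearMap.id)
      (fun x => by simpa using (mem_eigSp g).1 x.2) (fun x => by simpa using (mem_eigSp g).1 x.2),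
      LinearMap.det_smul, LinearMap.det_smul, LinearMap.det_id, LinearMap.det_id, mul_one, mul_one,
      hev.neg_pow, ← pow_add, Submodule.finrank_add_eq_of_isCompl hcompl, Module.finrank_pi,
      H.card_eq, pow_mul, sq, ht]

/-- In dimension `2 k` with `k` even every similarity commuting with `g` up to a scalar has square
multiplier. -/
theorem isSquare_mult_of_comm (hk : Even k) (h : simGrp Q)
    (hc : conjAut Q h * conjAut Q g = conjAut Q g * conjAut Q h) :
    IsSquare ((simMult h : Fˣ) : F) := by
  obtain ⟨t, ht⟩ := isSquare_mult_of_even H g hg2 hgs hk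
  obtain ⟨hcompl, horth, hdim, hodd⟩ := eig_facts H g hg2 hgs ht.symm
  set μ := (simMult g : F)
  have ht0 : t ≠ 0 := fun h0 => (simMult g).ne_zero (by rw [show (simMult g : F) = _ from ht, h0, mul_zero])
  have hker : (g * h)⁻¹ * (h * g) ∈ (conjAut Q).ker := by
    rw [MonoidHom.mem_ker, map_mul, map_inv, map_mul, map_mul, hc, inv_mul_cancel]
  rw [ker_conjAut H.nondeg H.seven_le] at hker
  obtain ⟨c, hc'⟩ := (Cfsg.Geo.mem_scalars_iff _).1 hker
  have hz : simMat ((g * h)⁻¹ * (h * g)) = (c : F) • (1 : Matrix ι ι F) := hc'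
  have hcomm : ∀ v, simMat h *ᵥ (simMat g *ᵥ v) = (c : F) • (simMat g *ᵥ (simMat h *ᵥ v)) := by
    intro v
    have e : simMat ((g * h) * ((g * h)⁻¹ * (h * g))) = simMat h * simMat g := by
      rw [mul_inv_cancel_left]; simp [simMat]
    have e' : simMat ((g * h) * ((g * h)⁻¹ * (h * g))) =
        simMat g * simMat h * simMat ((g * h)⁻¹ * (h * g)) := by simp [simMat, mul_assoc]
    rw [e', hz, Matrix.mul_smul, mul_one] at e
    rw [Matrix.mulVec_mulVec, ← e, Matrix.smul_mulVec, Matrix.mulVec_mulVec]
  have hinj : Function.Injective (Matrix.toLin' (simMat h)) := fun x y e =>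
    Matrix.mulVec_injective_iff_isUnit.2 (h : GL ι F).isUnit e
  have hmaps : ∀ s, ∀ v ∈ eigSp g s, simMat h *ᵥ v ∈ eigSp g ((c : F)⁻¹ * s) := by
    intro s v hv
    have e := hcomm v
    rw [(mem_eigSp g).1 hv, Matrix.mulVec_smul] at e
    rw [mem_eigSp, mul_smul, e, inv_smul_smul₀ c.ne_zero]
  have hc2 : (c : F) = 1 ∨ (c : F) = -1 := by
    obtain ⟨v, hv⟩ := H.exists_ne
    set y := simMat h *ᵥ v with hy
    have e := hcomm (simMat g *ᵥ v)
    rw [sq_apply H g hg2 hgs, Matrix.mulVec_smul, hcomm, Matrix.mulVec_smul, ← hy,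
      sq_apply H g hg2 hgs, smul_smul, smul_smul] at e
    have hy0 : y ≠ 0 := fun h0 => hv (by
      have hv0 : v = 0 := hinj (by rw [Matrix.toLin'_apply, ← hy, h0, map_zero])
      rw [hv0, QuadraticMap.map_zero])
    have e' := sub_eq_zero.2 e
    rw [← sub_smul] at e'
    have e'' : μ * ((c : F) * c - 1) = 0 := by
      linear_combination -((smul_eq_zero.1 e').resolve_right hy0)
    exact mul_self_eq_one_iff.1 (sub_eq_zero.1 ((mul_eq_zero.1 e'').resolve_left (simMult g).ne_zero))
  rcases hc2 with hc1 | hc1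
  · -- the eigenspaces are preserved
    set W := eigSp g (-t)
    have hW : ∀ v ∈ W, Matrix.toLin' (simMat h) v ∈ W := fun v hv => by
      have := hmaps _ v hv
      rwa [hc1, inv_one, one_mul] at this
    have hnd := restrict_nondeg_of_compl H.nondeg hcompl.symm
      (fun x hx y hy => by rw [QuadraticMap.polar_comm]; exact horth y hy x hx)
    have hd := det_sq_restrict hnd ((Matrix.toLin' (simMat h)).restrict hW) (simMult h : F)
      fun x y => polar_sim h (x : ι → F) y
    obtain ⟨j, hj⟩ := hodd
    rw [hj] at hd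
    refine ⟨LinearMap.det ((Matrix.toLin' (simMat h)).restrict hW) / (simMult h : F) ^ j, ?_⟩
    have hh0 : (simMult h : F) ≠ 0 := (simMult h).ne_zero
    field_simp
    linear_combination -hd
  · exfalso
    have hcard : ∀ s, Module.finrank F (eigSp g s) ≤ Module.finrank F (eigSp g (-s)) := fun s => by
      refine LinearMap.finrank_le_finrank_of_injective
        (f := ((Matrix.toLin' (simMat h)).domRestrict (eigSp g s)).codRestrict _ fun v => ?_) ?_
      · have := hmaps s (v : ι → F) v.2
        rw [hc1, inv_neg, inv_one, neg_one_mul] at this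
        exact this
      · exact fun x y e => Subtype.ext (hinj (congrArg Subtype.val e))
    have h1 := hcard t
    have h2 := hcard (-t)
    rw [neg_neg] at h2
    rw [Nat.odd_iff] at hodd
    rw [Nat.even_iff] at hk
    omega

/-- An element of `SO` with non-square spinor norm commuting with `g`. -/
theorem exists_comm_so : ∃ e : ↥(Cfsg.isometryGroup F (⇑Q)),
    Matrix.GeneralLinearGroup.det (e : GL ι F) = 1 ∧ spinO H e ≠ 1 ∧ conjO Q g e = e := by
  have hscal : ∀ {v : ι → F} (hv : Q v ≠ 0) {c : F} (hc : c ≠ 0) (hv' : Q (c • v) ≠ 0),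
      rO hv' = rO hv := fun hv c hc hv' => by
    rw [rO, rO]; congr 1; exact refl_smul hv hc
  have hdet : ∀ {v w : ι → F} (hv : Q v ≠ 0) (hw : Q w ≠ 0),
      Matrix.GeneralLinearGroup.det ((rO hv * rO hw : ↥(Cfsg.isometryGroup F (⇑Q))) : GL ι F) = 1 :=
    fun hv hw => by rw [Subgroup.coe_mul, map_mul, det_rO, det_rO, neg_one_mul, neg_neg]
  by_cases hμ : IsSquare ((simMult g : Fˣ) : F)
  · obtain ⟨t, ht⟩ := hμ
    obtain ⟨hcompl, horth, hdim, -⟩ := eig_facts H g hg2 hgs ht.symm
    have ht0 : t ≠ 0 := fun h0 => (simMult g).ne_zero (by rw [ht, h0, mul_zero])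
    obtain ⟨s, hs0, hs, hnd⟩ : ∃ s, s ≠ 0 ∧ 2 ≤ Module.finrank F (eigSp g s) ∧
        (polarBilin (Q.comp (eigSp g s).subtype)).Nondegenerate := by
      by_cases h : 2 ≤ Module.finrank F (eigSp g t)
      · exact ⟨t, ht0, h, restrict_nondeg_of_compl H.nondeg hcompl horth⟩
      · refine ⟨-t, neg_ne_zero.2 ht0, ?_, restrict_nondeg_of_compl H.nondeg hcompl.symm
          (fun x hx y hy => by rw [QuadraticMap.polar_comm]; exact horth y hy x hx)⟩
        have := H.four_le
        omega
    obtain ⟨α, hα⟩ := FiniteField.exists_nonsquare (F := F) (fun h => H.two_ne (by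
      have := ringChar.eq_iff.1 h
      exact CharTwo.two_eq_zero))
    have hα0 : α ≠ 0 := by rintro rfl; exact hα IsSquare.zero
    obtain ⟨v, hv⟩ := exists_apply_eq hnd hs (one_ne_zero (α := F))
    obtain ⟨w, hw⟩ := exists_apply_eq hnd hs hα0
    rw [QuadraticMap.comp_apply, Submodule.subtype_apply] at hv hw
    have hv0 : Q (v : ι → F) ≠ 0 := hv.trans_ne one_ne_zero
    have hw0 : Q (w : ι → F) ≠ 0 := hw.trans_ne hα0
    refine ⟨rO hv0 * rO hw0, hdet hv0 hw0, ?_, ?_⟩
    · rw [map_mul, spinO_rO, spinO_rO, hv, hw, sqc_one, one_mul, Ne, sqc_eq_one_iff hα0]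
      exact hα
    · have hfix : ∀ {x : ι → F} (hx : Q x ≠ 0), x ∈ eigSp g s → conjO Q g (rO hx) = rO hx := by
        intro x hx hxs
        have hgx : simMat g *ᵥ x = s • x := (mem_eigSp g).1 hxs
        have hgx0 : Q (simMat g *ᵥ x) ≠ 0 := by
          rw [simMult_spec]; exact mul_ne_zero (simMult g).ne_zero hx
        rw [conjO_rO g hx hgx0]
        have : Q (s • x) ≠ 0 := hgx ▸ hgx0
        rw [← hscal hx hs0 this]
        congr 1
      rw [map_mul, hfix hv0 v.2, hfix hw0 w.2]
  · obtain ⟨v, hperp, hv⟩ := exists_perp_apply_self H.nondeg H.two_ne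
      (by rw [Module.finrank_pi]; have := H.seven_le; omega) (Matrix.toLin' (simMat g))
      (adjoint_self H g hg2 hgs) (sq_apply H g hg2 hgs) hμ
    rw [Matrix.toLin'_apply] at hperp
    set w := simMat g *ᵥ v with hw
    have hw0 : Q w ≠ 0 := by rw [hw, simMult_spec]; exact mul_ne_zero (simMult g).ne_zero hv
    have hgw : simMat g *ᵥ w = (simMult g : F) • v := sq_apply H g hg2 hgs v
    have hgw0 : Q (simMat g *ᵥ w) ≠ 0 := by
      rw [simMult_spec]; exact mul_ne_zero (simMult g).ne_zero hw0
    refine ⟨rO hv * rO hw0, hdet hv hw0, ?_, ?_⟩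
    · rw [map_mul, spinO_rO, spinO_rO, hw, simMult_spec, ← sqc_mul hv
        (mul_ne_zero (simMult g).ne_zero hv), show Q v * ((simMult g : F) * Q v) =
          Q v * (simMult g : F) * Q v by ring, sqc_sq_mul hv (simMult g).ne_zero, Ne,
        sqc_eq_one_iff (simMult g).ne_zero]
      exact hμ
    · have e1 : conjO Q g (rO hv) = rO hw0 := conjO_rO g hv hw0
      have e2 : conjO Q g (rO hw0) = rO hv := by
        rw [conjO_rO g hw0 hgw0]
        have : Q ((simMult g : F) • v) ≠ 0 := hgw ▸ hgw0
        rw [← hscal hv (simMult g).ne_zero this]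
        congr 1
      rw [map_mul, e1, e2]
      refine Subtype.ext (Units.ext (Matrix.toLin'.injective (LinearMap.ext fun z => ?_)))
      have hperp' : polar Q w v = 0 := by rw [QuadraticMap.polar_comm]; exact hperp
      simp only [Subgroup.coe_mul, Units.val_mul, Matrix.toLin'_apply, ← Matrix.mulVec_mulVec,
        rO_mulVec, reflMap_apply, sub_eq_add_neg, ← neg_smul, polar_add_left', polar_smul_left',
        hperp, hperp', mul_zero, add_zero]
      abel

end CfsgLib.Classical.Quad
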