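import Cfsg.Agent.Lib.Classical.Quad.Eichler
import Cfsg.Agent.Lib.Classical.SimpleQuot

/-!
The group `Ω` in dimension at least seven: centre, perfectness, primitivity on singular points and
simplicity of its central quotient.
-/

set_option autoImplicit false

namespace CfsgLib.Classical.Quad

open QuadraticMap (polar polarBilin)
open scoped LinearAlgebra.Projectivization Pointwise commutatorElement

variable {F : Type*} [Field F] {V : Type*} [AddCommGroup V] [Module F V] [FiniteDimensional F V]
  [Finite F] {Q : QuadraticForm F V} (hQ : (polarBilin Q).Nondegenerate)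
include hQ

theorem singular_span_eq_top (hn : 5 ≤ Module.finrank F V) :
    Submodule.span F {w : V | Q w = 0} = ⊤ := by
  set S := Submodule.span F {w : V | Q w = 0} with hS
  obtain ⟨u, hu0, hu⟩ := exists_singular hQ (by omega)
  obtain ⟨u', hu', huu'⟩ := exists_partner_of_singular hQ hu hu0
  rw [eq_top_iff]
  rintro z -
  set r := z + (-polar Q z u') • u + (-polar Q z u) • u' with hr
  have hru : polar Q r u = 0 := by
    simp only [hr, polar_add_left', polar_smul_left', polar_self', hu,
      QuadraticMap.polar_comm (⇑Q) u' u, huu']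
    ring
  have hru' : polar Q r u' = 0 := by
    simp only [hr, polar_add_left', polar_smul_left', polar_self', hu', huu']
    ring
  have hrs : r + (u' + (-Q r) • u) ∈ S := Submodule.subset_span (by
    show Q _ = 0
    simp only [apply_add, apply_smul, polar_add_right', polar_smul_right', hu', hu,
      QuadraticMap.polar_comm (⇑Q) u' u, huu', hru, hru']
    ring)
  have e : z = (polar Q z u' + Q r) • u + (polar Q z u - 1) • u' + (r + (u' + (-Q r) • u)) := by
    rw [hr]; module
  rw [e]
  exact add_mem (add_mem (S.smul_mem _ (Submodule.subset_span hu))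
    (S.smul_mem _ (Submodule.subset_span hu'))) hrs

/-- An isometry fixing every singular line is a scalar. -/
theorem scalar_of_fix_singular_lines (hn : 5 ≤ Module.finrank F V) {g : OQ Q}
    (h : ∀ w, Q w = 0 → ∃ c : F, (g : V ≃ₗ[F] V) w = c • w) :
    ∃ c : F, c * c = 1 ∧ ∀ v, (g : V ≃ₗ[F] V) v = c • v := by
  obtain ⟨u, hu0, hu⟩ := exists_singular hQ (by omega)
  obtain ⟨u', hu', huu'⟩ := exists_partner_of_singular hQ hu hu0
  obtain ⟨c, hc⟩ := h u hu
  have key : ∀ z, Q z = 0 → ∀ w, Q w = 0 → polar Q z w = 1 → ∀ a b : F,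
      (g : V ≃ₗ[F] V) z = a • z → (g : V ≃ₗ[F] V) w = b • w → a * b = 1 := by
    intro z _ w _ hzw a b ha hb
    have h1 := OQ.map_polar g z w
    rw [ha, hb, polar_smul_left', polar_smul_right', hzw, mul_one] at h1
    exact h1
  have hall : ∀ w, Q w = 0 → (g : V ≃ₗ[F] V) w = c • w := by
    intro w hw
    by_cases hli : LinearIndependent F ![u, w]
    · obtain ⟨z, hz, hzu, hzw⟩ := exists_common_partner hQ hn hu hw hli
      obtain ⟨a, ha⟩ := h z hz
      obtain ⟨d, hd⟩ := h w hw
      have e1 := key z hz u hu hzu a c ha hc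
      have e2 := key z hz w hw hzw a d ha hd
      have : d = c := mul_left_cancel₀ (left_ne_zero_of_mul_eq_one e1) (by rw [e1, e2])
      rw [hd, this]
    · obtain ⟨r, rfl⟩ : ∃ r : F, w = r • u := by
        by_contra hc'
        push Not at hc'
        refine hli (LinearIndependent.pair_iff.2 fun s t hst => ?_)
        by_cases ht : t = 0
        · subst ht
          rw [zero_smul, add_zero] at hst
          exact ⟨(smul_eq_zero.1 hst).resolve_right hu0, rfl⟩
        · refine absurd ?_ (hc' (-(s / t)))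
          calc w = t⁻¹ • (t • w) := by rw [inv_smul_smul₀ ht]
            _ = -(s / t) • u := by
              rw [eq_neg_of_add_eq_zero_right hst, smul_neg, smul_smul, neg_smul, div_eq_inv_mul]
      rw [map_smul, hc, smul_comm]
  refine ⟨c, key u hu u' hu' huu' c c hc (hall u' hu'), fun v => ?_⟩
  have hv : v ∈ Submodule.span F {w : V | Q w = 0} := by
    rw [singular_span_eq_top hQ hn]; exact Submodule.mem_top
  exact LinearMap.eqOn_span (f := ((g : V ≃ₗ[F] V) : V →ₗ[F] V)) (g := c • LinearMap.id)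
    (fun w hw => by simpa using hall w hw) hv

theorem exists_singular_pair_perp (hn : 5 ≤ Module.finrank F V) {w : V} (hw0 : w ≠ 0) :
    ∃ x y, Q x = 0 ∧ Q y = 0 ∧ polar Q w x = 0 ∧ polar Q w y = 0 ∧ polar Q x y = 1 := by
  obtain ⟨x, -, hx, hxw, k, hkw, hxk⟩ := exists_singular_perp hQ (Submodule.span F {w})
    (by rw [finrank_span_singleton hw0]; omega)
  have hwx := hxw w (Submodule.mem_span_singleton_self w)
  have hwk := hkw w (Submodule.mem_span_singleton_self w)
  refine ⟨x, k + (-Q k) • x, hx, ?_, hwx, ?_, ?_⟩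
  · rw [apply_add, apply_smul, polar_smul_right', QuadraticMap.polar_comm (⇑Q) k x, hxk, hx]; ring
  · rw [polar_add_right', polar_smul_right', hwk, hwx]; ring
  · rw [polar_add_right', polar_smul_right', hxk, polar_self', hx]; ring

/-- A map commuting with all Eichler maps at `w` fixes the line of `w`. -/
theorem apply_mem_line_of_comm (hn : 5 ≤ Module.finrank F V) {g : OQ Q} {w : V} (hw : Q w = 0)
    (hw0 : w ≠ 0) (h : ∀ a (ha : polar Q w a = 0), g * eich hQ hw ha = eich hQ hw ha * g) :
    ∃ c : F, (g : V ≃ₗ[F] V) w = c • w := by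
  obtain ⟨x, y, hx, hy, hwx, hwy, hxy⟩ := exists_singular_pair_perp hQ hn hw0
  obtain ⟨w', hw', hww', hw'x⟩ : ∃ w', Q w' = 0 ∧ polar Q w w' = 1 ∧
      ∀ u ∈ Submodule.span F (Set.range ![x, y]), polar Q u w' = 0 := by
    refine exists_singular_partner hQ hw (fun u hu => ?_) fun hmem => ?_
    · obtain ⟨r, rfl⟩ := (Submodule.mem_span_range_iff_exists_fun F).1 hu
      simp [Fin.sum_univ_two, polar_smul_left', QuadraticMap.polar_comm (⇑Q) x w, hwx,
        QuadraticMap.polar_comm (⇑Q) y w, hwy]
    · obtain ⟨r, hr⟩ := (Submodule.mem_span_range_iff_exists_fun F).1 hmem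
      simp only [Fin.sum_univ_two, Matrix.cons_val_zero, Matrix.cons_val_one] at hr
      rw [← hr] at hwx hwy
      rw [polar_add_left', polar_smul_left', polar_smul_left', polar_self', hx,
        QuadraticMap.polar_comm (⇑Q) y x, hxy] at hwx
      rw [polar_add_left', polar_smul_left', polar_smul_left', polar_self', hy, hxy] at hwy
      ring_nf at hwx hwy
      exact hw0 (by rw [← hr, hwx, hwy]; simp)
  have hw'x' := hw'x x (Submodule.subset_span ⟨0, rfl⟩)
  have hw'y' := hw'x y (Submodule.subset_span ⟨1, rfl⟩)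
  -- the image of `E(w, a) - 1` contains `g w`
  have key : ∀ a (ha : polar Q w a = 0), Q a = 0 → ∀ z, polar Q z w = 0 → polar Q z a = 1 →
      ∃ r s : F, (g : V ≃ₗ[F] V) w = r • w + s • a := by
    intro a ha hqa z hzw hza
    have h1 := congrArg (fun e : OQ Q => (e : V ≃ₗ[F] V) z) (h a ha)
    simp only [Subgroup.coe_mul, LinearEquiv.mul_apply, eich_apply, hqa, hzw, hza, zero_mul,
      sub_zero, one_smul, neg_zero, zero_smul, add_zero, map_add] at h1
    rw [add_assoc, add_right_inj] at h1
    exact ⟨_, _, h1⟩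
  obtain ⟨r, s, e1⟩ := key x hwx hx y (by rw [QuadraticMap.polar_comm]; exact hwy)
    (by rw [QuadraticMap.polar_comm]; exact hxy)
  obtain ⟨r', s', e2⟩ := key y hwy hy x (by rw [QuadraticMap.polar_comm]; exact hwx) hxy
  have h3 : polar Q (r • w + s • x) y = polar Q (r' • w + s' • y) y := by rw [← e1, ← e2]
  rw [polar_add_left', polar_smul_left', polar_smul_left', hwy, hxy, polar_add_left',
    polar_smul_left', polar_smul_left', hwy, polar_self', hy] at h3
  refine ⟨r, ?_⟩
  have hs : s = 0 := by linear_combination h3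
  rw [e1, hs, zero_smul, add_zero]

theorem eich_mem_commutator' (hn : 5 ≤ Module.finrank F V) {w a : V} (hw : Q w = 0)
    (ha : polar Q w a = 0) : eich hQ hw ha ∈ commutator (OQ Q) :=
  eich_mem_commutator hQ hn hw ha

/-- The Eichler map as an element of `Ω`. -/
noncomputable def eichΩ (hn : 5 ≤ Module.finrank F V) {w a : V} (hw : Q w = 0)
    (ha : polar Q w a = 0) : commutator (OQ Q) :=
  ⟨eich hQ hw ha, eich_mem_commutator hQ hn hw ha⟩

theorem center_Omega_iff (hn : 5 ≤ Module.finrank F V) {g : commutator (OQ Q)} :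
    g ∈ Subgroup.center (commutator (OQ Q)) ↔
      ∃ c : F, c * c = 1 ∧ ∀ v, ((g : OQ Q) : V ≃ₗ[F] V) v = c • v := by
  constructor
  · intro hg
    refine scalar_of_fix_singular_lines hQ hn fun w hw => ?_
    by_cases hw0 : w = 0
    · exact ⟨0, by rw [hw0, map_zero, zero_smul]⟩
    refine apply_mem_line_of_comm hQ hn hw hw0 fun a ha => ?_
    exact (congrArg Subtype.val (Subgroup.mem_center_iff.1 hg (eichΩ hQ hn hw ha))).symm
  · rintro ⟨c, -, hc⟩
    refine Subgroup.mem_center_iff.2 fun h => Subtype.ext (Subtype.ext (LinearEquiv.ext fun v => ?_))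
    show ((h : OQ Q) : V ≃ₗ[F] V) (((g : OQ Q) : V ≃ₗ[F] V) v) =
      ((g : OQ Q) : V ≃ₗ[F] V) (((h : OQ Q) : V ≃ₗ[F] V) v)
    rw [hc, hc, map_smul]

/-- Minus the identity. -/
noncomputable def negIsom : OQ Q := ofPreserves hQ (-LinearMap.id) fun z => by simp

theorem negIsom_apply (v : V) : (negIsom hQ : V ≃ₗ[F] V) v = -v := by simp [negIsom]

theorem card_center_Omega (hn : 5 ≤ Module.finrank F V) (P : Prop) [Decidable P]
    (hP : P ↔ negIsom hQ ∈ commutator (OQ Q) ∧ (2 : F) ≠ 0) :
    Nat.card (Subgroup.center (commutator (OQ Q))) = if P then 2 else 1 := by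
  classical
  have : Nontrivial V := Module.nontrivial_of_finrank_pos (R := F) (by omega)
  have hone : ∀ z : Subgroup.center (commutator (OQ Q)),
      ((z : commutator (OQ Q)) : OQ Q) = 1 ∨ ((z : commutator (OQ Q)) : OQ Q) = negIsom hQ := by
    intro z
    obtain ⟨c, hc, hz⟩ := (center_Omega_iff hQ hn).1 z.2
    rcases mul_self_eq_one_iff.1 hc with rfl | rfl
    · exact Or.inl (Subtype.ext (LinearEquiv.ext fun v => by rw [hz, one_smul]; rfl))
    · exact Or.inr (Subtype.ext (LinearEquiv.ext fun v => by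
        rw [hz, negIsom_apply, neg_one_smul]))
  split_ifs with h
  · obtain ⟨hmem, h2⟩ := hP.1 h
    have hcen : (⟨negIsom hQ, hmem⟩ : commutator (OQ Q)) ∈
        Subgroup.center (commutator (OQ Q)) :=
      (center_Omega_iff hQ hn).2 ⟨-1, by ring, fun v => by rw [neg_one_smul, negIsom_apply]⟩
    have hne : (1 : Subgroup.center (commutator (OQ Q))) ≠ ⟨_, hcen⟩ := by
      intro h1
      obtain ⟨v, hv⟩ := exists_ne (0 : V)
      have h3 := congrArg (fun z : Subgroup.center (commutator (OQ Q)) =>
        (((z : commutator (OQ Q)) : OQ Q) : V ≃ₗ[F] V) v) h1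
      simp only [negIsom_apply] at h3
      have h4 : (2 : F) • v = 0 := by
        rw [two_smul]; exact add_eq_zero_iff_eq_neg.2 h3
      exact hv ((smul_eq_zero.1 h4).resolve_left h2)
    have huniv : (Set.univ : Set (Subgroup.center (commutator (OQ Q)))) = {1, ⟨_, hcen⟩} := by
      refine (Set.eq_univ_of_forall fun z => ?_).symm
      rcases hone z with h1 | h1
      · exact Or.inl (Subtype.ext (Subtype.ext h1))
      · exact Or.inr (Subtype.ext (Subtype.ext h1))
    rw [← Nat.card_univ, huniv, Nat.card_coe_set_eq, Set.ncard_pair hne]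
  · refine Nat.card_eq_one_iff_unique.2 ⟨⟨fun a b => ?_⟩, ⟨1⟩⟩
    have heq : ∀ z : Subgroup.center (commutator (OQ Q)), z = 1 := by
      intro z
      rcases hone z with h1 | h1
      · exact Subtype.ext (Subtype.ext h1)
      · refine Subtype.ext (Subtype.ext ?_)
        have h2 : (2 : F) = 0 := by
          by_contra h2
          exact h (hP.2 ⟨h1 ▸ (z : commutator (OQ Q)).2, h2⟩)
        rw [h1]
        refine Subtype.ext (LinearEquiv.ext fun v => ?_)
        rw [negIsom_apply]
        show -v = v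
        have h3 : v + v = 0 := by rw [← two_smul F, h2, zero_smul]
        exact (eq_neg_of_add_eq_zero_left h3).symm
    rw [heq a, heq b]

theorem commutator_Omega_eq_top (hn : 7 ≤ Module.finrank F V) :
    commutator (commutator (OQ Q)) = ⊤ := by
  have hn5 : 5 ≤ Module.finrank F V := by omega
  have hle : eichGroup hQ ≤
      (commutator (commutator (OQ Q))).map (commutator (OQ Q)).subtype := by
    refine (Subgroup.closure_le _).2 ?_
    rintro _ ⟨u, v, hu, huv, hv, rfl⟩
    let P := Submodule.span F (Set.range ![u, v])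
    have hP : Module.finrank F P ≤ 2 := (finrank_range_le_card _).trans (by simp)
    obtain ⟨x, -, hx, hxP, k, hkP, hxk⟩ := exists_singular_perp hQ P (by omega)
    have hu0' : u ∈ P := Submodule.subset_span ⟨0, rfl⟩
    have hv0' : v ∈ P := Submodule.subset_span ⟨1, rfl⟩
    set y := k + (-Q k) • x with hy
    have hqy : Q y = 0 := by
      rw [hy, apply_add, apply_smul, polar_smul_right', QuadraticMap.polar_comm (⇑Q) k x, hxk, hx]
      ring
    have hPy : ∀ z ∈ P, polar Q z y = 0 := fun z hz => by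
      rw [hy, polar_add_right', polar_smul_right', hkP z hz, hxP z hz]; ring
    have hxy : polar Q x y = 1 := by
      rw [hy, polar_add_right', polar_smul_right', hxk, polar_self', hx]; ring
    have hux := hxP u hu0'
    have hyv : polar Q y v = 0 := by rw [QuadraticMap.polar_comm]; exact hPy v hv0'
    refine ⟨⁅eichΩ hQ hn5 hu hux, eichΩ hQ hn5 hqy hyv⁆,
      Subgroup.commutator_mem_commutator (Subgroup.mem_top _) (Subgroup.mem_top _), ?_⟩
    show ⁅eich hQ hu hux, eich hQ hqy hyv⁆ = eich hQ hu huv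
    rw [commutatorElement_def, eich_conj, eich_inv]
    refine Subtype.ext (LinearEquiv.ext fun z => ?_)
    rw [Subgroup.coe_mul, LinearEquiv.mul_apply]
    have hyx : polar Q y x = 1 := by rw [QuadraticMap.polar_comm]; exact hxy
    have hyu : polar Q y u = 0 := by rw [QuadraticMap.polar_comm]; exact hPy u hu0'
    have hvx : polar Q v x = 0 := hxP v hv0'
    have hvu : polar Q v u = 0 := by rw [QuadraticMap.polar_comm]; exact huv
    have hey : (eich hQ hu hux : V ≃ₗ[F] V) y = y + u := by
      rw [eich_apply, hyx, hyu]; module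
    have hev : (eich hQ hu hux : V ≃ₗ[F] V) v = v := by
      rw [eich_apply, hvx, hvu]; module
    simp only [eich_apply, hey, hev, hv, QuadraticMap.map_neg, hu, hqy, zero_mul, sub_zero,
      polar_add_left', polar_smul_left', polar_add_right', polar_self', mul_zero, hyv, hyu, huv,
      hvu, QuadraticMap.polar_neg_right, QuadraticMap.polar_neg_left, neg_zero,
      QuadraticMap.polar_comm (⇑Q) v y,
      QuadraticMap.polar_comm (⇑Q) u y]
    module
  rw [eq_top_iff]
  rintro g -
  have hg : (g : OQ Q) ∈ eichGroup hQ := by rw [eichGroup_eq_commutator hQ hn5]; exact g.2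
  obtain ⟨g', hg', e⟩ := hle hg
  rwa [Subtype.ext e] at hg'

omit hQ [FiniteDimensional F V] [Finite F] in
theorem apply_rep_smul (g : OQ Q) {p : ℙ F V} (hp : Q p.rep = 0) :
    Q (g • p).rep = 0 := by
  have hv : (g : V ≃ₗ[F] V) p.rep ≠ 0 := by simpa using p.rep_nonzero
  have hgp : g • p = Projectivization.mk F ((g : V ≃ₗ[F] V) p.rep) hv := by
    conv_lhs => rw [← p.mk_rep]
    rfl
  obtain ⟨a, ha⟩ := Projectivization.exists_smul_eq_mk_rep F ((g : V ≃ₗ[F] V) p.rep) hv
  rw [hgp, ← ha, Units.smul_def, apply_smul, OQ.map_apply, hp, mul_zero]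

omit hQ [FiniteDimensional F V] [Finite F] in
/-- The singular points. -/
def singPts (Q : QuadraticForm F V) : SubMulAction (OQ Q) (ℙ F V) where
  carrier := {p | Q p.rep = 0}
  smul_mem' g _ hp := apply_rep_smul g hp

/-- The point of a singular vector. -/
noncomputable def sPt {w : V} (hw : Q w = 0) (hw0 : w ≠ 0) : singPts Q :=
  ⟨Projectivization.mk F w hw0, by
    obtain ⟨a, ha⟩ := Projectivization.exists_smul_eq_mk_rep F w hw0
    show Q _ = 0
    rw [← ha, Units.smul_def, apply_smul, hw, mul_zero]⟩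

theorem sPt_eq_iff {w w' : V} (hw : Q w = 0) (hw0 : w ≠ 0) (hw' : Q w' = 0) (hw0' : w' ≠ 0) :
    sPt hw hw0 = sPt hw' hw0' ↔ ∃ c : F, c • w' = w := by
  rw [Subtype.ext_iff]
  exact Projectivization.mk_eq_mk_iff' F _ _ _ _

theorem smul_sPt (g : commutator (OQ Q)) {w v : V} (hw : Q w = 0) (hw0 : w ≠ 0) (hv : Q v = 0)
    (hv0 : v ≠ 0) {c : F} (h : ((g : OQ Q) : V ≃ₗ[F] V) w = c • v) :
    g • sPt hw hw0 = sPt hv hv0 := by
  have hgw : ((g : OQ Q) : V ≃ₗ[F] V) w ≠ 0 := by simpa using hw0
  apply Subtype.ext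
  show Projectivization.mk F (((g : OQ Q) : V ≃ₗ[F] V) w) hgw = Projectivization.mk F v hv0
  exact (Projectivization.mk_eq_mk_iff' F _ _ _ _).2 ⟨c, h.symm⟩

theorem exists_sPt (p : singPts Q) : ∃ (w : V) (hw : Q w = 0) (hw0 : w ≠ 0), sPt hw hw0 = p :=
  ⟨p.1.rep, p.2, p.1.rep_nonzero, Subtype.ext p.1.mk_rep⟩

theorem exists_move_orth (hn : 7 ≤ Module.finrank F V) {u v v' : V} (hu : Q u = 0) (hune : u ≠ 0)
    (hv : Q v = 0)
    (hv' : Q v' = 0) (huv : polar Q u v = 0) (huv' : polar Q u v' = 0)
    (hvn : v ∉ Submodule.span F {u}) (hvn' : v' ∉ Submodule.span F {u}) :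
    ∃ g : commutator (OQ Q), ((g : OQ Q) : V ≃ₗ[F] V) u = u ∧
      ∃ c : F, ((g : OQ Q) : V ≃ₗ[F] V) v = c • v' := by
  have hn5 : 5 ≤ Module.finrank F V := by omega
  have hu0 : u ∈ Submodule.span F ({u} : Set V) := Submodule.mem_span_singleton_self u
  have main : ∀ w z, Q w = 0 → Q z = 0 → polar Q u z = 0 → polar Q z v = 1 → polar Q z w = 1 →
      polar Q u w = 0 →
      ∃ g : commutator (OQ Q), ((g : OQ Q) : V ≃ₗ[F] V) u = u ∧
        ((g : OQ Q) : V ≃ₗ[F] V) v = w := by
    intro w z hw hz huz hzv hzw huw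
    obtain ⟨s, hs, e1, -, e3⟩ := exists_move_partner hQ hn5 hz hv hw hzv hzw
    rw [eichGroup_eq_commutator hQ hn5] at hs
    exact ⟨⟨s, hs⟩, e3 u huz (by rw [huv, huw]), e1⟩
  by_cases hspan : v' ∈ Submodule.span F (Set.range ![u, v])
  · obtain ⟨r, hr⟩ := (Submodule.mem_span_range_iff_exists_fun F).1 hspan
    simp only [Fin.sum_univ_two, Matrix.cons_val_zero, Matrix.cons_val_one] at hr
    have hr1 : r 1 ≠ 0 := fun h0 => hvn' (by
      rw [← hr, h0, zero_smul, add_zero]; exact Submodule.smul_mem _ _ hu0)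
    obtain ⟨a, hva, hua⟩ := exists_sep_polar hQ hvn
    have hua' := hua u hu0
    set w := (r 0 / r 1) • u + v with hwdef
    have hw : Q w = 0 := by
      rw [hwdef, apply_add, apply_smul, hu, hv, polar_smul_left', huv]; ring
    obtain ⟨g, g1, g2⟩ := main w (a + (-Q a) • v) hw
      (by rw [apply_add, apply_smul, polar_smul_right', QuadraticMap.polar_comm (⇑Q) a v, hva, hv]
          ring)
      (by rw [polar_add_right', polar_smul_right', hua', huv]; ring)
      (by rw [polar_add_left', polar_smul_left', QuadraticMap.polar_comm, hva, polar_self', hv]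
          ring)
      (by rw [hwdef, polar_add_right', polar_smul_right', polar_add_left', polar_smul_left',
            polar_add_left', polar_smul_left', QuadraticMap.polar_comm (⇑Q) a u, hua',
            QuadraticMap.polar_comm (⇑Q) a v, hva, QuadraticMap.polar_comm (⇑Q) v u, huv,
            polar_self', hv]
          ring)
      (by rw [hwdef, polar_add_right', polar_smul_right', polar_self', hu, huv]; ring)
    refine ⟨g, g1, (r 1)⁻¹, ?_⟩
    rw [g2, ← hr, hwdef, smul_add, smul_smul, smul_smul, inv_mul_cancel₀ hr1, one_smul,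
      div_eq_inv_mul]
  · have hv1 : v ∉ Submodule.span F (Set.range ![u, v']) := fun hc => by
      obtain ⟨r, hr⟩ := (Submodule.mem_span_range_iff_exists_fun F).1 hc
      simp only [Fin.sum_univ_two, Matrix.cons_val_zero, Matrix.cons_val_one] at hr
      by_cases hr1 : r 1 = 0
      · rw [hr1, zero_smul, add_zero] at hr
        exact hvn (hr ▸ Submodule.smul_mem _ _ hu0)
      · refine hspan ((Submodule.mem_span_range_iff_exists_fun F).2
          ⟨![-(r 0 / r 1), (r 1)⁻¹], ?_⟩)
        simp only [Fin.sum_univ_two, Matrix.cons_val_zero, Matrix.cons_val_one, ← hr, smul_add,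
          smul_smul, inv_mul_cancel₀ hr1, one_smul, div_eq_inv_mul]
        module
    obtain ⟨a₁, ha1, ha1'⟩ := exists_sep_polar hQ hv1
    obtain ⟨a₂, ha2, ha2'⟩ := exists_sep_polar hQ hspan
    have hua : polar Q u (a₁ + a₂) = 0 := by
      rw [polar_add_right', ha1' u (Submodule.subset_span ⟨0, rfl⟩),
        ha2' u (Submodule.subset_span ⟨0, rfl⟩), add_zero]
    have hva : polar Q v (a₁ + a₂) = 1 := by
      rw [polar_add_right', ha1, ha2' v (Submodule.subset_span ⟨1, rfl⟩), add_zero]
    have hva' : polar Q v' (a₁ + a₂) = 1 := by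
      rw [polar_add_right', ha2, ha1' v' (Submodule.subset_span ⟨1, rfl⟩), zero_add]
    set a := a₁ + a₂
    by_cases hβ : polar Q v v' = 0
    · obtain ⟨g, g1, g2⟩ := main v' (a + (-Q a) • v) hv'
        (by rw [apply_add, apply_smul, polar_smul_right', QuadraticMap.polar_comm (⇑Q) a v, hva, hv]
            ring)
        (by rw [polar_add_right', polar_smul_right', hua, huv]; ring)
        (by rw [polar_add_left', polar_smul_left', QuadraticMap.polar_comm, hva, polar_self', hv]
            ring)
        (by rw [polar_add_left', polar_smul_left', QuadraticMap.polar_comm, hva', hβ]; ring)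
        huv'
      exact ⟨g, g1, 1, by rw [g2, one_smul]⟩
    · obtain ⟨u', hu', huu', hu'P⟩ : ∃ u', Q u' = 0 ∧ polar Q u u' = 1 ∧
          ∀ x ∈ Submodule.span F (Set.range ![v, v']), polar Q x u' = 0 := by
        refine exists_singular_partner hQ hu (fun x hx => ?_) fun hmem => ?_
        · obtain ⟨r, rfl⟩ := (Submodule.mem_span_range_iff_exists_fun F).1 hx
          simp [Fin.sum_univ_two, polar_smul_left', QuadraticMap.polar_comm (⇑Q) v u, huv,
            QuadraticMap.polar_comm (⇑Q) v' u, huv']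
        · obtain ⟨r, hr⟩ := (Submodule.mem_span_range_iff_exists_fun F).1 hmem
          simp only [Fin.sum_univ_two, Matrix.cons_val_zero, Matrix.cons_val_one] at hr
          have h1 : r 1 * polar Q v v' = 0 := by
            rw [← huv, ← hr, polar_add_left', polar_smul_left', polar_smul_left', polar_self', hv,
              QuadraticMap.polar_comm (⇑Q) v' v]
            ring
          have h2 : r 0 * polar Q v v' = 0 := by
            rw [← huv', ← hr, polar_add_left', polar_smul_left', polar_smul_left', polar_self', hv']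
            ring
          rw [(mul_eq_zero.1 h1).resolve_right hβ, (mul_eq_zero.1 h2).resolve_right hβ] at hr
          exact hune (by simpa using hr.symm)
      have hvu' := hu'P v (Submodule.subset_span ⟨0, rfl⟩)
      have hv'u' := hu'P v' (Submodule.subset_span ⟨1, rfl⟩)
      let P := Submodule.span F (Set.range ![u, u', v, v'])
      have hu'u : polar Q u' u = 1 := by rw [QuadraticMap.polar_comm]; exact huu'
      have hP : ∀ x ∈ P, (∀ y ∈ P, polar Q x y = 0) → x = 0 := by
        intro x hx hxP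
        obtain ⟨c, rfl⟩ := (Submodule.mem_span_range_iff_exists_fun F).1 hx
        have e0 := hxP u (Submodule.subset_span ⟨0, rfl⟩)
        have e1 := hxP u' (Submodule.subset_span ⟨1, rfl⟩)
        have e2 := hxP v (Submodule.subset_span ⟨2, rfl⟩)
        have e3 := hxP v' (Submodule.subset_span ⟨3, rfl⟩)
        simp [Fin.sum_univ_four, polar_self', hu, hu', hv, hv', huu', hu'u, huv, huv', hvu', hv'u',
          QuadraticMap.polar_comm (⇑Q) v u, QuadraticMap.polar_comm (⇑Q) v' u,
          QuadraticMap.polar_comm (⇑Q) u' v, QuadraticMap.polar_comm (⇑Q) u' v',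
          QuadraticMap.polar_comm (⇑Q) v' v, hβ] at e0 e1 e2 e3
        simp [Fin.sum_univ_four, e0, e1, e2, e3]
      have hPd : Module.finrank F P ≤ 4 := (finrank_range_le_card _).trans (by simp)
      obtain ⟨r, hr, hrP⟩ := exists_apply_eq_perp_nondeg hQ hP (by omega)
        (c := -(polar Q v v')⁻¹) (neg_ne_zero.2 (inv_ne_zero hβ))
      have hur := hrP u (Submodule.subset_span ⟨0, rfl⟩)
      have hvr := hrP v (Submodule.subset_span ⟨2, rfl⟩)
      have hv'r := hrP v' (Submodule.subset_span ⟨3, rfl⟩)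
      obtain ⟨g, g1, g2⟩ := main v' ((polar Q v v')⁻¹ • v + (polar Q v v')⁻¹ • v' + r) hv'
        (by
          simp only [apply_add, apply_smul, polar_add_left', polar_smul_left', polar_smul_right',
            hv, hv', hr, hvr, hv'r]
          field_simp
          ring)
        (by simp only [polar_add_right', polar_smul_right', huv, huv', hur]; ring)
        (by
          simp only [polar_add_left', polar_smul_left', polar_self', hv,
            QuadraticMap.polar_comm (⇑Q) v' v, QuadraticMap.polar_comm (⇑Q) r v, hvr]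
          field_simp
          ring)
        (by
          simp only [polar_add_left', polar_smul_left', polar_self', hv',
            QuadraticMap.polar_comm (⇑Q) r v', hv'r]
          field_simp
          ring)
        huv'
      exact ⟨g, g1, 1, by rw [g2, one_smul]⟩

theorem isPretransitive_singPts (hn : 5 ≤ Module.finrank F V) :
    MulAction.IsPretransitive (commutator (OQ Q)) (singPts Q) := ⟨fun p r => by
  obtain ⟨w, hw, hw0, rfl⟩ := exists_sPt hQ p
  obtain ⟨w', hw', hw0', rfl⟩ := exists_sPt hQ r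
  obtain ⟨s, hs, e⟩ := exists_move_singular hQ hn hw hw0 hw' hw0'
  rw [eichGroup_eq_commutator hQ hn] at hs
  exact ⟨⟨s, hs⟩, smul_sPt hQ ⟨s, hs⟩ hw hw0 hw' hw0' (c := 1) (by rw [one_smul]; exact e)⟩⟩

theorem isPreprimitive_singPts (hn : 7 ≤ Module.finrank F V) :
    MulAction.IsPreprimitive (commutator (OQ Q)) (singPts Q) := by
  have hn5 : 5 ≤ Module.finrank F V := by omega
  have hpre := isPretransitive_singPts hQ hn5
  refine { hpre with isTrivialBlock_of_isBlock := fun {Δ} hΔ => ?_ }
  by_cases hsub : Δ.Subsingleton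
  · exact Or.inl hsub
  refine Or.inr (Set.eq_univ_iff_forall.2 fun t => ?_)
  obtain ⟨p, hp, r, hr, hpr⟩ := Set.not_subsingleton_iff.1 hsub
  have hstab : ∀ (g : commutator (OQ Q)) (a b : singPts Q), a ∈ Δ → b ∈ Δ → g • a = a →
      g • b ∈ Δ := by
    intro g a b ha hb hga
    rw [← hΔ.smul_eq_of_mem ha (show g • a ∈ Δ by rw [hga]; exact ha)]
    exact Set.smul_mem_smul_set hb
  have stepA : ∀ (u w w' : V) (hu : Q u = 0) (hu0 : u ≠ 0) (hw : Q w = 0) (hw0 : w ≠ 0)
      (hw' : Q w' = 0) (hw0' : w' ≠ 0), sPt hu hu0 ∈ Δ → sPt hw hw0 ∈ Δ →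
      polar Q u w ≠ 0 → polar Q u w' ≠ 0 → sPt hw' hw0' ∈ Δ := by
    intro u w w' hu hu0 hw hw0 hw' hw0' hpu hpw h h'
    obtain ⟨s, hs, e1, e2, -⟩ := exists_move_partner hQ hn5 hu
      (y := (polar Q u w)⁻¹ • w) (y' := (polar Q u w')⁻¹ • w')
      (by rw [apply_smul, hw, mul_zero]) (by rw [apply_smul, hw', mul_zero])
      (by rw [polar_smul_right', inv_mul_cancel₀ h]) (by rw [polar_smul_right', inv_mul_cancel₀ h'])
    rw [eichGroup_eq_commutator hQ hn5] at hs
    have h1 : (⟨s, hs⟩ : commutator (OQ Q)) • sPt hw hw0 = sPt hw' hw0' := by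
      refine smul_sPt hQ ⟨s, hs⟩ hw hw0 hw' hw0' (c := polar Q u w * (polar Q u w')⁻¹) ?_
      show (s : V ≃ₗ[F] V) w = _
      rw [← smul_smul, ← e1, ← map_smul, smul_smul, mul_inv_cancel₀ h, one_smul]
    rw [← h1]
    exact hstab _ _ _ hpu hpw (smul_sPt hQ ⟨s, hs⟩ hu hu0 hu hu0 (c := 1) (by rw [one_smul]; exact e2))
  have stepB : ∀ (u v v' : V) (hu : Q u = 0) (hu0 : u ≠ 0) (hv : Q v = 0) (hv0 : v ≠ 0)
      (hv' : Q v' = 0) (hv0' : v' ≠ 0), sPt hu hu0 ∈ Δ → sPt hv hv0 ∈ Δ →
      polar Q u v = 0 → v ∉ Submodule.span F {u} → polar Q u v' = 0 → sPt hv' hv0' ∈ Δ := by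
    intro u v v' hu hu0 hv hv0 hv' hv0' hpu hpv huv hvn huv'
    by_cases hvn' : v' ∈ Submodule.span F {u}
    · obtain ⟨c, hc⟩ := Submodule.mem_span_singleton.1 hvn'
      rwa [(sPt_eq_iff hQ hv' hv0' hu hu0).2 ⟨c, hc⟩]
    obtain ⟨g, g1, c, g2⟩ := exists_move_orth hQ hn hu hu0 hv hv' huv huv' hvn hvn'
    rw [← smul_sPt hQ g hv hv0 hv' hv0' g2]
    exact hstab _ _ _ hpu hpv (smul_sPt hQ g hu hu0 hu hu0 (c := 1) (by rw [one_smul]; exact g1))
  obtain ⟨y, hy, hy0, rfl⟩ := exists_sPt hQ t
  obtain ⟨u, hu, hu0, rfl⟩ := exists_sPt hQ p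
  obtain ⟨w, hw, hw0, rfl⟩ := exists_sPt hQ r
  have hwn : w ∉ Submodule.span F {u} := fun hc => hpr (by
    obtain ⟨c, hc⟩ := Submodule.mem_span_singleton.1 hc
    exact ((sPt_eq_iff hQ hw hw0 hu hu0).2 ⟨c, hc⟩).symm)
  by_cases huw : polar Q u w = 0
  · by_cases huy : polar Q u y = 0
    · exact stepB u w y hu hu0 hw hw0 hy hy0 hp hr huw hwn huy
    · let P := Submodule.span F (Set.range ![u, y])
      have hP : Module.finrank F P ≤ 2 := (finrank_range_le_card _).trans (by simp)
      obtain ⟨z, hz0, hz, hzP, -⟩ := exists_singular_perp hQ P (by omega)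
      have huz := hzP u (Submodule.subset_span ⟨0, rfl⟩)
      have hyz := hzP y (Submodule.subset_span ⟨1, rfl⟩)
      have hzy : polar Q z y = 0 := by rw [QuadraticMap.polar_comm]; exact hyz
      have hzΔ := stepB u w z hu hu0 hw hw0 hz hz0 hp hr huw hwn huz
      have hun : u ∉ Submodule.span F {z} := fun hc => by
        obtain ⟨c, hc⟩ := Submodule.mem_span_singleton.1 hc
        exact huy (by rw [← hc, polar_smul_left', hzy, mul_zero])
      exact stepB z u y hz hz0 hu hu0 hy hy0 hzΔ hp (by rw [QuadraticMap.polar_comm]; exact huz)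
        hun hzy
  · by_cases huy : polar Q u y = 0
    · by_cases hli : LinearIndependent F ![u, y]
      · obtain ⟨z, hz, hzu, hzy⟩ := exists_common_partner hQ hn5 hu hy hli
        have huz : polar Q u z = 1 := by rw [QuadraticMap.polar_comm]; exact hzu
        have hz0 : z ≠ 0 := fun h => by simp [h] at hzu
        have hzΔ := stepA u w z hu hu0 hw hw0 hz hz0 hp hr huw (by rw [huz]; exact one_ne_zero)
        exact stepA z u y hz hz0 hu hu0 hy hy0 hzΔ hp (by rw [hzu]; exact one_ne_zero)
          (by rw [hzy]; exact one_ne_zero)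
      · obtain ⟨c, hc⟩ : ∃ c : F, c • u = y := by
          by_contra hc'
          push Not at hc'
          refine hli (LinearIndependent.pair_iff.2 fun a b hab => ?_)
          by_cases hb : b = 0
          · subst hb
            rw [zero_smul, add_zero] at hab
            exact ⟨(smul_eq_zero.1 hab).resolve_right hu0, rfl⟩
          · refine absurd ?_ (hc' (-(a / b)))
            calc -(a / b) • u = b⁻¹ • (b • y) := by
                  rw [eq_neg_of_add_eq_zero_right hab, smul_neg, smul_smul, neg_smul, div_eq_inv_mul]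
              _ = y := inv_smul_smul₀ hb y
        rwa [(sPt_eq_iff hQ hy hy0 hu hu0).2 ⟨c, hc⟩]
    · exact stepA u w y hu hu0 hw hw0 hy hy0 hp hr huw huy

/-- The abelian root group of a singular vector. -/
noncomputable def eichSub {w : V} (hw : Q w = 0) : Subgroup (commutator (OQ Q)) where
  carrier := {g | ∃ (a : V) (ha : polar Q w a = 0), (g : OQ Q) = eich hQ hw ha}
  mul_mem' := by
    rintro g g' ⟨a, ha, e⟩ ⟨b, hb, e'⟩
    exact ⟨a + b, _, by rw [Subgroup.coe_mul, e, e', eich_mul]⟩
  one_mem' := ⟨0, QuadraticMap.polar_zero_right _ _, (eich_zero_right hQ hw).symm⟩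
  inv_mem' := by
    rintro g ⟨a, ha, e⟩
    exact ⟨-a, _, by rw [Subgroup.coe_inv, e, eich_inv]⟩

theorem eichSub_congr {w w' : V} (hw : Q w = 0) (h : w = w') :
    eichSub hQ hw = eichSub hQ (w := w') (h ▸ hw) := by
  subst h; rfl

theorem eichSub_smul {w : V} (hw : Q w = 0) {c : F} (hc : c ≠ 0) :
    eichSub hQ (w := c • w) (by rw [apply_smul, hw, mul_zero]) = eichSub hQ hw := by
  ext g
  constructor
  · rintro ⟨a, ha, e⟩
    have ha' : polar Q w a = 0 := by
      rw [polar_smul_left'] at ha
      exact (mul_eq_zero.1 ha).resolve_left hc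
    exact ⟨c • a, _, e.trans (eich_smul_left hQ hw ha' c)⟩
  · rintro ⟨a, ha, e⟩
    refine ⟨c⁻¹ • a, by rw [polar_smul_left', polar_smul_right', ha, mul_zero, mul_zero], ?_⟩
    rw [e, eich_smul_left hQ hw (a := c⁻¹ • a) (by rw [polar_smul_right', ha, mul_zero]) c]
    exact eich_congr hQ rfl (smul_inv_smul₀ hc a).symm

theorem eichSub_conj (g : commutator (OQ Q)) {w : V} (hw : Q w = 0) :
    eichSub hQ (w := ((g : OQ Q) : V ≃ₗ[F] V) w) (by rw [OQ.map_apply, hw]) =
      MulAut.conj g • eichSub hQ hw := by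
  ext h
  rw [Subgroup.mem_pointwise_smul_iff_inv_smul_mem, MulAut.smul_def, MulAut.inv_apply,
    MulAut.conj_symm_apply]
  constructor
  · rintro ⟨a, ha, e⟩
    refine ⟨((g : OQ Q) : V ≃ₗ[F] V).symm a, ?_, ?_⟩
    · rw [← OQ.map_polar (g : OQ Q), LinearEquiv.apply_symm_apply]; exact ha
    · rw [Subgroup.coe_mul, Subgroup.coe_mul, Subgroup.coe_inv, e]
      have h1 := eich_conj hQ ((g : OQ Q)) hw (a := ((g : OQ Q) : V ≃ₗ[F] V).symm a)
        (by rw [← OQ.map_polar (g : OQ Q), LinearEquiv.apply_symm_apply]; exact ha)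
      rw [eich_congr hQ rfl (((g : OQ Q) : V ≃ₗ[F] V).apply_symm_apply a)] at h1
      rw [← h1]
      group
  · rintro ⟨a, ha, e⟩
    refine ⟨((g : OQ Q) : V ≃ₗ[F] V) a, by rw [OQ.map_polar]; exact ha, ?_⟩
    rw [← eich_conj hQ (g : OQ Q) hw ha, ← e, Subgroup.coe_mul, Subgroup.coe_mul, Subgroup.coe_inv]
    group

/-- The central quotient of `Ω` is simple in dimension at least seven. -/
theorem isSimpleGroup_Omega_quotient (hn : 7 ≤ Module.finrank F V) :
    IsSimpleGroup (commutator (OQ Q) ⧸ Subgroup.center (commutator (OQ Q))) := by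
  have hn5 : 5 ≤ Module.finrank F V := by omega
  have := isPreprimitive_singPts hQ hn
  have hrep : ∀ p : singPts Q, Q p.1.rep = 0 := fun p => p.2
  have hT : ∀ {w : V} (hw : Q w = 0) (hw0 : w ≠ 0),
      eichSub hQ (hrep (sPt hw hw0)) = eichSub hQ hw := by
    intro w hw hw0
    obtain ⟨a, ha⟩ := Projectivization.exists_smul_eq_mk_rep F w hw0
    rw [eichSub_congr hQ (hrep (sPt hw hw0))
      (show (sPt hw hw0).1.rep = (a : F) • w from ha.symm)]
    exact eichSub_smul hQ hw a.ne_zero
  let I : MulAction.IwasawaStructure (commutator (OQ Q)) (singPts Q) :=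
    { T := fun p => eichSub hQ (hrep p)
      is_comm := fun p => ⟨⟨by
        rintro ⟨g, a, ha, e⟩ ⟨g', b, hb, e'⟩
        apply Subtype.ext
        apply Subtype.ext
        show (g : OQ Q) * (g' : OQ Q) = (g' : OQ Q) * (g : OQ Q)
        rw [e, e', eich_mul, eich_mul]
        exact eich_congr hQ rfl (add_comm a b)⟩⟩
      is_conj := fun g p => by
        obtain ⟨w, hw, hw0, rfl⟩ := exists_sPt hQ p
        have hgw : ((g : OQ Q) : V ≃ₗ[F] V) w ≠ 0 := by simpa using hw0
        rw [smul_sPt hQ g hw hw0 (v := ((g : OQ Q) : V ≃ₗ[F] V) w) (by rw [OQ.map_apply, hw]) hgw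
          (c := 1) (by rw [one_smul]), hT, hT]
        exact eichSub_conj hQ g hw
      is_generator := by
        rw [eq_top_iff]
        rintro g -
        have hle : eichGroup hQ ≤ (⨆ p : singPts Q, eichSub hQ (hrep p)).map
            (commutator (OQ Q)).subtype := by
          refine (Subgroup.closure_le _).2 ?_
          rintro _ ⟨w, a, hw, ha, hqa, rfl⟩
          refine ⟨eichΩ hQ hn5 hw ha, ?_, rfl⟩
          by_cases hw0 : w = 0
          · subst hw0
            have : eichΩ hQ hn5 hw ha = 1 := Subtype.ext (eich_zero_left hQ)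
            rw [this]
            exact one_mem _
          refine Subgroup.mem_iSup_of_mem (sPt hw hw0) ?_
          rw [hT hw hw0]
          exact ⟨a, ha, rfl⟩
        have hg : (g : OQ Q) ∈ eichGroup hQ := by
          rw [eichGroup_eq_commutator hQ hn5]; exact g.2
        obtain ⟨g', hg', e⟩ := hle hg
        rwa [Subtype.ext e] at hg' }
  refine isSimpleGroup_quotient_center_of_iwasawa I (commutator_Omega_eq_top hQ hn) ?_ ?_
  · obtain ⟨u, hu0, hu⟩ := exists_singular hQ (by omega)
    obtain ⟨x, y, hx, hy, hux, huy, hxy⟩ := exists_singular_pair_perp hQ hn5 hu0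
    refine ⟨eichΩ hQ hn5 hu hux, fun h => ?_⟩
    obtain ⟨c, -, hc⟩ := (center_Omega_iff hQ hn5).1 h
    have h1 : (eich hQ hu hux : V ≃ₗ[F] V) y = c • y := hc y
    rw [eich_apply, QuadraticMap.polar_comm (⇑Q) y x, hxy, QuadraticMap.polar_comm (⇑Q) y u,
      huy] at h1
    have h2 := congrArg (polar Q x) h1
    simp only [polar_add_right', polar_smul_right', hxy, QuadraticMap.polar_comm (⇑Q) x u, hux,
      polar_self', hx] at h2
    have hc1 : c = 1 := by linear_combination -h2
    rw [hc1] at h1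
    simp at h1
    exact hu0 h1
  · intro g hg
    refine (center_Omega_iff hQ hn5).2 (scalar_of_fix_singular_lines hQ hn5 fun w hw => ?_)
    by_cases hw0 : w = 0
    · exact ⟨0, by rw [hw0, map_zero, zero_smul]⟩
    have hgw : ((g : OQ Q) : V ≃ₗ[F] V) w ≠ 0 := by simpa using hw0
    have h1 := (smul_sPt hQ g hw hw0 (v := ((g : OQ Q) : V ≃ₗ[F] V) w) (by rw [OQ.map_apply, hw]) hgw
      (c := 1) (by rw [one_smul])).symm.trans (hg _)
    obtain ⟨a, ha⟩ := (sPt_eq_iff hQ _ hgw hw hw0).1 h1
    exact ⟨a, ha.symm⟩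

end CfsgLib.Classical.Quad
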