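import Cfsg.Agent.Lib.Classical.Quad.SimilarityOuter
import Cfsg.Agent.Lib.Classical.Quad.TwoFamilies

/-!
The action of similarities of a hyperbolic form on the two classes of maximal singular subspaces,
and the spinor norm of an isometry without fixed vectors.
-/

set_option autoImplicit false

namespace CfsgLib.Classical.Quad

open QuadraticMap (polar polarBilin)
open scoped Matrix

variable {F : Type*} [Field F] {ι : Type} [Fintype ι] [DecidableEq ι] {Q : QuadraticForm F (ι → F)}
  {k : ℕ}

/-- A similarity as a linear automorphism. -/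
noncomputable def simEquiv (g : simGrp Q) : (ι → F) ≃ₗ[F] (ι → F) :=
  LinearEquiv.ofLinearMap (Matrix.toLin' (simMat g)) (Matrix.toLin' (simMat g⁻¹))
    (by
      rw [← Matrix.toLin'_mul, show simMat g * simMat g⁻¹ = 1 by
        simp [simMat, ← Units.val_mul], Matrix.toLin'_one])
    (by
      rw [← Matrix.toLin'_mul, show simMat g⁻¹ * simMat g = 1 by
        simp [simMat, ← Units.val_mul], Matrix.toLin'_one])

theorem simEquiv_apply (g : simGrp Q) (v : ι → F) : simEquiv g v = simMat g *ᵥ v := rfl

theorem imageSubmodule_eq (g : simGrp Q) (U : Submodule F (ι → F)) :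
    Cfsg.imageSubmodule (simMat g) U = U.map (simEquiv g : (ι → F) →ₗ[F] (ι → F)) := rfl

theorem finrank_image (g : simGrp Q) (U : Submodule F (ι → F)) :
    Module.finrank F (Cfsg.imageSubmodule (simMat g) U) = Module.finrank F U := by
  rw [imageSubmodule_eq]
  exact LinearEquiv.finrank_map_eq (simEquiv g) U

theorem finrank_image_inf (g : simGrp Q) (U W : Submodule F (ι → F)) :
    Module.finrank F ↥(Cfsg.imageSubmodule (simMat g) U ⊓ Cfsg.imageSubmodule (simMat g) W) =
      Module.finrank F ↥(U ⊓ W) := by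
  rw [imageSubmodule_eq, imageSubmodule_eq, ← Submodule.map_inf _ (simEquiv g).injective]
  exact LinearEquiv.finrank_map_eq (simEquiv g) _

theorem image_mul (g h : simGrp Q) (U : Submodule F (ι → F)) :
    Cfsg.imageSubmodule (simMat (g * h)) U =
      Cfsg.imageSubmodule (simMat g) (Cfsg.imageSubmodule (simMat h) U) := by
  rw [Cfsg.imageSubmodule, Cfsg.imageSubmodule, Cfsg.imageSubmodule, ← Submodule.map_comp,
    ← Matrix.toLin'_mul]
  rfl

theorem isSing_image {U : Submodule F (ι → F)} (hU : IsSing Q k U) (g : simGrp Q) :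
    IsSing Q k (Cfsg.imageSubmodule (simMat g) U) := by
  refine ⟨by rw [finrank_image, hU.1], ?_⟩
  rintro _ ⟨u, hu, rfl⟩
  rw [Matrix.toLin'_apply, simMult_spec, hU.2 u hu, mul_zero]

/-- The spinor norm of an isometry without fixed vectors. -/
theorem spinO_eq_of_fixed_point_free [Finite F] (H : EvenForm Q k)
    (h : ↥(Cfsg.isometryGroup F (⇑Q))) (hd : (1 - ((h : GL ι F) : Matrix ι ι F)).det ≠ 0) :
    spinO H h = sqc ((1 - ((h : GL ι F) : Matrix ι ι F)).det *
      (LinearMap.BilinForm.toMatrix (Pi.basisFun F ι) (polarBilin Q)).det) := by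
  set D : Matrix ι ι F := 1 - ((h : GL ι F) : Matrix ι ι F) with hD
  set G := (LinearMap.BilinForm.toMatrix (Pi.basisFun F ι) (polarBilin Q)) with hG
  have hinv : D * D⁻¹ = 1 := Matrix.mul_nonsing_inv D (Ne.isUnit hd)
  let x : ι → ι → F := fun i => Pi.single i 1
  let z : ι → ι → F := fun i => D⁻¹ *ᵥ x i
  have hmm : ∀ y, movMap (oEquiv Q h) y = D *ᵥ y := fun y => by
    rw [movMap_apply, oEquiv_apply, hD, Matrix.sub_mulVec, Matrix.one_mulVec]
  have hmov : mov (oEquiv Q h) = ⊤ := eq_top_iff.2 fun y _ =>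
    ⟨D⁻¹ *ᵥ y, by rw [hmm, Matrix.mulVec_mulVec, hinv, Matrix.one_mulVec]⟩
  show spinor (oEquiv Q h) = _
  have hspin : spinor (oEquiv Q h) = sqc (wallMat Q x z).det := by
    refine spinor_eq H.nondeg _ (z := z) ?_ ?_ fun i => ?_
    · rw [Fintype.linearIndependent_iff]
      intro c hc i
      have h' := congrFun hc i
      simpa [x, Finset.sum_apply, Pi.single_apply] using h'
    · rw [hmov, ← (Pi.basisFun F ι).span_eq]
      congr 2
      funext i; simp [x]
    · rw [hmm, Matrix.mulVec_mulVec, hinv, Matrix.one_mulVec]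
  have hM : wallMat Q x z = (D⁻¹)ᵀ * G := by
    ext i j
    rw [wallMat, Matrix.of_apply, show z i = ∑ l, D⁻¹ l i • x l by
      funext r
      simp [z, x, Finset.sum_apply, Pi.single_apply], ← QuadraticMap.polarBilin_apply_apply,
      map_sum, LinearMap.sum_apply, Matrix.mul_apply]
    refine Finset.sum_congr rfl fun l _ => ?_
    simp [x, hG, LinearMap.BilinForm.toMatrix_apply]
  have hG0 : G.det ≠ 0 := (LinearMap.BilinForm.nondegenerate_iff_det_ne_zero _).1 H.nondeg
  rw [hspin, hM, Matrix.det_mul, Matrix.det_transpose, Matrix.det_nonsing_inv,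
    Ring.inverse_eq_inv', ← sqc_sq_mul hd (mul_ne_zero (inv_ne_zero hd) hG0)]
  congr 1
  field_simp

/-! ### The parity of a similarity -/

variable [Finite F] (H : EvenForm Q k) {T : Submodule F (ι → F)} (hT : IsSing Q k T)
include H hT

omit [Finite F] in
theorem finrank_pi_eq : Module.finrank F (ι → F) = 2 * k := by rw [Module.finrank_pi, H.card_eq]

omit [Finite F] in
theorem isSing_of_isMax {U : Submodule F (ι → F)} (hU : Cfsg.IsMaxTotallySingular (⇑Q) U) :
    IsSing Q k U := by
  have hle : Module.finrank F U ≤ k := by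
    have := two_mul_finrank_le H.nondeg (W := U) hU.1
    rw [finrank_pi_eq H hT] at this
    omega
  exact ⟨by rw [finrank_eq_of_maximal H.nondeg hU.1 hT.2 (fun W h1 h2 => hU.2 W h2 h1)
    (by rw [hT.1]; exact hle), hT.1], hU.1⟩

omit [Finite F] in
theorem isMax_of_isSing {U : Submodule F (ι → F)} (hU : IsSing Q k U) :
    Cfsg.IsMaxTotallySingular (⇑Q) U := by
  refine ⟨hU.2, fun W hW hle => ?_⟩
  have h := two_mul_finrank_le H.nondeg (W := W) hW
  rw [finrank_pi_eq H hT] at h
  exact (Submodule.eq_of_le_of_finrank_le hle (by rw [hU.1]; omega)).symm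

/-- Parity of the codimension of `T ∩ g T` in `T`. -/
noncomputable def parityBit : simGrp Q →* Multiplicative (ZMod 2) :=
  MonoidHom.mk' (fun g => Multiplicative.ofAdd
    ((k - Module.finrank F ↥(T ⊓ Cfsg.imageSubmodule (simMat g) T) : ℕ) : ZMod 2)) fun g h => by
      have hg := isSing_image hT g
      have hgh := isSing_image (isSing_image hT h) g
      have h3 := even_three H.nondeg (finrank_pi_eq H hT) hT hg hgh
      rw [finrank_image_inf] at h3
      have h4 := ZMod.natCast_eq_zero_iff_even.2 h3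
      push_cast at h4
      rw [← ofAdd_add, image_mul]
      congr 1
      generalize ((k - Module.finrank F ↥(T ⊓ Cfsg.imageSubmodule (simMat g) T) : ℕ) : ZMod 2) = a at *
      generalize ((k - Module.finrank F ↥(T ⊓ Cfsg.imageSubmodule (simMat h) T) : ℕ) : ZMod 2) = b at *
      generalize ((k - Module.finrank F ↥(T ⊓ Cfsg.imageSubmodule (simMat g)
        (Cfsg.imageSubmodule (simMat h) T)) : ℕ) : ZMod 2) = c at *
      revert a b c
      decide

omit [Finite F] in
theorem parityBit_eq_one_iff (g : simGrp Q) :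
    parityBit H hT g = 1 ↔ Even (k - Module.finrank F ↥(T ⊓ Cfsg.imageSubmodule (simMat g) T)) := by
  show Multiplicative.ofAdd _ = 1 ↔ _
  rw [ofAdd_eq_one, ZMod.natCast_eq_zero_iff_even]

omit [Finite F] in
theorem preserves_iff_parityBit (g : simGrp Q) :
    Cfsg.PreservesSingularClasses (⇑Q) (simMat g) ↔ parityBit H hT g = 1 := by
  rw [parityBit_eq_one_iff]
  constructor
  · intro h
    have h1 := h T (isMax_of_isSing H hT hT)
    rwa [Cfsg.SameParityClass, hT.1] at h1
  · intro h U hU
    have hU' := isSing_of_isMax H hT hU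
    have hV := finrank_pi_eq H hT
    have h1 := even_three H.nondeg hV hU' hT (isSing_image hT g)
    have h2 := even_three H.nondeg hV hU' (isSing_image hT g) (isSing_image hU' g)
    rw [finrank_image_inf, inf_comm T U] at h2
    rw [Cfsg.SameParityClass, hU'.1]
    rw [Nat.even_iff] at h h1 h2 ⊢
    omega

omit [Finite F] in
theorem parityBit_of_image_eq (g : simGrp Q) (h : Cfsg.imageSubmodule (simMat g) T = T) :
    parityBit H hT g = 1 := by
  rw [parityBit_eq_one_iff, h, inf_idem, hT.1]
  simp

omit [Finite F] in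
theorem parityBit_rO {v : ι → F} (hv : Q v ≠ 0) :
    parityBit H hT (Subgroup.inclusion (isometry_le_sim Q) (rO hv)) = Multiplicative.ofAdd 1 := by
  refine (zmod_two_mult_cases _).resolve_left fun h => ?_
  rw [parityBit_eq_one_iff] at h
  let φ : T →ₗ[F] F := ((polarBilin Q) v).comp T.subtype
  have hφ : ∀ w : T, φ w = polar Q v (w : ι → F) := fun _ => rfl
  obtain ⟨w₀, hw₀⟩ : ∃ w : T, φ w ≠ 0 := by
    by_contra! hc
    refine hv (hT.2 v (hT.mem_of_polar H.nondeg (finrank_pi_eq H hT) fun w hw => ?_))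
    rw [QuadraticMap.polar_comm]
    exact hc ⟨w, hw⟩
  have hk : Module.finrank F ((LinearMap.ker φ).map T.subtype) + 1 = k := by
    rw [Submodule.finrank_map_subtype_eq, ← hT.1, ← LinearMap.finrank_range_add_finrank_ker φ,
      LinearMap.range_eq_top.2 (fun c => ⟨(c / φ w₀) • w₀, by simp [div_mul_cancel₀ _ hw₀]⟩),
      finrank_top, Module.finrank_self]
    ring
  have heq : T ⊓ Cfsg.imageSubmodule (simMat (Subgroup.inclusion (isometry_le_sim Q) (rO hv))) T =
      (LinearMap.ker φ).map T.subtype := by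
    ext y
    constructor
    · rintro ⟨hy, x, hx, rfl⟩
      have e : Matrix.toLin' (simMat (Subgroup.inclusion (isometry_le_sim Q) (rO hv))) x =
          x - ((Q v)⁻¹ * polar Q x v) • v := by
        rw [Matrix.toLin'_apply]
        exact (rO_mulVec hv x).trans (reflMap_apply v x)
      rw [e] at hy ⊢
      have hc : (Q v)⁻¹ * polar Q x v = 0 := by
        by_contra hc
        refine hv (hT.2 v ?_)
        have := T.smul_mem ((Q v)⁻¹ * polar Q x v)⁻¹ (T.sub_mem hx hy)
        rwa [sub_sub_cancel, inv_smul_smul₀ hc] at this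
      refine ⟨⟨x, hx⟩, ?_, by simp [hc]⟩
      show polar Q v x = 0
      rw [QuadraticMap.polar_comm]
      exact (mul_eq_zero.1 hc).resolve_left (inv_ne_zero hv)
    · rintro ⟨x, hx, rfl⟩
      refine ⟨x.2, x, x.2, ?_⟩
      rw [Matrix.toLin'_apply]
      refine (rO_mulVec hv _).trans (reflMap_perp ?_)
      rw [QuadraticMap.polar_comm]
      exact hx
  rw [heq, show k - Module.finrank F ((LinearMap.ker φ).map T.subtype) = 1 by omega] at h
  exact Nat.not_even_one h

omit [Finite F] in
theorem parityBit_incl (h : ↥(Cfsg.isometryGroup F (⇑Q))) :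
    parityBit H hT (Subgroup.inclusion (isometry_le_sim Q) h) = 1 ↔
      Matrix.GeneralLinearGroup.det (h : GL ι F) = 1 := by
  have hR := reflGroup_pi_eq_top H.nondeg (hex_of_two_ne_zero H.two_ne (n := Fintype.card ι))
  have key : ((parityBit H hT).comp (Subgroup.inclusion (isometry_le_sim Q))).comp
      (oEquiv Q).symm.toMonoidHom = (MonoidHom.fst _ _).comp (invHom H.nondeg hR) := by
    refine MonoidHom.eq_of_eqOn_dense
      (s := {r | ∃ (v : ι → F) (hv : Q v ≠ 0), r = refl hv}) hR ?_
    rintro _ ⟨v, hv, rfl⟩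
    simp only [MonoidHom.coe_comp, Function.comp_apply, MulEquiv.coe_toMonoidHom, invHom_refl,
      MonoidHom.coe_fst]
    exact parityBit_rO H hT hv
  have h1 := DFunLike.congr_fun key (oEquiv Q h)
  simp only [MonoidHom.coe_comp, Function.comp_apply, MulEquiv.coe_toMonoidHom,
    MulEquiv.symm_apply_apply] at h1
  rw [h1]
  show (invariants (oEquiv Q h)).1 = 1 ↔ _
  rw [parity_iff_det H, Units.ext_iff, Units.ext_iff, Matrix.GeneralLinearGroup.val_det_apply,
    LinearEquiv.coe_det, ← LinearMap.det_toLin']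
  rfl

theorem parityBit_scalar {z : simGrp Q} (hz : z ∈ (conjAut Q).ker) : parityBit H hT z = 1 := by
  rw [ker_conjAut H.nondeg H.seven_le] at hz
  obtain ⟨c, hc⟩ := (Cfsg.Geo.mem_scalars_iff _).1 hz
  have hc' : simMat z = (c : F) • 1 := hc
  refine parityBit_of_image_eq H hT z ?_
  rw [Cfsg.imageSubmodule, hc', map_smul, Matrix.toLin'_one, Submodule.map_smul _ _ _ c.ne_zero,
    Submodule.map_id]

theorem preserves_iff_of_square (g : simGrp Q) (hg : IsSquare ((simMult g : Fˣ) : F)) :
    Cfsg.PreservesSingularClasses (⇑Q) (simMat g) ↔ sgnHom H g = 1 := by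
  rw [preserves_iff_parityBit H hT]
  have hle : (phi0 H).ker ≤ (parityBit H hT).ker := by
    rw [ker_phi0]
    refine sup_le (fun x hx => ?_) (fun x hx => parityBit_scalar H hT hx)
    obtain ⟨h, hd, rfl⟩ := soS_elem H x hx
    exact (parityBit_incl H hT h).2 hd
  constructor
  · intro hp
    rcases sgnHom_cases H g with hs | hs
    · exact hs
    exfalso
    obtain ⟨v, hv⟩ := H.exists_ne
    set r := Subgroup.inclusion (isometry_le_sim Q) (rO hv)
    have h1 : g * r ∈ (phi0 H).ker := by
      refine (phi0_eq_one_iff H _).2 ⟨?_, ?_⟩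
      · show IsSquare ((multHom H (g * r) : Fˣ) : F)
        rw [map_mul]
        show IsSquare (((simMult g * simMult r : Fˣ)) : F)
        rw [mult_incl H, mul_one]
        exact hg
      · rw [map_mul, hs, sgn_incl H, det_rO, neg_one_mul, neg_neg]
    have h2 : parityBit H hT (g * r) = 1 := hle h1
    rw [map_mul, hp, one_mul, parityBit_rO H hT hv] at h2
    revert h2
    decide
  · exact fun hs => hle ((phi0_eq_one_iff H g).2 ⟨hg, hs⟩)

theorem preserves_iff_of_delta (δ : simGrp Q) (hδm : ¬ IsSquare ((simMult δ : Fˣ) : F))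
    (hδs : sgnHom H δ = 1) (hδT : Cfsg.imageSubmodule (simMat δ) T = T) (g : simGrp Q) :
    Cfsg.PreservesSingularClasses (⇑Q) (simMat g) ↔ sgnHom H g = 1 := by
  by_cases hg : IsSquare ((simMult g : Fˣ) : F)
  · exact preserves_iff_of_square H hT g hg
  have h : multBit H (g * δ) = 1 := by
    rw [map_mul, (zmod_two_mult_cases (multBit H g)).resolve_left fun h => hg ((multBit_eq_one_iff H g).1 h),
      (zmod_two_mult_cases (multBit H δ)).resolve_left fun h => hδm ((multBit_eq_one_iff H δ).1 h)]
    decide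
  have h1 := preserves_iff_of_square H hT (g * δ) ((multBit_eq_one_iff H _).1 h)
  rw [preserves_iff_parityBit H hT, map_mul, parityBit_of_image_eq H hT δ hδT, mul_one,
    map_mul, hδs, mul_one] at h1
  rw [preserves_iff_parityBit H hT]
  exact h1

end CfsgLib.Classical.Quad
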