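import Cfsg.Agent.Lib.Classical.Quad.Matrix

/-!
Generation of the isometry group by reflections, for every field, apart from dimension four over
the field with two elements.
-/

set_option autoImplicit false

namespace CfsgLib.Classical.Quad

open QuadraticMap (polar polarBilin)

variable {F : Type*} [Field F] {V : Type*} [AddCommGroup V] [Module F V]

/-- The subgroup generated by the reflections. -/
def reflGroup (Q : QuadraticForm F V) : Subgroup (OQ Q) :=
  Subgroup.closure {g | ∃ (v : V) (hv : Q v ≠ 0), g = refl hv}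

variable {Q : QuadraticForm F V}

theorem refl_mem_reflGroup {v : V} (hv : Q v ≠ 0) : refl hv ∈ reflGroup Q :=
  Subgroup.subset_closure ⟨v, hv, rfl⟩

theorem refl_mul_refl_apply {u v : V} (hu : Q u ≠ 0) (hv : Q v ≠ 0) (z : V) :
    ((refl hu * refl hv : OQ Q) : V ≃ₗ[F] V) z =
      (refl hu : V ≃ₗ[F] V) ((refl hv : V ≃ₗ[F] V) z) := rfl

theorem eichler_eq_refl_mul {w a : V} (hw : Q w = 0) (haw : polar Q w a = 0) (ha : Q a ≠ 0)
    {g : OQ Q} (hg : ∀ z, (g : V ≃ₗ[F] V) z =
      z + (polar Q z a - Q a * polar Q z w) • w + (-polar Q z w) • a) : g ∈ reflGroup Q := by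
  have haw' : polar Q a w = 0 := by rw [QuadraticMap.polar_comm]; exact haw
  have hb : Q (a + (-Q a) • w) ≠ 0 := by
    rw [apply_add, apply_smul, polar_smul_right', haw', hw]
    simpa using ha
  have : g = refl ha * refl hb := by
    refine Subtype.ext (LinearEquiv.ext fun z => ?_)
    rw [refl_mul_refl_apply, refl_apply hb, refl_apply ha, hg]
    simp only [apply_add, apply_smul, polar_add_right', polar_smul_right', hw, haw',
      QuadraticMap.polar_sub_left, polar_smul_left', polar_add_left', polar_self']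
    rw [QuadraticMap.polar_comm (⇑Q) w a, haw']
    match_scalars <;> field_simp <;> ring
  rw [this]
  exact mul_mem (refl_mem_reflGroup ha) (refl_mem_reflGroup hb)

theorem dilation_mem_reflGroup {w w' : V} (hw : Q w = 0) (hw' : Q w' = 0) (h : polar Q w w' = 1)
    {d : F} (hd : d ≠ 0) {g : OQ Q} (hg : ∀ z, (g : V ≃ₗ[F] V) z =
      z + ((d - 1) * polar Q z w') • w + ((d⁻¹ - 1) * polar Q z w) • w') : g ∈ reflGroup Q := by
  have h' : polar Q w' w = 1 := by rw [QuadraticMap.polar_comm]; exact h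
  have hQ : ∀ t : F, Q (w + t • w') = t := fun t => by
    rw [apply_add, apply_smul, polar_smul_right', hw, hw', h]; ring
  have hu : Q (w + (1 : F) • w') ≠ 0 := by rw [hQ]; exact one_ne_zero
  have hv : Q (w + d⁻¹ • w') ≠ 0 := by rw [hQ]; exact inv_ne_zero hd
  have : g = refl hv * refl hu := by
    refine Subtype.ext (LinearEquiv.ext fun z => ?_)
    rw [refl_mul_refl_apply, refl_apply hu, refl_apply hv, hg]
    simp only [hQ, polar_add_right', polar_smul_right', QuadraticMap.polar_sub_left,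
      polar_smul_left', polar_add_left', polar_self', hw, hw', h, h']
    match_scalars <;> field_simp <;> ring
  rw [this]
  exact mul_mem (refl_mem_reflGroup hv) (refl_mem_reflGroup hu)

variable [FiniteDimensional F V]

theorem exists_nonsingular_perp (hQ : (polarBilin Q).Nondegenerate) (W : Submodule F V)
    (hW : 2 * Module.finrank F W < Module.finrank F V) :
    ∃ b, Q b ≠ 0 ∧ ∀ u ∈ W, polar Q u b = 0 := by
  by_contra hc
  push Not at hc
  have hs : ∀ b ∈ LinearMap.BilinForm.orthogonal (polarBilin Q) W, Q b = 0 := fun b hb => by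
    by_contra h0
    obtain ⟨u, hu, hne⟩ := hc b h0
    exact hne (hb u hu)
  have h1 := two_mul_finrank_le hQ hs
  rw [LinearMap.BilinForm.finrank_orthogonal hQ] at h1
  have h2 := Submodule.finrank_le W
  omega

theorem eichler_mem_reflGroup (hQ : (polarBilin Q).Nondegenerate)
    (hex : (∃ c : F, c ≠ 0 ∧ c ≠ 1) ∨ Module.finrank F V ≠ 4) {w a : V} (hw : Q w = 0)
    (haw : polar Q w a = 0) {g : OQ Q} (hg : ∀ z, (g : V ≃ₗ[F] V) z =
      z + (polar Q z a - Q a * polar Q z w) • w + (-polar Q z w) • a) : g ∈ reflGroup Q := by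
  by_cases ha : Q a = 0
  swap
  · exact eichler_eq_refl_mul hw haw ha hg
  by_cases hspan : ∃ c : F, a = c • w
  · obtain ⟨c, rfl⟩ := hspan
    have : g = 1 := Subtype.ext (LinearEquiv.ext fun z => by
      rw [hg, apply_smul, hw, polar_smul_right']
      show _ = z
      module)
    rw [this]
    exact one_mem _
  push Not at hspan
  by_cases hw0 : w = 0
  · subst hw0
    have : g = 1 := Subtype.ext (LinearEquiv.ext fun z => by
      rw [hg]
      simp)
    rw [this]
    exact one_mem _
  have hli : LinearIndependent F ![w, a] :=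
    LinearIndependent.pair_iff.2 fun s t hst => by
      by_cases ht : t = 0
      · refine ⟨?_, ht⟩
        rw [ht, zero_smul, add_zero] at hst
        exact (smul_eq_zero.1 hst).resolve_right hw0
      · refine absurd ?_ (hspan (-(s / t)))
        have h1 : t • a = -(s • w) := eq_neg_of_add_eq_zero_right hst
        calc a = t⁻¹ • (t • a) := by rw [inv_smul_smul₀ ht]
          _ = -(s / t) • w := by rw [h1, smul_neg, smul_smul, neg_smul, div_eq_inv_mul]
  let P := Submodule.span F (Set.range ![w, a])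
  have hP : Module.finrank F P = 2 := by rw [finrank_span_eq_card hli, Fintype.card_fin]
  have hPs : ∀ x ∈ P, Q x = 0 := by
    intro x hx
    obtain ⟨r, rfl⟩ := (Submodule.mem_span_range_iff_exists_fun F).1 hx
    rw [Fin.sum_univ_two]
    simp [apply_add, apply_smul, polar_smul_left', polar_smul_right', hw, ha, haw]
  have hn4 := two_mul_finrank_le hQ hPs
  have hbex : ∃ b, Q b ≠ 0 ∧ polar Q w b = 0 ∧ Q b - polar Q a b ≠ 0 := by
    rcases hex with ⟨c, hc0, hc1⟩ | hn
    · obtain ⟨b, hb, hbw⟩ := exists_nonsingular_perp hQ (Submodule.span F {w})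
        (by rw [finrank_span_singleton hw0]; omega)
      have hwb := hbw w (Submodule.mem_span_singleton_self w)
      by_cases h1 : Q b - polar Q a b = 0
      · refine ⟨c • b, ?_, ?_, ?_⟩
        · rw [apply_smul]; exact mul_ne_zero (mul_ne_zero hc0 hc0) hb
        · rw [polar_smul_right', hwb, mul_zero]
        · rw [apply_smul, polar_smul_right', ← sub_eq_zero.1 h1,
            show c * c * Q b - c * Q b = (c * (c - 1)) * Q b by ring]
          exact mul_ne_zero (mul_ne_zero hc0 (sub_ne_zero.2 hc1)) hb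
      · exact ⟨b, hb, hwb, h1⟩
    · obtain ⟨b, hb, hbP⟩ := exists_nonsingular_perp hQ P (by omega)
      exact ⟨b, hb, hbP w (Submodule.subset_span ⟨0, rfl⟩), by
        rw [hbP a (Submodule.subset_span ⟨1, rfl⟩), sub_zero]; exact hb⟩
  obtain ⟨b, hb, hwb, hab⟩ := hbex
  have hwb' : polar Q w (a - b) = 0 := by rw [QuadraticMap.polar_sub_right, haw, hwb, sub_zero]
  have hQab : Q (a - b) ≠ 0 := by
    rw [sub_eq_add_neg, ← neg_one_smul F b, apply_add, apply_smul, polar_smul_right', ha]
    convert hab using 1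
    ring
  obtain ⟨g₁, hg₁⟩ := exists_eichler hQ hw hwb
  obtain ⟨g₂, hg₂⟩ := exists_eichler hQ hw hwb'
  have : g = g₁ * g₂ := by
    refine Subtype.ext (LinearEquiv.ext fun z => ?_)
    show _ = (g₁ : V ≃ₗ[F] V) ((g₂ : V ≃ₗ[F] V) z)
    rw [hg, hg₂, hg₁]
    simp only [sub_eq_add_neg, ← neg_one_smul F b, apply_add, apply_smul, polar_add_right',
      polar_smul_right', polar_add_left', polar_smul_left', polar_self', hw, ha, haw, hwb,
      QuadraticMap.polar_comm (⇑Q) b w, QuadraticMap.polar_comm (⇑Q) a w,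
      QuadraticMap.polar_comm (⇑Q) b a]
    match_scalars <;> ring
  rw [this]
  exact mul_mem (eichler_eq_refl_mul hw hwb hb hg₁) (eichler_eq_refl_mul hw hwb' hQab hg₂)

theorem witt_step_refl (hQ : (polarBilin Q).Nondegenerate)
    (hex : (∃ c : F, c ≠ 0 ∧ c ≠ 1) ∨ Module.finrank F V ≠ 4) {U : Submodule F V} {x y : V}
    (hxU : x ∉ U) (hyU : y ∉ U) (hq : Q y = Q x) (hpol : ∀ u ∈ U, polar Q u y = polar Q u x) :
    ∃ g ∈ reflGroup Q, (∀ u ∈ U, (g : V ≃ₗ[F] V) u = u) ∧ (g : V ≃ₗ[F] V) x = y := by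
  set w := y - x with hw
  have hy : y = x + w := by rw [hw]; abel
  have hwU : ∀ u ∈ U, polar Q u w = 0 := fun u hu => by
    rw [hw, QuadraticMap.polar_sub_right, hpol u hu, sub_self]
  have hxw : polar Q x w = -Q w := by
    have h1 := apply_add (Q := Q) x w
    rw [← hy, hq] at h1
    linear_combination -h1
  by_cases hQw : Q w = 0
  swap
  · refine ⟨refl hQw, refl_mem_reflGroup hQw, fun u hu => ?_, ?_⟩
    · rw [refl_apply, hwU u hu, mul_zero, zero_smul, sub_zero]
    · rw [refl_apply, hxw, mul_neg, inv_mul_cancel₀ hQw, neg_smul, one_smul, hy, sub_neg_eq_add]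
  rw [hQw, neg_zero] at hxw
  by_cases hxs : x ∈ U ⊔ Submodule.span F {w}
  swap
  · obtain ⟨a, ha, haU⟩ := exists_sep_polar hQ hxs
    have haw := haU w (Submodule.mem_sup_right (Submodule.mem_span_singleton_self w))
    obtain ⟨g, hg⟩ := exists_eichler hQ hQw haw
    refine ⟨g, eichler_mem_reflGroup hQ hex hQw haw hg, fun u hu => ?_, ?_⟩
    · rw [hg, haU u (Submodule.mem_sup_left hu), hwU u hu]
      simp
    · rw [hg, ha, hxw, hy]
      simp
  obtain ⟨u₀, hu₀, _, hcw, e⟩ := Submodule.mem_sup.1 hxs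
  obtain ⟨c, rfl⟩ := Submodule.mem_span_singleton.1 hcw
  have hc : c ≠ 0 := fun h0 => hxU (by rw [← e, h0, zero_smul, add_zero]; exact hu₀)
  have hd : c + 1 ≠ 0 := fun h0 => hyU (by
    rw [hy, ← e, add_assoc, show c • w + w = (c + 1) • w by rw [add_smul, one_smul], h0,
      zero_smul, add_zero]
    exact hu₀)
  have hwn : w ∉ U := fun h0 => hxU (by rw [← e]; exact U.add_mem hu₀ (U.smul_mem _ h0))
  obtain ⟨w', hw', hww', hw'U⟩ := exists_singular_partner hQ hQw hwU hwn
  obtain ⟨g, hg⟩ := exists_dilation hQ hQw hw' hww' (d := (c + 1) / c) (div_ne_zero hd hc)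
  refine ⟨g, dilation_mem_reflGroup hQw hw' hww' (div_ne_zero hd hc) hg, fun u hu => ?_, ?_⟩
  · rw [hg, hw'U u hu, hwU u hu]
    simp
  · rw [hg, hxw, mul_zero, zero_smul, add_zero, hy]
    conv_lhs => rw [← e]
    rw [← e, polar_add_left', polar_smul_left', hw'U u₀ hu₀, hww']
    match_scalars <;> field_simp <;> ring

/-- The isometry group is generated by reflections. -/
theorem reflGroup_eq_top (hQ : (polarBilin Q).Nondegenerate)
    (hex : (∃ c : F, c ≠ 0 ∧ c ≠ 1) ∨ Module.finrank F V ≠ 4) : reflGroup Q = ⊤ := by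
  rw [eq_top_iff]
  rintro g -
  let b := Module.finBasis F V
  have key : ∀ k ≤ Module.finrank F V, ∃ s ∈ reflGroup Q, ∀ i : Fin (Module.finrank F V),
      (i : ℕ) < k → (s : V ≃ₗ[F] V) (b i) = (g : V ≃ₗ[F] V) (b i) := by
    intro k hk
    induction k with
    | zero => exact ⟨1, one_mem _, fun i hi => absurd hi (Nat.not_lt_zero _)⟩
    | succ k ih =>
      obtain ⟨s, hs, hsb⟩ := ih (by omega)
      let i₀ : Fin (Module.finrank F V) := ⟨k, hk⟩
      set h : OQ Q := s⁻¹ * g with hh
      have hfix : ∀ i : Fin (Module.finrank F V), (i : ℕ) < k → (h : V ≃ₗ[F] V) (b i) = b i :=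
        fun i hi => by
          show (s : V ≃ₗ[F] V).symm ((g : V ≃ₗ[F] V) (b i)) = b i
          rw [← hsb i hi, LinearEquiv.symm_apply_apply]
      let U := Submodule.span F (b '' {i | (i : ℕ) < k})
      have hU : ∀ u ∈ U, (h : V ≃ₗ[F] V) u = u := fun u hu => by
        refine LinearMap.eqOn_span (f := ((h : V ≃ₗ[F] V) : V →ₗ[F] V)) (g := LinearMap.id) ?_ hu
        rintro _ ⟨i, hi, rfl⟩
        exact hfix i hi
      have hxU : b i₀ ∉ U := fun hmem =>
        b.linearIndependent.notMem_span_image (by simp [i₀]) hmem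
      have hyU : (h : V ≃ₗ[F] V) (b i₀) ∉ U := fun hmem => hxU (by
        have h1 := hU _ hmem
        rw [(h : V ≃ₗ[F] V).injective.eq_iff] at h1
        rwa [h1] at hmem)
      obtain ⟨t, ht, htU, htx⟩ := witt_step_refl hQ hex hxU hyU (OQ.map_apply h _) fun u hu => by
        conv_lhs => rw [← hU u hu]
        rw [OQ.map_polar]
      refine ⟨s * t, mul_mem hs ht, fun i hi => ?_⟩
      show (s : V ≃ₗ[F] V) ((t : V ≃ₗ[F] V) (b i)) = _
      rcases Nat.lt_succ_iff_lt_or_eq.1 hi with hlt | heq
      · rw [htU _ (Submodule.subset_span ⟨i, hlt, rfl⟩), hsb i hlt]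
      · rw [show i = i₀ from Fin.ext heq, htx]
        exact (s : V ≃ₗ[F] V).apply_symm_apply _
  obtain ⟨s, hs, hsb⟩ := key _ le_rfl
  have : g = s := Subtype.ext (LinearEquiv.toLinearMap_injective
    (b.ext fun i => (hsb i i.2).symm))
  rwa [this]

/-! ### Matrices -/

variable {ι : Type} [Fintype ι] [DecidableEq ι]

theorem oEquiv_eq_refl_iff (Q : QuadraticForm F (ι → F)) {v : ι → F} (hv : Q v ≠ 0)
    (g : Cfsg.isometryGroup F (⇑Q)) :
    ((g : Matrix.GeneralLinearGroup ι F) : Matrix ι ι F) = Cfsg.reflectionMatrix (⇑Q) v ↔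
      oEquiv Q g = refl hv := by
  constructor
  · intro h
    refine Subtype.ext (LinearEquiv.ext fun z => ?_)
    rw [oEquiv_apply, h, reflectionMatrix_mulVec]
    rfl
  · intro h
    refine Matrix.toLin'.injective (LinearMap.ext fun z => ?_)
    rw [Matrix.toLin'_apply, Matrix.toLin'_apply, ← oEquiv_apply, h, reflectionMatrix_mulVec]
    rfl

theorem closure_reflectionMatrix_eq_top (Q : QuadraticForm F (ι → F))
    (hQ : (polarBilin Q).Nondegenerate)
    (hex : (∃ c : F, c ≠ 0 ∧ c ≠ 1) ∨ Fintype.card ι ≠ 4) :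
    Subgroup.closure {g : ↥(Cfsg.isometryGroup F ⇑Q) | ∃ v : ι → F, Q v ≠ 0 ∧
      ((g : Matrix.GeneralLinearGroup ι F) : Matrix ι ι F) = Cfsg.reflectionMatrix ⇑Q v} = ⊤ := by
  rw [eq_top_iff]
  rintro g -
  have h : oEquiv Q g ∈ reflGroup Q := by
    rw [reflGroup_eq_top hQ (hex.imp_right fun h => by rwa [Module.finrank_pi])]
    exact Subgroup.mem_top _
  have hle : reflGroup Q ≤ (Subgroup.closure {g : ↥(Cfsg.isometryGroup F ⇑Q) | ∃ v : ι → F,
      Q v ≠ 0 ∧ ((g : Matrix.GeneralLinearGroup ι F) : Matrix ι ι F) =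
        Cfsg.reflectionMatrix ⇑Q v}).map (oEquiv Q).toMonoidHom := by
    refine (Subgroup.closure_le _).2 ?_
    rintro _ ⟨v, hv, rfl⟩
    exact ⟨(oEquiv Q).symm (refl hv), Subgroup.subset_closure ⟨v, hv,
      (oEquiv_eq_refl_iff Q hv _).2 (MulEquiv.apply_symm_apply _ _)⟩,
      MulEquiv.apply_symm_apply _ _⟩
  obtain ⟨g', hg', e⟩ := hle h
  rwa [← (oEquiv Q).injective e]

theorem specialIsometryGroup_eq_closure_pairs (Q : QuadraticForm F (ι → F))
    (hQ : (polarBilin Q).Nondegenerate) (h2 : (2 : F) ≠ 0) :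
    Cfsg.specialIsometryGroup F ⇑Q = Subgroup.closure {g : ↥(Cfsg.isometryGroup F ⇑Q) |
      ∃ u v : ι → F, Q u ≠ 0 ∧ Q v ≠ 0 ∧ ((g : Matrix.GeneralLinearGroup ι F) : Matrix ι ι F) =
        Cfsg.reflectionMatrix ⇑Q u * Cfsg.reflectionMatrix ⇑Q v} := by
  set P := Subgroup.closure {g : ↥(Cfsg.isometryGroup F ⇑Q) |
      ∃ u v : ι → F, Q u ≠ 0 ∧ Q v ≠ 0 ∧ ((g : Matrix.GeneralLinearGroup ι F) : Matrix ι ι F) =
        Cfsg.reflectionMatrix ⇑Q u * Cfsg.reflectionMatrix ⇑Q v} with hPdef
  let R : ∀ v, Q v ≠ 0 → ↥(Cfsg.isometryGroup F ⇑Q) := fun v hv => (oEquiv Q).symm (refl hv)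
  have hR : ∀ v hv, (((R v hv) : Matrix.GeneralLinearGroup ι F) : Matrix ι ι F) =
      Cfsg.reflectionMatrix (⇑Q) v := fun v hv =>
    (oEquiv_eq_refl_iff Q hv _).2 (MulEquiv.apply_symm_apply _ _)
  have hRR : ∀ v hv, R v hv * R v hv = 1 := fun v hv => by
    simp only [R]
    rw [← map_mul, refl_mul_self hv, map_one]
  have hpair : ∀ u hu v hv, R u hu * R v hv ∈ P := fun u hu v hv =>
    Subgroup.subset_closure ⟨u, v, hu, hv, by rw [Subgroup.coe_mul, Units.val_mul, hR, hR]⟩
  have hdetR : ∀ v (hv : Q v ≠ 0),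
      Matrix.GeneralLinearGroup.det (R v hv : Matrix.GeneralLinearGroup ι F) = -1 := fun v hv => by
    apply Units.ext
    rw [Matrix.GeneralLinearGroup.val_det_apply, hR, det_reflectionMatrix Q hv, Units.val_neg,
      Units.val_one]
  have hle : P ≤ Cfsg.specialIsometryGroup F ⇑Q := by
    refine (Subgroup.closure_le _).2 ?_
    rintro g ⟨u, v, hu, hv, hg⟩
    show Matrix.GeneralLinearGroup.det (g : Matrix.GeneralLinearGroup ι F) = 1
    apply Units.ext
    rw [Matrix.GeneralLinearGroup.val_det_apply, hg, Matrix.det_mul, det_reflectionMatrix Q hu,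
      det_reflectionMatrix Q hv, Units.val_one]
    ring
  refine le_antisymm ?_ hle
  have hgen := closure_reflectionMatrix_eq_top Q hQ
    (Or.inl ⟨-1, by simp, fun h => h2 (by linear_combination -h)⟩)
  by_cases hne : ∃ v : ι → F, Q v ≠ 0
  · obtain ⟨v₀, hv₀⟩ := hne
    set r := R v₀ hv₀ with hr
    have hrr : r * r = 1 := hRR _ _
    have hconj : ∀ x ∈ P, r * x * r ∈ P := by
      intro x hx
      refine Subgroup.closure_induction (p := fun x _ => r * x * r ∈ P) ?_ ?_ ?_ ?_ hx
      · rintro g ⟨u, v, hu, hv, hg⟩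
        have : g = R u hu * R v hv := Subtype.ext (Units.ext (by
          rw [hg, Subgroup.coe_mul, Units.val_mul, hR, hR]))
        rw [this, show r * (R u hu * R v hv) * r = (r * R u hu) * (R v hv * r) by group]
        exact mul_mem (hpair _ _ _ _) (hpair _ _ _ _)
      · rw [mul_one, hrr]; exact one_mem _
      · intro a b _ _ ha hb
        rw [show r * (a * b) * r = (r * a * r) * (r * b * r) by
          rw [show (r * a * r) * (r * b * r) = r * a * (r * r) * b * r by group, hrr]; group]
        exact mul_mem ha hb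
      · intro a _ ha
        have e : (r * a * r)⁻¹ = r * a⁻¹ * r := by
          rw [mul_inv_rev, mul_inv_rev, inv_eq_of_mul_eq_one_right hrr, ← mul_assoc]
        rw [← e]
        exact inv_mem ha
    have hcov : ∀ g, g ∈ P ∨ g * r ∈ P := by
      intro g
      have hg : g ∈ Subgroup.closure {g : ↥(Cfsg.isometryGroup F ⇑Q) | ∃ v : ι → F, Q v ≠ 0 ∧
          ((g : Matrix.GeneralLinearGroup ι F) : Matrix ι ι F) =
            Cfsg.reflectionMatrix ⇑Q v} := hgen ▸ Subgroup.mem_top g
      refine Subgroup.closure_induction (p := fun x _ => x ∈ P ∨ x * r ∈ P) ?_ ?_ ?_ ?_ hg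
      · rintro x ⟨v, hv, hx⟩
        have : x = R v hv := Subtype.ext (Units.ext (by rw [hx, hR]))
        exact Or.inr (this ▸ hpair _ _ _ _)
      · exact Or.inl (one_mem _)
      · intro a b _ _ ha hb
        rcases ha with ha | ha <;> rcases hb with hb | hb
        · exact Or.inl (mul_mem ha hb)
        · exact Or.inr (by rw [mul_assoc]; exact mul_mem ha hb)
        · right
          have : a * b * r = a * r * (r * b * r) := by
            rw [show a * r * (r * b * r) = a * (r * r) * b * r by group, hrr, mul_one]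
          rw [this]; exact mul_mem ha (hconj b hb)
        · left
          have : a * b = a * r * (r * (b * r) * r) := by
            rw [show a * r * (r * (b * r) * r) = a * (r * r) * b * (r * r) by group, hrr, mul_one,
              mul_one]
          rw [this]; exact mul_mem ha (hconj _ hb)
      · intro a _ ha
        rcases ha with ha | ha
        · exact Or.inl (inv_mem ha)
        · right
          have e := hconj _ (inv_mem ha)
          rw [mul_inv_rev, inv_eq_of_mul_eq_one_right hrr,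
            show r * (r * a⁻¹) * r = (r * r) * a⁻¹ * r by group, hrr, one_mul] at e
          exact e
    intro g hg
    rcases hcov g with h | h
    · exact h
    · exfalso
      have h1 : Matrix.GeneralLinearGroup.det
          ((g * r : ↥(Cfsg.isometryGroup F ⇑Q)) : Matrix.GeneralLinearGroup ι F) = 1 := hle h
      rw [Subgroup.coe_mul, map_mul,
        show Matrix.GeneralLinearGroup.det (g : Matrix.GeneralLinearGroup ι F) = 1 from hg,
        hdetR, one_mul] at h1
      have h3 : (-1 : F) = 1 := by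
        simpa using congrArg (fun u : Fˣ => (u : F)) h1
      exact h2 (by linear_combination -h3)
  · have hbot : ∀ g : ↥(Cfsg.isometryGroup F ⇑Q), g = 1 := by
      intro g
      have hg : g ∈ Subgroup.closure {g : ↥(Cfsg.isometryGroup F ⇑Q) | ∃ v : ι → F, Q v ≠ 0 ∧
          ((g : Matrix.GeneralLinearGroup ι F) : Matrix ι ι F) =
            Cfsg.reflectionMatrix ⇑Q v} := hgen ▸ Subgroup.mem_top g
      rw [show {g : ↥(Cfsg.isometryGroup F ⇑Q) | ∃ v : ι → F, Q v ≠ 0 ∧
          ((g : Matrix.GeneralLinearGroup ι F) : Matrix ι ι F) =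
            Cfsg.reflectionMatrix ⇑Q v} = ∅ from
        Set.eq_empty_iff_forall_notMem.2 fun x ⟨v, hv, _⟩ => hne ⟨v, hv⟩,
        Subgroup.closure_empty, Subgroup.mem_bot] at hg
      exact hg
    intro g _
    rw [hbot g]
    exact one_mem _

end CfsgLib.Classical.Quad
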