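import Cfsg.Agent.Lib.Classical.Quad.SimilarityForms
import Cfsg.Agent.Lib.Classical.Quad.SemisimpleCentralizer

/-!
Semisimple classes of odd prime order: the classes under inner, special and inner-diagonal
automorphisms of an even-dimensional orthogonal group coincide.
-/

set_option autoImplicit false

namespace CfsgLib.Classical.Quad

open QuadraticMap (polar polarBilin)
open scoped Matrix

theorem isConjUnder_iff_of_cover {X : Type*} [Group X] {K H : Subgroup X} (hle : K ≤ H) {x : X}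
    (hcov : ∀ h ∈ H, ∃ n ∈ K, Commute (n⁻¹ * h) x) (y : X) :
    Cfsg.IsConjUnder K x y ↔ Cfsg.IsConjUnder H x y := by
  constructor
  · rintro ⟨h, hh, rfl⟩
    exact ⟨h, hle hh, rfl⟩
  · rintro ⟨h, hh, rfl⟩
    obtain ⟨n, hn, hc⟩ := hcov h hh
    refine ⟨n, hn, ?_⟩
    rw [show h = n * (n⁻¹ * h) by group, mul_inv_rev, mul_assoc n (n⁻¹ * h), hc.eq]
    group

variable {F : Type*} [Field F] {ι : Type} [Fintype ι] [DecidableEq ι]
  {Q : QuadraticForm F (ι → F)} {k : ℕ}

/-- The isometries, among the similarities. -/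
abbrev isoS (Q : QuadraticForm F (ι → F)) : Subgroup (simGrp Q) :=
  (Cfsg.isometryGroup F (⇑Q)).subgroupOf (simGrp Q)

theorem poAut_eq (Q : QuadraticForm F (ι → F)) :
    Cfsg.poAut F (⇑Q) = (isoS Q).map (conjAut Q) := by
  rw [Cfsg.poAut, autSubgroupOf_eq (isoS Q)]
  exact fun β => ⟨fun ⟨g, hg, h⟩ => ⟨⟨g, isometry_le_sim Q hg⟩, hg, h⟩,
    fun ⟨g, hg, h⟩ => ⟨g, hg, h⟩⟩

variable [Finite F] (H : EvenForm Q k)
include H

theorem commute_rO_of_fix (h : ↥(Cfsg.isometryGroup F (⇑Q))) {v : ι → F} (hv : Q v ≠ 0)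
    (hfix : ((h : GL ι F) : Matrix ι ι F) *ᵥ v = v) : Commute (rO hv) h := by
  have hm : simMat (Subgroup.inclusion (isometry_le_sim Q) h) *ᵥ v = v := hfix
  have hv' : Q (simMat (Subgroup.inclusion (isometry_le_sim Q) h) *ᵥ v) ≠ 0 := by rw [hm]; exact hv
  have h1 := conjO_rO (Subgroup.inclusion (isometry_le_sim Q) h) hv hv'
  have h2 : rO hv' = rO hv := Subtype.ext (Units.ext (Matrix.toLin'.injective
    (LinearMap.ext fun z => by
      rw [Matrix.toLin'_apply, Matrix.toLin'_apply, rO_mulVec, rO_mulVec, hm])))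
  rw [h2] at h1
  refine Subtype.ext ?_
  have h3 : (h : GL ι F) * (rO hv : GL ι F) * (h : GL ι F)⁻¹ = (rO hv : GL ι F) :=
    congrArg Subtype.val h1
  exact (mul_inv_eq_iff_eq_mul.1 h3).symm

/-- The linear map of an isometry of odd order is an `OddIsom`. -/
theorem oddIsom_of_isometry (h : ↥(Cfsg.isometryGroup F (⇑Q))) {r : ℕ} (hr : Odd r)
    (hrF : (r : F) ≠ 0) (hpow : h ^ r = 1) :
    Semisimple.OddIsom (polarBilin Q) (Matrix.toLin' ((h : GL ι F) : Matrix ι ι F)) r where
  nondeg := H.nondeg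
  symm x y := QuadraticMap.polar_comm _ x y
  two_ne := H.two_ne
  odd := hr
  cast_ne := hrF
  pow_eq := by
    rw [← Matrix.toLin'_pow, ← Units.val_pow_eq_pow_val, ← SubgroupClass.coe_pow, hpow]
    simp
    rfl
  isom x y := by
    rw [Matrix.toLin'_apply, Matrix.toLin'_apply, QuadraticMap.polarBilin_apply_apply,
      ← oEquiv_apply, ← oEquiv_apply, OQ.map_polar]
    rfl

theorem exists_commuting_similarity (h : ↥(Cfsg.isometryGroup F (⇑Q))) {r : ℕ} (hr : Odd r)
    (hrF : (r : F) ≠ 0) (hpow : h ^ r = 1) (δ : simGrp Q)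
    (hδm : ¬ IsSquare ((simMult δ : Fˣ) : F)) :
    ∃ c : simGrp Q, Commute c (Subgroup.inclusion (isometry_le_sim Q) h) ∧
      ¬ IsSquare ((simMult c : Fˣ) : F) ∧ sgnHom H c = 1 := by
  classical
  set hm := Matrix.toLin' ((h : GL ι F) : Matrix ι ι F) with hhm
  have O := oddIsom_of_isometry H h hr hrF hpow
  have hev : Even (Module.finrank F (ι → F)) := by
    rw [Module.finrank_pi, H.card_eq]; exact even_two_mul k
  set α := ((simMult δ : Fˣ) : F) with hα
  have hα0 : α ≠ 0 := (simMult δ).ne_zero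
  obtain ⟨C, hCh, hCB⟩ := Semisimple.exists_similitude O hev hα0
  have hCinj : Function.Injective C := by
    rw [injective_iff_map_eq_zero]
    intro x hx
    refine H.nondeg.1 x fun y => ?_
    have := hCB x y
    rw [hx, map_zero, LinearMap.zero_apply] at this
    exact (mul_eq_zero.1 this.symm).resolve_left hα0
  have hsim : ∀ v, Q (LinearMap.toMatrix' C *ᵥ v) = ((simMult δ : Fˣ) : F) * Q v := fun v => by
    rw [LinearMap.toMatrix'_mulVec]
    have := hCB v v
    simp only [QuadraticMap.polarBilin_apply_apply, polar_self'] at this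
    exact mul_left_cancel₀ H.two_ne (by linear_combination this)
  have hdet : (LinearMap.toMatrix' C).det ≠ 0 := by
    rw [LinearMap.det_toMatrix']
    intro hd
    obtain ⟨x, hx, hx0⟩ := Submodule.exists_mem_ne_zero_of_ne_bot
      (LinearMap.bot_lt_ker_of_det_eq_zero hd).ne'
    exact hx0 (hCinj (hx.trans (map_zero C).symm))
  obtain ⟨c, hc⟩ := exists_sim_of_matrix (LinearMap.toMatrix' C) hdet (simMult δ) hsim
  have hμ : simMult c = simMult δ := simMult_eq H _ _ (by rw [hc]; exact hsim)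
  have hcomm : Commute c (Subgroup.inclusion (isometry_le_sim Q) h) := by
    refine Subtype.ext (Units.ext ?_)
    show simMat c * ((h : GL ι F) : Matrix ι ι F) = ((h : GL ι F) : Matrix ι ι F) * simMat c
    apply Matrix.toLin'.injective
    rw [Matrix.toLin'_mul, Matrix.toLin'_mul, hc, Matrix.toLin'_toMatrix']
    exact hCh
  rcases sgnHom_cases H c with hs | hs
  · exact ⟨c, hcomm, by rwa [hμ], hs⟩
  by_cases hfix : ∀ x, hm x = x → x = 0
  · exfalso
    obtain ⟨m, hm1, hm2⟩ := Semisimple.det_similitude O hfix C hCh α hCB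
    rw [Module.finrank_pi, H.card_eq] at hm1
    obtain rfl : m = k := by omega
    have hone : sgnHom H c = 1 := by
      rw [sgnHom_eq_one_iff, hμ, hc, LinearMap.det_toMatrix', hm2]
    exact neg_one_units_ne H (hs.symm.trans hone)
  push Not at hfix
  obtain ⟨x, hx, hx0⟩ := hfix
  obtain ⟨v, hvf, hv⟩ : ∃ v, hm v = v ∧ Q v ≠ 0 := by
    by_contra hc'
    push Not at hc'
    refine hx0 (congrArg Subtype.val ((Semisimple.nondeg_fix O).1
      (⟨x, ⟨x, Semisimple.avg_fix O hx⟩⟩ : LinearMap.range (Semisimple.avg hm r)) ?_))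
    rintro ⟨_, w, rfl⟩
    have hw : hm (Semisimple.avg hm r w) = Semisimple.avg hm r w := by
      rw [← Module.End.mul_apply, Semisimple.h_avg O]
    show polar Q x (Semisimple.avg hm r w) = 0
    rw [QuadraticMap.polar, hc' _ (by rw [map_add, hx, hw]), hc' x hx, hc' _ hw, sub_zero, sub_zero]
  refine ⟨c * Subgroup.inclusion (isometry_le_sim Q) (rO hv), hcomm.mul_left
    ((commute_rO_of_fix H h hv (by rw [← Matrix.toLin'_apply]; exact hvf)).map
      (Subgroup.inclusion (isometry_le_sim Q))), ?_, ?_⟩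
  · show ¬ IsSquare ((multHom H (c * _) : Fˣ) : F)
    rw [map_mul]
    show ¬ IsSquare ((simMult c * simMult _ : Fˣ) : F)
    rwa [mult_incl H, mul_one, hμ]
  · rw [map_mul, hs, sgn_incl H, det_rO, neg_one_mul, neg_neg]

theorem exists_commuting_special (h : ↥(Cfsg.isometryGroup F (⇑Q))) {r : ℕ} (hr : Odd r)
    (hrF : (r : F) ≠ 0) (hpow : h ^ r = 1) :
    ∃ e : ↥(Cfsg.isometryGroup F (⇑Q)), Commute e h ∧
      Matrix.GeneralLinearGroup.det (e : GL ι F) = 1 ∧ spinO H e ≠ 1 := by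
  classical
  set hm := Matrix.toLin' ((h : GL ι F) : Matrix ι ι F) with hhm
  have O := oddIsom_of_isometry H h hr hrF hpow
  have hev : Even (Module.finrank F (ι → F)) := by
    rw [Module.finrank_pi, H.card_eq]; exact even_two_mul k
  by_cases hfix : ∀ x, hm x = x → x = 0
  · haveI : Nontrivial (ι → F) := Module.nontrivial_of_finrank_pos (R := F)
      (by rw [Module.finrank_pi]; have := H.seven_le; omega)
    obtain ⟨c, cb, hadj, hccb, hch, hcdet, hinj⟩ := Semisimple.exists_nonsquare_det O hfix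
    set b := Pi.basisFun F ι
    set G := LinearMap.BilinForm.toMatrix b (polarBilin Q) with hG
    set C := LinearMap.toMatrix' c with hC
    set Cb := LinearMap.toMatrix' cb with hCb
    have hbb : ∀ f : Module.End F (ι → F), LinearMap.toMatrix b b f = LinearMap.toMatrix' f :=
      fun f => by rw [LinearMap.toMatrix_eq_toMatrix']
    have hCG : Cᵀ * G = G * Cb := by
      have h1 : LinearMap.BilinForm.compLeft (polarBilin Q) c = LinearMap.BilinForm.compRight (polarBilin Q) cb :=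
        LinearMap.ext fun x => LinearMap.ext fun y => hadj x y
      have h2 := congrArg (LinearMap.BilinForm.toMatrix b) h1
      rwa [LinearMap.BilinForm.toMatrix_compLeft, LinearMap.BilinForm.toMatrix_compRight, hbb,
        hbb] at h2
    have hG0 : G.det ≠ 0 := (LinearMap.BilinForm.nondegenerate_iff_det_ne_zero b).1 H.nondeg
    have hdet : Cb.det = C.det := by
      have h2 := congrArg Matrix.det hCG
      rw [Matrix.det_mul, Matrix.det_mul, Matrix.det_transpose, mul_comm] at h2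
      exact (mul_left_cancel₀ hG0 h2).symm
    have hC0 : C.det ≠ 0 := fun h0 => hcdet (by
      rw [← LinearMap.det_toMatrix', ← hC, h0]; exact IsSquare.zero)
    have hCb0 : IsUnit Cb.det := by rw [hdet]; exact hC0.isUnit
    have hcc : C * Cb = Cb * C := by
      rw [hC, hCb, ← LinearMap.toMatrix'_mul, ← LinearMap.toMatrix'_mul, hccb]
    let M := C * Cb⁻¹
    have hGs : Gᵀ = G := by
      ext i j
      simp [hG, LinearMap.BilinForm.toMatrix_apply, QuadraticMap.polar_comm]
    have hCG' : G * C = Cbᵀ * G := by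
      have h2 := congrArg Matrix.transpose hCG
      rwa [Matrix.transpose_mul, Matrix.transpose_mul, Matrix.transpose_transpose, hGs] at h2
    have hMG : Mᵀ * G * M = G := by
      show (C * Cb⁻¹)ᵀ * G * (C * Cb⁻¹) = G
      rw [Matrix.transpose_mul, Matrix.mul_assoc _ Cᵀ, hCG, Matrix.mul_assoc _ (G * Cb),
        Matrix.mul_assoc G Cb, ← Matrix.mul_assoc Cb C, ← hcc, Matrix.mul_assoc C Cb,
        Matrix.mul_nonsing_inv _ hCb0, Matrix.mul_one, hCG', ← Matrix.mul_assoc,
        ← Matrix.transpose_mul, Matrix.mul_nonsing_inv _ hCb0, Matrix.transpose_one, Matrix.one_mul]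
    have hMdet : M.det = 1 := by
      rw [Matrix.det_mul, Matrix.det_nonsing_inv, Ring.inverse_eq_inv', hdet, mul_inv_cancel₀ hC0]
    set eg : GL ι F := Matrix.GeneralLinearGroup.mkOfDetNeZero M (by rw [hMdet]; exact one_ne_zero)
    have hmem : eg ∈ Cfsg.isometryGroup F (⇑Q) := fun u v => by
      show Q (M *ᵥ u) = Q u
      have h1 : LinearMap.BilinForm.comp (polarBilin Q) (Matrix.toLin' M) (Matrix.toLin' M) = polarBilin Q := by
        apply (LinearMap.BilinForm.toMatrix b).injective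
        rw [LinearMap.BilinForm.toMatrix_comp b, hbb, LinearMap.toMatrix'_toLin', ← hG, hMG]
      have h2 := LinearMap.congr_fun (LinearMap.congr_fun h1 u) u
      simp only [LinearMap.BilinForm.comp_apply, Matrix.toLin'_apply,
        QuadraticMap.polarBilin_apply_apply, polar_self'] at h2
      exact mul_left_cancel₀ H.two_ne h2
    set Hm := ((h : GL ι F) : Matrix ι ι F) with hHm
    have hchM : C * Hm = Hm * C := by
      apply Matrix.toLin'.injective
      rw [Matrix.toLin'_mul, Matrix.toLin'_mul, hC, Matrix.toLin'_toMatrix']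
      exact hch
    have hcbh : Cb * Hm = Hm * Cb := by
      have hu : Hmᵀ * G * Hm = G := by
        have h1 : LinearMap.BilinForm.comp (polarBilin Q) hm hm = polarBilin Q :=
          LinearMap.ext fun x => LinearMap.ext fun y => O.isom x y
        have h2 := congrArg (LinearMap.BilinForm.toMatrix b) h1
        rwa [LinearMap.BilinForm.toMatrix_comp b, hbb, hhm, LinearMap.toMatrix'_toLin'] at h2
      have hT : Cᵀ * Hmᵀ = Hmᵀ * Cᵀ := by rw [← Matrix.transpose_mul, ← Matrix.transpose_mul, hchM]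
      have h3 : Hmᵀ * G * (Hm * Cb) = Hmᵀ * G * (Cb * Hm) := by
        calc Hmᵀ * G * (Hm * Cb) = G * Cb := by rw [← Matrix.mul_assoc, hu]
          _ = Cᵀ * G := hCG.symm
          _ = Cᵀ * (Hmᵀ * G * Hm) := by rw [hu]
          _ = Hmᵀ * G * (Cb * Hm) := by
            rw [← Matrix.mul_assoc, ← Matrix.mul_assoc, hT, Matrix.mul_assoc Hmᵀ, hCG]
            simp only [Matrix.mul_assoc]
      have hdu : IsUnit (Hmᵀ * G).det := by
        rw [Matrix.det_mul, Matrix.det_transpose]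
        exact (mul_ne_zero (Matrix.GeneralLinearGroup.det_ne_zero _) hG0).isUnit
      have h4 := congrArg ((Hmᵀ * G)⁻¹ * ·) h3
      simp only [Matrix.nonsing_inv_mul_cancel_left _ _ hdu] at h4
      exact h4.symm
    refine ⟨⟨eg, hmem⟩, Subtype.ext (Units.ext ?_), Units.ext hMdet, ?_⟩
    · show C * Cb⁻¹ * Hm = Hm * (C * Cb⁻¹)
      have hinv : Cb⁻¹ * Hm = Hm * Cb⁻¹ := by
        calc Cb⁻¹ * Hm = Cb⁻¹ * (Hm * Cb) * Cb⁻¹ := by
              rw [Matrix.mul_assoc Cb⁻¹ (Hm * Cb), Matrix.mul_assoc Hm Cb, Matrix.mul_nonsing_inv _ hCb0,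
                Matrix.mul_one]
          _ = Hm * Cb⁻¹ := by
              rw [← hcbh, ← Matrix.mul_assoc Cb⁻¹ Cb Hm, Matrix.nonsing_inv_mul _ hCb0, Matrix.one_mul]
      rw [Matrix.mul_assoc, hinv, ← Matrix.mul_assoc, hchM, Matrix.mul_assoc]
    · set S := LinearMap.BilinForm.compRight (polarBilin Q) (cb - c) with hS
      have hSd : (LinearMap.BilinForm.toMatrix b S).det = G.det * (Cb - C).det := by
        rw [hS, LinearMap.BilinForm.toMatrix_compRight, hbb, map_sub, Matrix.det_mul]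
      have hD : (Cb - C).det ≠ 0 := by
        rw [← map_sub, LinearMap.det_toMatrix']
        intro hd
        obtain ⟨x, hx, hx0⟩ := Submodule.exists_mem_ne_zero_of_ne_bot
          (LinearMap.bot_lt_ker_of_det_eq_zero hd).ne'
        exact hx0 (hinj x hx)
      have hSn : S.Nondegenerate :=
        (LinearMap.BilinForm.nondegenerate_iff_det_ne_zero b).2 (by rw [hSd]; exact mul_ne_zero hG0 hD)
      have hSa : S.IsAlt := fun x => by
        show polarBilin Q x ((cb - c) x) = 0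
        rw [LinearMap.sub_apply, map_sub, ← hadj, QuadraticMap.polarBilin_apply_apply,
          QuadraticMap.polarBilin_apply_apply, QuadraticMap.polar_comm _ (c x) x, sub_self]
      have hsq := Semisimple.isSquare_det_gram_alt hSa hSn b
      rw [hSd] at hsq
      have h1M : 1 - M = (Cb - C) * Cb⁻¹ := by
        rw [Matrix.sub_mul, Matrix.mul_nonsing_inv _ hCb0]
      have hdd : (1 - M).det = (Cb - C).det * C.det⁻¹ := by
        rw [h1M, Matrix.det_mul, Matrix.det_nonsing_inv, Ring.inverse_eq_inv', hdet]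
      have hd1 : (1 - M).det ≠ 0 := by rw [hdd]; exact mul_ne_zero hD (inv_ne_zero hC0)
      rw [spinO_eq_of_fixed_point_free H ⟨eg, hmem⟩ hd1, Ne]
      show ¬ sqc ((1 - M).det * G.det) = 1
      rw [sqc_eq_one_iff (mul_ne_zero hd1 hG0)]
      rw [hdd, mul_right_comm, mul_comm _ G.det]
      intro hq
      have := hsq.div hq
      rw [← div_div, div_self (mul_ne_zero hG0 hD), one_div, inv_inv, hC,
        LinearMap.det_toMatrix'] at this
      exact hcdet this
  · push Not at hfix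
    obtain ⟨x, hx, hx0⟩ := hfix
    set V0 := LinearMap.range (Semisimple.avg hm r) with hV0
    have hev0 := Semisimple.even_finrank_fix O hev
    have hpos : 0 < Module.finrank F V0 := by
      rw [Module.finrank_pos_iff]
      exact Submodule.nontrivial_iff_ne_bot.2 fun hb => hx0 (by
        have hmem : x ∈ V0 := ⟨x, Semisimple.avg_fix O hx⟩
        rwa [hb, Submodule.mem_bot] at hmem)
    have h2 : 2 ≤ Module.finrank F V0 := by
      obtain ⟨j, hj⟩ := hev0; rw [hj] at hpos ⊢; omega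
    have hnd : (polarBilin (Q.comp V0.subtype)).Nondegenerate := by
      convert Semisimple.nondeg_fix O using 1
      ext u w
      simp [QuadraticMap.polar, LinearMap.BilinForm.restrict_apply]
    obtain ⟨α, hα⟩ := FiniteField.exists_nonsquare (F := F) (fun h => H.two_ne (by
      have := ringChar.eq_iff.1 h
      exact CharTwo.two_eq_zero))
    have hα0 : α ≠ 0 := by rintro rfl; exact hα IsSquare.zero
    obtain ⟨v, hv⟩ := exists_apply_eq hnd h2 (one_ne_zero (α := F))
    obtain ⟨w, hw⟩ := exists_apply_eq hnd h2 hα0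
    have hfixV : ∀ z : V0, ((h : GL ι F) : Matrix ι ι F) *ᵥ (z : ι → F) = z := by
      rintro ⟨_, z, rfl⟩
      rw [← Matrix.toLin'_apply, ← hhm, ← Module.End.mul_apply, Semisimple.h_avg O]
    have hv' : Q (v : ι → F) ≠ 0 := (show Q (v : ι → F) = 1 from hv).trans_ne one_ne_zero
    have hw' : Q (w : ι → F) ≠ 0 := (show Q (w : ι → F) = α from hw).trans_ne hα0
    refine ⟨rO hv' * rO hw', (commute_rO_of_fix H h hv' (hfixV v)).mul_left
      (commute_rO_of_fix H h hw' (hfixV w)), ?_, ?_⟩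
    · rw [Subgroup.coe_mul, map_mul, det_rO, det_rO, neg_one_mul, neg_neg]
    · rw [map_mul, spinO_rO, spinO_rO, show Q (v : ι → F) = 1 from hv,
        show Q (w : ι → F) = α from hw, sqc_one, one_mul, Ne, sqc_eq_one_iff hα0]
      exact hα

/-- Every automorphism of odd order from a similarity comes from a special isometry of that
order. -/
theorem exists_odd_lift {x : MulAut (Cfsg.POmega F (⇑Q))} (hx : x ∈ Cfsg.pgoAut F (⇑Q)) {r : ℕ}
    (hr : Odd r) (hxr : x ^ r = 1) :
    ∃ h : ↥(Cfsg.isometryGroup F (⇑Q)), h ^ r = 1 ∧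
      conjAut Q (Subgroup.inclusion (isometry_le_sim Q) h) = x := by
  rw [pgoAut_eq] at hx
  obtain ⟨g, rfl⟩ := hx
  have h1 : phi0 H g ^ r = 1 := by
    have hk : g ^ r ∈ (conjAut Q).ker := by rw [MonoidHom.mem_ker, map_pow, hxr]
    rw [← map_pow]
    exact (phi0_eq_one_iff H _).2 (scalar_invariants H hk)
  have hg : g ∈ (phi0 H).ker := by
    obtain ⟨j, rfl⟩ := hr
    have key : ∀ a : Multiplicative (ZMod 2 × ZMod 2), a * a = 1 := by decide
    rwa [pow_succ, pow_mul, sq, key, one_pow, one_mul] at h1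
  rw [ker_phi0, Subgroup.mem_sup_of_normal_right] at hg
  obtain ⟨s, hs, z, hz, rfl⟩ := hg
  obtain ⟨h0, -, rfl⟩ := soS_elem H s hs
  rw [map_mul, MonoidHom.mem_ker.1 hz, mul_one] at hxr ⊢
  refine ⟨h0 ^ (r + 1), ?_, by rw [map_pow, map_pow, pow_succ, hxr, one_mul]⟩
  have hk : Subgroup.inclusion (isometry_le_sim Q) (h0 ^ r) ∈ (conjAut Q).ker := by
    rw [MonoidHom.mem_ker, map_pow, map_pow, hxr]
  rw [ker_conjAut H.nondeg H.seven_le] at hk
  obtain ⟨c, hc⟩ := (Cfsg.Geo.mem_scalars_iff _).1 hk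
  have hc' : (((h0 ^ r : ↥(Cfsg.isometryGroup F (⇑Q))) : GL ι F) : Matrix ι ι F) = (c : F) • 1 := hc
  have hcc : (c : F) * c = 1 := by
    obtain ⟨v, hv⟩ := H.exists_ne
    refine mul_right_cancel₀ hv ?_
    have h2 : Q ((((h0 ^ r : ↥(Cfsg.isometryGroup F (⇑Q))) : GL ι F) : Matrix ι ι F) *ᵥ v) = Q v :=
      (h0 ^ r).2 v v
    rw [hc', Matrix.smul_mulVec, Matrix.one_mulVec, apply_smul] at h2
    rw [h2, one_mul]
  have hsq : (h0 ^ r) * (h0 ^ r) = 1 := Subtype.ext (Units.ext (by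
    rw [Subgroup.coe_mul, Units.val_mul, hc', smul_mul_smul_comm, hcc, one_mul, one_smul]; rfl))
  obtain ⟨j, hj⟩ := hr
  rw [← pow_mul, show (r + 1) * r = r * 2 * (j + 1) by rw [hj]; ring, pow_mul, pow_mul, sq, hsq,
    one_pow]

/-- The fusion statement. -/
theorem semisimple_fusion (δ : simGrp Q) (hδm : ¬ IsSquare ((simMult δ : Fˣ) : F))
    {x : MulAut (Cfsg.POmega F (⇑Q))} (hx : x ∈ Cfsg.pgoAut F (⇑Q)) {r : ℕ} (hr : Odd r)
    (hrF : (r : F) ≠ 0) (hxr : x ^ r = 1) :
    (∀ y, (Cfsg.IsConjUnder (Cfsg.Inn (Cfsg.POmega F (⇑Q))) x y ↔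
        Cfsg.IsConjUnder ((sgnHom H).ker.map (conjAut Q)) x y) ∧
      (Cfsg.IsConjUnder (Cfsg.psoAut F (⇑Q)) x y ↔
        Cfsg.IsConjUnder ((sgnHom H).ker.map (conjAut Q)) x y)) ∧
    (∀ y, Cfsg.IsConjUnder (Cfsg.poAut F (⇑Q)) x y ↔ Cfsg.IsConjUnder (Cfsg.pgoAut F (⇑Q)) x y) := by
  obtain ⟨h, hpow, hhx⟩ := exists_odd_lift H hx hr hxr
  obtain ⟨c, hc, hcm, hcs⟩ := exists_commuting_similarity H h hr hrF hpow δ hδm
  obtain ⟨e, he, hed, hes⟩ := exists_commuting_special H h hr hrF hpow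
  set ι' := Subgroup.inclusion (isometry_le_sim Q)
  have hcx : Commute (conjAut Q c) x := by rw [← hhx]; exact hc.map _
  have hex : Commute (conjAut Q (ι' e)) x := by rw [← hhx]; exact (he.map ι').map _
  have hle1 : Cfsg.Inn (Cfsg.POmega F (⇑Q)) ≤ Cfsg.psoAut F (⇑Q) := by
    rw [inn_eq, psoAut_eq]; exact Subgroup.map_mono (omS_le_soS H)
  have hle2 : Cfsg.psoAut F (⇑Q) ≤ (sgnHom H).ker.map (conjAut Q) := by
    rw [psoAut_eq]; exact Subgroup.map_mono fun g hg => ((mem_soS_iff H g).1 hg).2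
  -- special isometries modulo `Inn`
  have cov0 : ∀ g ∈ (phi0 H).ker, ∃ n ∈ Cfsg.Inn (Cfsg.POmega F (⇑Q)),
      Commute (n⁻¹ * conjAut Q g) x := by
    intro g hg
    rw [ker_phi0, Subgroup.mem_sup_of_normal_right] at hg
    obtain ⟨s, hs, z, hz, rfl⟩ := hg
    obtain ⟨h', hd, rfl⟩ := soS_elem H s hs
    rw [map_mul, MonoidHom.mem_ker.1 hz, mul_one]
    by_cases hsp : spinO H h' = 1
    · exact ⟨_, (incl_mem_innS_iff H h').2 ⟨hd, Or.inl hsp⟩, by
        rw [inv_mul_cancel]; exact Commute.one_left x⟩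
    · refine ⟨conjAut Q (ι' (h' * e⁻¹)), (incl_mem_innS_iff H _).2 ⟨?_, Or.inl ?_⟩, ?_⟩
      · rw [Subgroup.coe_mul, Subgroup.coe_inv, map_mul, map_inv, hd, hed, inv_one, mul_one]
      · rw [map_mul, map_inv, sqClass_mul_of_ne H hsp hes, mul_inv_cancel]
      · rw [← map_inv, ← map_mul, ← map_inv, ← map_mul, mul_inv_rev, inv_inv, inv_mul_cancel_right]
        exact hex
  have hmb : ∀ g : simGrp Q, multBit H g ≠ 1 → multBit H (g * c⁻¹) = 1 := fun g hg => by
    rw [map_mul, map_inv, (zmod_two_mult_cases (multBit H g)).resolve_left hg,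
      (zmod_two_mult_cases (multBit H c)).resolve_left fun h' => hcm ((multBit_eq_one_iff H c).1 h'),
      mul_inv_cancel]
  have cov : ∀ a ∈ (sgnHom H).ker.map (conjAut Q), ∃ n ∈ Cfsg.Inn (Cfsg.POmega F (⇑Q)),
      Commute (n⁻¹ * a) x := by
    rintro _ ⟨g, hg, rfl⟩
    by_cases hm : multBit H g = 1
    · exact cov0 g ((phi0_eq_one_iff H g).2 ⟨(multBit_eq_one_iff H g).1 hm, hg⟩)
    · obtain ⟨n, hn, hcn⟩ := cov0 (g * c⁻¹) ((phi0_eq_one_iff H _).2
        ⟨(multBit_eq_one_iff H _).1 (hmb g hm), by rw [map_mul, map_inv, hg, hcs, inv_one, mul_one]⟩)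
      refine ⟨n, hn, ?_⟩
      have := hcn.mul_left hcx
      rwa [map_mul, map_inv, mul_assoc, inv_mul_cancel_right] at this
  have covpo : ∀ g : simGrp Q, multBit H g = 1 →
      ∃ n ∈ Cfsg.poAut F (⇑Q), conjAut Q g = n := by
    intro g hg
    obtain ⟨v, hv⟩ := H.exists_ne
    rcases sgnHom_cases H g with hs | hs
    · have hg0 : g ∈ (phi0 H).ker := (phi0_eq_one_iff H g).2 ⟨(multBit_eq_one_iff H g).1 hg, hs⟩
      rw [ker_phi0, Subgroup.mem_sup_of_normal_right] at hg0
      obtain ⟨s, hs', z, hz, rfl⟩ := hg0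
      refine ⟨_, ?_, rfl⟩
      rw [map_mul, MonoidHom.mem_ker.1 hz, mul_one, poAut_eq]
      exact ⟨s, hs'.1, rfl⟩
    · have hr1 : multBit H (ι' (rO hv)) = 1 := by rw [multBit_eq_one_iff, mult_incl H]; simp
      have hg0 : g * ι' (rO hv) ∈ (phi0 H).ker := (phi0_eq_one_iff H _).2
        ⟨(multBit_eq_one_iff H _).1 (by rw [map_mul, hg, hr1, one_mul]),
          by rw [map_mul, hs, sgn_incl H, det_rO, neg_one_mul, neg_neg]⟩
      rw [ker_phi0, Subgroup.mem_sup_of_normal_right] at hg0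
      obtain ⟨s, hs', z, hz, hsz⟩ := hg0
      refine ⟨_, ?_, rfl⟩
      rw [eq_mul_inv_of_mul_eq hsz.symm, map_mul, map_mul, MonoidHom.mem_ker.1 hz, mul_one,
        ← map_mul, poAut_eq]
      exact ⟨s * (ι' (rO hv))⁻¹, mul_mem hs'.1 (inv_mem (rO hv).2), rfl⟩
  refine ⟨fun y => ⟨isConjUnder_iff_of_cover (hle1.trans hle2) cov y,
    isConjUnder_iff_of_cover hle2 (fun a ha => by
      obtain ⟨n, hn, hc'⟩ := cov a ha
      exact ⟨n, hle1 hn, hc'⟩) y⟩, fun y => ?_⟩
  refine isConjUnder_iff_of_cover ?_ (fun a ha => ?_) y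
  · rw [poAut_eq, pgoAut_eq]; exact Subgroup.map_le_range _ _
  · rw [pgoAut_eq] at ha
    obtain ⟨g, rfl⟩ := ha
    by_cases hm : multBit H g = 1
    · obtain ⟨n, hn, e'⟩ := covpo g hm
      exact ⟨n, hn, by rw [e', inv_mul_cancel]; exact Commute.one_left x⟩
    · obtain ⟨n, hn, e'⟩ := covpo (g * c⁻¹) (hmb g hm)
      refine ⟨n, hn, ?_⟩
      rw [← e', map_mul, map_inv, mul_inv_rev, inv_inv, inv_mul_cancel_right]
      exact hcx

/-- The fusion statement for another spelling of the form. -/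
theorem semisimple_fusion_transfer {f : (ι → F) → F} (hf : f = ⇑Q)
    (x : MulAut (Cfsg.POmega F f)) (R : Subgroup (MulAut (Cfsg.POmega F f)))
    (hR : HEq R ((sgnHom H).ker.map (conjAut Q)))
    (δ : simGrp Q) (hδm : ¬ IsSquare ((simMult δ : Fˣ) : F))
    (hx : x ∈ Cfsg.pgoAut F f) {r : ℕ} (hr : Odd r) (hrF : (r : F) ≠ 0) (hxr : x ^ r = 1) :
    (∀ y, (Cfsg.IsConjUnder (Cfsg.Inn (Cfsg.POmega F f)) x y ↔ Cfsg.IsConjUnder R x y) ∧
      (Cfsg.IsConjUnder (Cfsg.psoAut F f) x y ↔ Cfsg.IsConjUnder R x y)) ∧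
    (∀ y, Cfsg.IsConjUnder (Cfsg.poAut F f) x y ↔ Cfsg.IsConjUnder (Cfsg.pgoAut F f) x y) := by
  subst hf
  obtain rfl := eq_of_heq hR
  exact semisimple_fusion H δ hδm hx hr hrF hxr

end CfsgLib.Classical.Quad
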