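import Cfsg.Agent.Lib.Classical.Quad.Eichler

/-!
Siegel matrices as commutators and as generators of `Ω`.
-/

set_option autoImplicit false

namespace CfsgLib.Classical.Quad

open QuadraticMap (polar polarBilin)
open scoped commutatorElement

variable {F : Type*} [Field F] {ι : Type} [Fintype ι] [DecidableEq ι] {Q : QuadraticForm F (ι → F)}
  (hQ : (polarBilin Q).Nondegenerate)

theorem oEquiv_eq_eich {u v : ι → F} (hu : Q u = 0) (hv : Q v = 0) (huv : polar Q u v = 0) (c : F)
    (g : Cfsg.isometryGroup F (⇑Q))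
    (hg : ((g : Matrix.GeneralLinearGroup ι F) : Matrix ι ι F) = Cfsg.siegelMatrix (⇑Q) u v c) :
    oEquiv Q g = eich hQ hu (a := (-c) • v) (by rw [polar_smul_right', huv, mul_zero]) := by
  refine Subtype.ext (LinearEquiv.ext fun z => ?_)
  rw [oEquiv_apply, hg, siegelMatrix_mulVec, eich_apply, apply_smul, hv, polar_smul_right',
    QuadraticMap.polar_comm (⇑Q) z u, QuadraticMap.polar_comm (⇑Q) z v]
  module

theorem mat_of_eich {u v : ι → F} (hu : Q u = 0) (hv : Q v = 0) (huv : polar Q u v = 0) :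
    ((((oEquiv Q).symm (eich hQ hu huv)) : Matrix.GeneralLinearGroup ι F) : Matrix ι ι F) =
      Cfsg.siegelMatrix (⇑Q) u v (-1) := by
  refine Matrix.toLin'.injective (LinearMap.ext fun z => ?_)
  rw [Matrix.toLin'_apply, Matrix.toLin'_apply, ← oEquiv_apply, MulEquiv.apply_symm_apply,
    siegelMatrix_mulVec, eich_apply, hv, QuadraticMap.polar_comm (⇑Q) z u,
    QuadraticMap.polar_comm (⇑Q) z v]
  module

include hQ in
theorem siegel_mem_commutatorSet (h2 : (2 : F) ≠ 0) {u v : ι → F} (hu : Q u = 0) (hv : Q v = 0)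
    (huv : polar Q u v = 0) (c : F) (g : Cfsg.isometryGroup F (⇑Q))
    (hg : ((g : Matrix.GeneralLinearGroup ι F) : Matrix ι ι F) = Cfsg.siegelMatrix (⇑Q) u v c) :
    g ∈ commutatorSet ↥(Cfsg.isometryGroup F (⇑Q)) ∧ g ∈ Cfsg.Omega F (⇑Q) := by
  suffices h : g ∈ commutatorSet ↥(Cfsg.isometryGroup F (⇑Q)) by
    obtain ⟨x, y, rfl⟩ := h
    exact ⟨⟨x, y, rfl⟩,
      Subgroup.commutator_mem_commutator (Subgroup.mem_top x) (Subgroup.mem_top y)⟩
  rw [mem_commutatorSet_iff]
  suffices ∃ x y : OQ Q, ⁅x, y⁆ = oEquiv Q g by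
    obtain ⟨x, y, h⟩ := this
    refine ⟨(oEquiv Q).symm x, (oEquiv Q).symm y, (oEquiv Q).injective ?_⟩
    rw [map_commutatorElement, MulEquiv.apply_symm_apply, MulEquiv.apply_symm_apply, h]
  by_cases huv' : u ∈ Submodule.span F {v}
  · refine ⟨1, 1, ?_⟩
    obtain ⟨d, rfl⟩ := Submodule.mem_span_singleton.1 huv'
    refine Subtype.ext (LinearEquiv.ext fun z => ?_)
    rw [oEquiv_apply, hg, siegelMatrix_mulVec, commutatorElement_one_left, polar_smul_left']
    show z = _
    module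
  obtain ⟨u', hu', huu', hvu'⟩ := exists_singular_partner hQ hu (fun x hx => by
    obtain ⟨d, rfl⟩ := Submodule.mem_span_singleton.1 hx
    rw [polar_smul_left', QuadraticMap.polar_comm, huv, mul_zero]) huv'
  obtain ⟨h, hh⟩ := exists_dilation hQ hu hu' huu' (d := -1) (by simp)
  have hhu : (h : (ι → F) ≃ₗ[F] (ι → F)) u = (-1 : F) • u := by
    rw [hh, huu', polar_self', hu]; module
  have hhv : (h : (ι → F) ≃ₗ[F] (ι → F)) v = v := by
    rw [hh, hvu' v (Submodule.mem_span_singleton_self v), QuadraticMap.polar_comm, huv]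
    simp
  have hb : polar Q u ((c / 2) • v) = 0 := by rw [polar_smul_right', huv, mul_zero]
  refine ⟨h, eich hQ hu hb, ?_⟩
  rw [oEquiv_eq_eich hQ hu hv huv c g hg, commutatorElement_def, eich_conj,
    eich_congr hQ hhu (show (h : (ι → F) ≃ₗ[F] (ι → F)) ((c / 2) • v) = (c / 2) • v by
      rw [map_smul, hhv]),
    eich_smul_left hQ hu hb, eich_inv, eich_mul]
  refine eich_congr hQ rfl ?_
  match_scalars
  field_simp
  ring

include hQ in
theorem Omega_eq_closure_siegel [Finite F] (hn : 5 ≤ Fintype.card ι) :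
    Cfsg.Omega F (⇑Q) = Subgroup.closure {g : ↥(Cfsg.isometryGroup F ⇑Q) |
      ∃ (u v : ι → F) (c : F), Q u = 0 ∧ Q v = 0 ∧ polar ⇑Q u v = 0 ∧
        ((g : Matrix.GeneralLinearGroup ι F) : Matrix ι ι F) = Cfsg.siegelMatrix ⇑Q u v c} := by
  have hn' : 5 ≤ Module.finrank F (ι → F) := by rwa [Module.finrank_pi]
  have hmap : (commutator ↥(Cfsg.isometryGroup F (⇑Q))).map (oEquiv Q).toMonoidHom =
      commutator (OQ Q) := by
    rw [commutator_def, commutator_def, Subgroup.map_commutator,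
      Subgroup.map_top_of_surjective _ (oEquiv Q).surjective]
  refine Subgroup.map_injective (f := (oEquiv Q).toMonoidHom) (oEquiv Q).injective ?_
  show (commutator ↥(Cfsg.isometryGroup F (⇑Q))).map (oEquiv Q).toMonoidHom =
    Subgroup.map (oEquiv Q).toMonoidHom _
  rw [hmap, ← eichGroup_eq_commutator hQ hn', MonoidHom.map_closure]
  refine le_antisymm ((Subgroup.closure_le _).2 ?_) ((Subgroup.closure_le _).2 ?_)
  · rintro _ ⟨w, a, hw, ha, hqa, rfl⟩
    exact Subgroup.subset_closure ⟨_, ⟨w, a, -1, hw, hqa, ha, mat_of_eich hQ hw hqa ha⟩,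
      (oEquiv Q).apply_symm_apply _⟩
  · rintro _ ⟨g, ⟨u, v, c, hu, hv, huv, hg⟩, rfl⟩
    show oEquiv Q g ∈ eichGroup hQ
    rw [oEquiv_eq_eich hQ hu hv huv c g hg]
    exact eich_mem_of_singular hQ _ _ (by rw [apply_smul, hv, mul_zero])

end CfsgLib.Classical.Quad
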