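import Cfsg.Agent.Lib.Classical.Quad.POmega
import Cfsg.Prelude.Def_LieTypeDatum

/-!
Automorphisms of `PΩ` given by similarities of the form: the kernel consists of the scalars.
-/

set_option autoImplicit false

namespace CfsgLib.Classical.Quad

open QuadraticMap (polar polarBilin)
open scoped Matrix

/-! ### Generalities -/

/-- Restriction of an automorphism to the derived subgroup. -/
def commRestrict (G : Type*) [Group G] : MulAut G →* MulAut (commutator G) where
  toFun e := (e.subgroupMap (commutator G)).trans (MulEquiv.subgroupCongr (by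
    show (commutator G).map e.toMonoidHom = _
    rw [commutator_def, Subgroup.map_commutator, Subgroup.map_top_of_surjective _ e.surjective]))
  map_one' := rfl
  map_mul' _ _ := rfl

theorem commRestrict_apply {G : Type*} [Group G] (e : MulAut G) (x : commutator G) :
    (commRestrict G e x : G) = e x := rfl

/-- An automorphism acting on the central quotient. -/
def centerQuotAut (H : Type*) [Group H] : MulAut H →* MulAut (H ⧸ Subgroup.center H) where
  toFun e := QuotientGroup.congr _ _ e (map_center_eq e)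
  map_one' := MulEquiv.ext fun x => by
    induction x using QuotientGroup.induction_on with | H x => rfl
  map_mul' _ _ := MulEquiv.ext fun x => by
    induction x using QuotientGroup.induction_on with | H x => rfl

theorem centerQuotAut_mk {H : Type*} [Group H] (e : MulAut H) (x : H) :
    centerQuotAut H e (QuotientGroup.mk x) = QuotientGroup.mk (e x) := rfl

/-- A perfect group has no non-trivial automorphism trivial on the central quotient. -/
theorem eq_one_of_centerQuotAut {H : Type*} [Group H] (hperf : commutator H = ⊤) {e : MulAut H}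
    (he : centerQuotAut H e = 1) : e = 1 := by
  have hc : ∀ x, x⁻¹ * e x ∈ Subgroup.center H := fun x => by
    rw [← QuotientGroup.eq, ← centerQuotAut_mk, he]
    rfl
  let χ : H →* Subgroup.center H :=
    { toFun := fun x => ⟨x⁻¹ * e x, hc x⟩
      map_one' := Subtype.ext (by simp)
      map_mul' := fun x y => Subtype.ext (by
        show (x * y)⁻¹ * e (x * y) = x⁻¹ * e x * (y⁻¹ * e y)
        rw [map_mul, mul_inv_rev, mul_assoc, ← mul_assoc x⁻¹,
          ← mul_assoc y⁻¹ (x⁻¹ * e x) (e y), Subgroup.mem_center_iff.1 (hc x) y⁻¹]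
        group) }
  refine MulEquiv.ext fun x => ?_
  have hx : χ x = 1 := by
    have hm : x ∈ commutator H := by rw [hperf]; exact Subgroup.mem_top x
    have hle : commutator H ≤ χ.ker := by
      rw [commutator_def, Subgroup.commutator_le]
      intro a _ b _
      rw [MonoidHom.mem_ker, map_commutatorElement, commutatorElement_eq_one_iff_mul_comm]
      exact Subtype.ext (Subgroup.mem_center_iff.1 (χ b).2 (χ a))
    exact hle hm
  exact (inv_mul_eq_one.1 (congrArg Subtype.val hx)).symm

/-- A homomorphism on the image of another one. -/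
theorem exists_hom_range {S A H : Type*} [Group S] [Group A] [Group H] (f : S →* A) (ψ : S →* H)
    (hsurj : Function.Surjective ψ) (K : Subgroup S) (hK : ψ.ker = K ⊔ f.ker) (R : Subgroup A)
    (hR : R = f.range) :
    ∃ φ : R →* H, Function.Surjective φ ∧ φ.ker = (K.map f).subgroupOf R := by
  subst hR
  have hle : f.rangeRestrict.ker ≤ ψ.ker := by
    rw [MonoidHom.ker_rangeRestrict, hK]; exact le_sup_right
  let φ : f.range →* H := f.rangeRestrict.liftOfSurjective f.rangeRestrict_surjective ⟨ψ, hle⟩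
  have hφ : ∀ x, φ (f.rangeRestrict x) = ψ x := fun x =>
    MonoidHom.liftOfRightInverse_comp_apply f.rangeRestrict _ _ ⟨ψ, hle⟩ x
  refine ⟨φ, fun h => ?_, ?_⟩
  · obtain ⟨x, rfl⟩ := hsurj h
    exact ⟨_, hφ x⟩
  · ext y
    obtain ⟨x, rfl⟩ := f.rangeRestrict_surjective y
    rw [MonoidHom.mem_ker, hφ, Subgroup.mem_subgroupOf, ← MonoidHom.mem_ker, hK,
      MonoidHom.coe_rangeRestrict, ← Subgroup.mem_comap, Subgroup.comap_map_eq]

/-! ### Endomorphisms commuting with the Eichler maps -/

section Scalar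

variable {F : Type*} [Field F] {V : Type*} [AddCommGroup V] [Module F V] [FiniteDimensional F V]
  [Finite F] {Q : QuadraticForm F V} (hQ : (polarBilin Q).Nondegenerate)
include hQ

theorem eigen_of_comm_eich (hn : 5 ≤ Module.finrank F V) (G : V →ₗ[F] V)
    (h : ∀ w a (hw : Q w = 0) (ha : polar Q w a = 0) z,
      G ((eich hQ hw ha : V ≃ₗ[F] V) z) = (eich hQ hw ha : V ≃ₗ[F] V) (G z))
    {w : V} (hw : Q w = 0) : ∃ c : F, G w = c • w := by
  by_cases hw0 : w = 0
  · exact ⟨0, by rw [hw0, map_zero, zero_smul]⟩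
  obtain ⟨x, y, hx, hy, hwx, hwy, hxy⟩ := exists_singular_pair_perp hQ hn hw0
  have key : ∀ a (ha : polar Q w a = 0), Q a = 0 → ∀ z, polar Q z w = 0 → polar Q z a = 1 →
      ∃ r s : F, G w = r • w + s • a := by
    intro a ha hqa z hzw hza
    have h1 := h w a hw ha z
    simp only [eich_apply, hqa, hzw, hza, zero_mul, sub_zero, one_smul, neg_zero, zero_smul,
      add_zero, map_add] at h1
    rw [add_assoc, add_right_inj] at h1
    exact ⟨_, _, h1⟩
  obtain ⟨r, s, e1⟩ := key x hwx hx y (by rw [QuadraticMap.polar_comm]; exact hwy)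
    (by rw [QuadraticMap.polar_comm]; exact hxy)
  obtain ⟨r', s', e2⟩ := key y hwy hy x (by rw [QuadraticMap.polar_comm]; exact hwx) hxy
  have h3 : polar Q (r • w + s • x) y = polar Q (r' • w + s' • y) y := by rw [← e1, ← e2]
  rw [polar_add_left', polar_smul_left', polar_smul_left', hwy, hxy, polar_add_left',
    polar_smul_left', polar_smul_left', hwy, polar_self', hy] at h3
  refine ⟨r, ?_⟩
  have hs : s = 0 := by linear_combination h3
  rw [e1, hs, zero_smul, add_zero]

theorem scalar_of_comm_eich (hn7 : 7 ≤ Module.finrank F V) (G : V →ₗ[F] V)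
    (h : ∀ w a (hw : Q w = 0) (ha : polar Q w a = 0) z,
      G ((eich hQ hw ha : V ≃ₗ[F] V) z) = (eich hQ hw ha : V ≃ₗ[F] V) (G z)) :
    ∃ c : F, ∀ v, G v = c • v := by
  have hn : 5 ≤ Module.finrank F V := by omega
  have perp : ∀ u w (a b : F), Q u = 0 → Q w = 0 → u ≠ 0 → w ≠ 0 → polar Q u w = 0 →
      G u = a • u → G w = b • w → a = b := by
    intro u w a b hu hw hu0 hw0 huw ha hb
    obtain ⟨d, hd⟩ := eigen_of_comm_eich hQ hn G h (w := u + w) (by rw [apply_add, hu, hw, huw]; ring)
    rw [map_add, ha, hb, smul_add] at hd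
    have hz : (a - d) • u + (b - d) • w = 0 := by
      rw [sub_smul, sub_smul, sub_add_sub_comm, hd, sub_self]
    by_cases hbd : b - d = 0
    · rw [hbd, zero_smul, add_zero] at hz
      have := (smul_eq_zero.1 hz).resolve_right hu0
      linear_combination this - hbd
    · have hwu : w = (-(a - d) / (b - d)) • u := by
        calc w = (b - d)⁻¹ • ((b - d) • w) := by rw [inv_smul_smul₀ hbd]
          _ = _ := by
            rw [eq_neg_of_add_eq_zero_right hz, smul_neg, smul_smul, neg_div, neg_smul, div_eq_inv_mul]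
      have hz' : (a - b) • w = 0 := by
        rw [sub_smul, sub_eq_zero, ← hb]
        conv_rhs => rw [hwu, map_smul, ha, smul_comm, ← hwu]
      exact sub_eq_zero.1 ((smul_eq_zero.1 hz').resolve_right hw0)
  obtain ⟨u, hu0, hu⟩ := exists_singular hQ (by omega)
  obtain ⟨c, hc⟩ := eigen_of_comm_eich hQ hn G h hu
  refine ⟨c, fun v => ?_⟩
  have heq : Set.EqOn G (c • LinearMap.id : V →ₗ[F] V) {w : V | Q w = 0} := by
    intro w (hw : Q w = 0)
    show G w = c • w
    by_cases hw0 : w = 0
    · rw [hw0, map_zero, smul_zero]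
    obtain ⟨b, hb⟩ := eigen_of_comm_eich hQ hn G h hw
    let P := Submodule.span F (Set.range ![u, w])
    have hP : Module.finrank F P ≤ 2 := (finrank_range_le_card _).trans (by simp)
    obtain ⟨x, -, hx, hxP, k, -, hxk⟩ := exists_singular_perp hQ P (by omega)
    have hx0 : x ≠ 0 := fun e => by
      rw [e] at hxk
      simp [polar] at hxk
    obtain ⟨d, hd⟩ := eigen_of_comm_eich hQ hn G h hx
    have e1 := perp u x c d hu hx hu0 hx0 (hxP u (Submodule.subset_span ⟨0, rfl⟩)) hc hd
    have e2 := perp w x b d hw hx hw0 hx0 (hxP w (Submodule.subset_span ⟨1, rfl⟩)) hb hd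
    rw [hb, e2, e1]
  exact LinearMap.eqOn_span heq (singular_span_eq_top hQ hn ▸ Submodule.mem_top)

end Scalar

/-! ### The action -/

variable {F : Type*} [Field F] {ι : Type} [Fintype ι] [DecidableEq ι]

/-- The similarities of `Q`. -/
abbrev simGrp (Q : QuadraticForm F (ι → F)) : Subgroup (GL ι F) :=
  Cfsg.Geo.quadSimilarityGroup (F := F) (⇑Q)

variable {Q : QuadraticForm F (ι → F)}

theorem isometry_le_sim (Q : QuadraticForm F (ι → F)) :
    Cfsg.isometryGroup F (⇑Q) ≤ simGrp Q := fun g hg => ⟨1, fun v => by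
  rw [Units.val_one, one_mul]; exact hg v v⟩

theorem conj_mem_isometry (g : simGrp Q) (h : ↥(Cfsg.isometryGroup F (⇑Q))) :
    (g : GL ι F) * h * (g : GL ι F)⁻¹ ∈ Cfsg.isometryGroup F (⇑Q) := by
  obtain ⟨c, hc⟩ := g.2
  intro u v
  show Q ((((g : GL ι F) * h * (g : GL ι F)⁻¹ : GL ι F) : Matrix ι ι F) *ᵥ u) = Q u
  have hh : ∀ z, Q (((h : GL ι F) : Matrix ι ι F) *ᵥ z) = Q z := fun z => h.2 z z
  rw [Units.val_mul, Units.val_mul, ← Matrix.mulVec_mulVec, ← Matrix.mulVec_mulVec, hc, hh,
    ← hc, Matrix.mulVec_mulVec, ← Units.val_mul, mul_inv_cancel, Units.val_one, Matrix.one_mulVec]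

/-- Conjugation of isometries by a similarity. -/
def conjO (Q : QuadraticForm F (ι → F)) : simGrp Q →* MulAut ↥(Cfsg.isometryGroup F (⇑Q)) where
  toFun g :=
    { toFun := fun h => ⟨_, conj_mem_isometry g h⟩
      invFun := fun h => ⟨(g : GL ι F)⁻¹ * h * g, by simpa using conj_mem_isometry g⁻¹ h⟩
      left_inv := fun h => Subtype.ext (by simp [mul_assoc])
      right_inv := fun h => Subtype.ext (by simp [mul_assoc])
      map_mul' := fun a b => Subtype.ext (by simp [mul_assoc]) }
  map_one' := MulEquiv.ext fun h => Subtype.ext (by simp)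
  map_mul' a b := MulEquiv.ext fun h => Subtype.ext (by simp [mul_assoc])

theorem conjO_apply (g : simGrp Q) (h : ↥(Cfsg.isometryGroup F (⇑Q))) :
    (conjO Q g h : GL ι F) = (g : GL ι F) * h * (g : GL ι F)⁻¹ := rfl

/-- The automorphism of `PΩ` induced by a similarity. -/
def conjAut (Q : QuadraticForm F (ι → F)) : simGrp Q →* MulAut (Cfsg.POmega F (⇑Q)) :=
  (centerQuotAut _).comp ((commRestrict _).comp (conjO Q))

theorem conjAut_mk (g : simGrp Q) (s : ↥(Cfsg.Omega F (⇑Q))) :
    conjAut Q g (QuotientGroup.mk s) = QuotientGroup.mk (commRestrict _ (conjO Q g) s) := rfl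

theorem induced_iff (g : simGrp Q) (β : MulAut (Cfsg.POmega F (⇑Q))) :
    Cfsg.IsInducedBySemilinearPOmega (⇑Q) (g : GL ι F) (RingEquiv.refl F) β ↔ β = conjAut Q g := by
  constructor
  · intro h
    refine MulEquiv.ext fun x => ?_
    induction x using QuotientGroup.induction_on with
    | H s =>
      rw [conjAut_mk]
      refine h s _ ?_
      simp [commRestrict_apply, conjO_apply]
  · rintro rfl s s' hs
    rw [conjAut_mk]
    congr 1
    refine Subtype.ext (Subtype.ext (Units.ext ?_))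
    rw [commRestrict_apply, conjO_apply, hs]
    simp

/-- The scalars, among the similarities. -/
abbrev scalS (Q : QuadraticForm F (ι → F)) : Subgroup (simGrp Q) :=
  (Cfsg.Geo.scalars ι F).subgroupOf (simGrp Q)

/-- The special isometries, among the similarities. -/
abbrev soS (Q : QuadraticForm F (ι → F)) : Subgroup (simGrp Q) :=
  (Cfsg.specialIsometryGL F (⇑Q)).subgroupOf (simGrp Q)

/-- `Ω`, among the similarities. -/
abbrev omS (Q : QuadraticForm F (ι → F)) : Subgroup (simGrp Q) :=
  ((Cfsg.Omega F (⇑Q)).map (Cfsg.isometryGroup F (⇑Q)).subtype).subgroupOf (simGrp Q)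

theorem autSubgroupOf_eq {P : Cfsg.POmega F (⇑Q) ≃* Cfsg.POmega F (⇑Q) → Prop}
    (K : Subgroup (simGrp Q))
    (h : ∀ β, P β ↔ ∃ g ∈ K, Cfsg.IsInducedBySemilinearPOmega (⇑Q) (g : GL ι F) (RingEquiv.refl F) β) :
    Cfsg.autSubgroupOf P = K.map (conjAut Q) := by
  rw [Cfsg.autSubgroupOf, ← Subgroup.closure_eq (K.map (conjAut Q))]
  congr 1
  ext β
  simp only [Set.mem_setOf_eq, h, induced_iff, SetLike.mem_coe, Subgroup.mem_map, eq_comm]

theorem pgoAut_eq (Q : QuadraticForm F (ι → F)) :
    Cfsg.pgoAut F (⇑Q) = (conjAut Q).range := by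
  rw [MonoidHom.range_eq_map, Cfsg.pgoAut, autSubgroupOf_eq ⊤]
  exact fun β => ⟨fun ⟨g, hg, h⟩ => ⟨⟨g, hg⟩, Subgroup.mem_top _, h⟩, fun ⟨g, _, h⟩ => ⟨g, g.2, h⟩⟩

theorem psoAut_eq (Q : QuadraticForm F (ι → F)) :
    Cfsg.psoAut F (⇑Q) = (soS Q).map (conjAut Q) := by
  rw [Cfsg.psoAut, autSubgroupOf_eq (soS Q)]
  exact fun β => ⟨fun ⟨g, hg, h⟩ => ⟨⟨g, isometry_le_sim Q hg.1⟩, hg, h⟩,
    fun ⟨g, hg, h⟩ => ⟨g, hg, h⟩⟩

theorem conjAut_omega (ω : ↥(Cfsg.Omega F (⇑Q))) :
    conjAut Q ⟨((ω : ↥(Cfsg.isometryGroup F (⇑Q))) : GL ι F),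
      isometry_le_sim Q (ω : ↥(Cfsg.isometryGroup F (⇑Q))).2⟩ =
        MulAut.conj (QuotientGroup.mk ω) := by
  refine MulEquiv.ext fun x => ?_
  induction x using QuotientGroup.induction_on with
  | H s =>
    rw [conjAut_mk, MulAut.conj_apply]
    rfl

theorem inn_eq (Q : QuadraticForm F (ι → F)) :
    Cfsg.Inn (Cfsg.POmega F (⇑Q)) = (omS Q).map (conjAut Q) := by
  ext β
  constructor
  · rintro ⟨x, rfl⟩
    induction x using QuotientGroup.induction_on with
    | H s => exact ⟨_, ⟨(s : ↥(Cfsg.isometryGroup F (⇑Q))), s.2, rfl⟩, conjAut_omega s⟩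
  · rintro ⟨g, ⟨ω, hω, hg⟩, rfl⟩
    refine ⟨QuotientGroup.mk ⟨ω, hω⟩, ?_⟩
    rw [← conjAut_omega]
    congr 1
    exact Subtype.ext hg

theorem commutator_Omega_top [Finite F] (hQ : (polarBilin Q).Nondegenerate)
    (hn : 7 ≤ Fintype.card ι) : commutator ↥(Cfsg.Omega F (⇑Q)) = ⊤ := by
  refine Subgroup.map_injective (omegaEquiv Q).injective (f := (omegaEquiv Q).toMonoidHom) ?_
  show (⁅⊤, ⊤⁆ : Subgroup ↥(Cfsg.Omega F (⇑Q))).map _ = _
  rw [Subgroup.map_commutator, Subgroup.map_top_of_surjective _ (omegaEquiv Q).surjective]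
  exact commutator_Omega_eq_top hQ (by rwa [Module.finrank_pi])

theorem ker_conjAut [Finite F] (hQ : (polarBilin Q).Nondegenerate) (hn : 7 ≤ Fintype.card ι) :
    (conjAut Q).ker = scalS Q := by
  have h5 : 5 ≤ Module.finrank F (ι → F) := by rw [Module.finrank_pi]; omega
  ext g
  constructor
  · intro hg
    have h1 := eq_one_of_centerQuotAut (commutator_Omega_top hQ hn) hg
    have hcomm : ∀ s : ↥(Cfsg.Omega F (⇑Q)),
        (g : GL ι F) * (s : ↥(Cfsg.isometryGroup F (⇑Q))) =
          ((s : ↥(Cfsg.isometryGroup F (⇑Q))) : GL ι F) * g := fun s => by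
      have h2 := congrArg (fun y : ↥(Cfsg.Omega F (⇑Q)) =>
        ((y : ↥(Cfsg.isometryGroup F (⇑Q))) : GL ι F)) (DFunLike.congr_fun h1 s)
      simp only [commRestrict_apply, MonoidHom.comp_apply, conjO_apply, MulAut.one_apply] at h2
      exact mul_inv_eq_iff_eq_mul.1 h2
    obtain ⟨c, hc⟩ := scalar_of_comm_eich hQ (by rwa [Module.finrank_pi]) (Matrix.toLin' ((g : GL ι F) : Matrix ι ι F))
      fun w a hw ha z => by
        set s := (omegaEquiv Q).symm (eichΩ hQ h5 hw ha)
        have hs : ∀ y, (eich hQ hw ha : (ι → F) ≃ₗ[F] (ι → F)) y =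
            (((s : ↥(Cfsg.isometryGroup F (⇑Q))) : GL ι F) : Matrix ι ι F) *ᵥ y := fun y => by
          rw [← oEquiv_apply]
          show (((eichΩ hQ h5 hw ha : commutator (OQ Q)) : OQ Q) : (ι → F) ≃ₗ[F] (ι → F)) y =
            (((omegaEquiv Q s : commutator (OQ Q)) : OQ Q) : (ι → F) ≃ₗ[F] (ι → F)) y
          rw [MulEquiv.apply_symm_apply]
        rw [hs, hs, Matrix.toLin'_apply, Matrix.toLin'_apply, Matrix.mulVec_mulVec,
          Matrix.mulVec_mulVec, ← Units.val_mul, ← Units.val_mul, hcomm]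
    have hgm : ((g : GL ι F) : Matrix ι ι F) = c • (1 : Matrix ι ι F) :=
      Matrix.toLin'.injective (LinearMap.ext fun v => by
        rw [hc, Matrix.toLin'_apply, Matrix.smul_mulVec, Matrix.one_mulVec])
    have : Nonempty ι := Fintype.card_pos_iff.1 (by omega)
    have hc0 : c ≠ 0 := fun h => (g : GL ι F).ne_zero (by rw [hgm, h, zero_smul])
    exact (Cfsg.Geo.mem_scalars_iff _).2 ⟨Units.mk0 c hc0, hgm⟩
  · intro hg
    obtain ⟨c, hc⟩ := (Cfsg.Geo.mem_scalars_iff _).1 hg
    refine MonoidHom.mem_ker.2 (MulEquiv.ext fun x => ?_)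
    induction x using QuotientGroup.induction_on with
    | H s =>
      rw [conjAut_mk, MulAut.one_apply]
      congr 1
      refine Subtype.ext (Subtype.ext ?_)
      rw [commRestrict_apply, conjO_apply, mul_inv_eq_iff_eq_mul]
      have hc' : ((g : GL ι F) : Matrix ι ι F) = (c : F) • 1 := hc
      exact Units.ext (by rw [Units.val_mul, Units.val_mul, hc']; simp)

end CfsgLib.Classical.Quad
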