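import Cfsg.Agent.Lib.Classical.Quad.ParityClasses

/-!
Similarities with non-square multiplier for the plus and minus type forms, the inner-diagonal
groups, and the position of `-1`.
-/

set_option autoImplicit false

namespace CfsgLib.Classical.Quad

open QuadraticMap (polar polarBilin)
open scoped Matrix

universe u

theorem pow_mod_four_cases {q : ℕ} (hodd : Odd q) (n : ℕ) :
    (q ^ n % 4 = 1 ↔ Even n ∨ q % 4 = 1) ∧ (q ^ n % 4 = 3 ↔ Odd n ∧ q % 4 = 3) := by
  have hq : q % 4 = 1 ∨ q % 4 = 3 := by obtain ⟨k, rfl⟩ := hodd; omega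
  rcases Nat.even_or_odd n with ⟨j, rfl⟩ | ⟨j, rfl⟩
  · rw [← two_mul, pow_mul, Nat.pow_mod, Nat.pow_mod q 2 4]
    rcases hq with h | h <;> simp [h]
  · rw [pow_succ, pow_mul, Nat.mul_mod, Nat.pow_mod, Nat.pow_mod q 2 4]
    rcases hq with h | h <;> simp [h]

variable {F : Type u} [Field F] {ι : Type} [Fintype ι] [DecidableEq ι]
  {Q : QuadraticForm F (ι → F)} {k : ℕ}

theorem exists_sim_of_matrix (M : Matrix ι ι F) (hM : M.det ≠ 0) (α : Fˣ)
    (h : ∀ v, Q (M *ᵥ v) = (α : F) * Q v) : ∃ δ : simGrp Q, simMat δ = M :=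
  ⟨⟨Matrix.GeneralLinearGroup.mkOfDetNeZero M hM, α, h⟩, rfl⟩

theorem exists_sq_isometry [Finite F] (H : EvenForm Q k) (δ : simGrp Q) :
    ∃ e : ↥(Cfsg.isometryGroup F (⇑Q)),
      ((e : GL ι F) : Matrix ι ι F) =
        ((simMult δ : Fˣ) : F)⁻¹ • (simMat δ * simMat δ) ∧
      δ * δ * (Subgroup.inclusion (isometry_le_sim Q) e)⁻¹ ∈ (conjAut Q).ker := by
  set α := ((simMult δ : Fˣ) : F) with hα
  have hα0 : α ≠ 0 := (simMult δ).ne_zero
  set z : GL ι F :=
    Units.map (Matrix.scalar ι : F →+* Matrix ι ι F).toMonoidHom (simMult δ)⁻¹ with hzdef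
  have hz : (z : Matrix ι ι F) = α⁻¹ • 1 := by
    simp [hzdef, hα, Matrix.smul_one_eq_diagonal]
  have hmem : z * ((δ : GL ι F) * δ) ∈ Cfsg.isometryGroup F (⇑Q) := fun u v => by
    show Q (((z * ((δ : GL ι F) * δ) : GL ι F) : Matrix ι ι F) *ᵥ u) = Q u
    rw [Units.val_mul, Units.val_mul, hz, ← Matrix.mulVec_mulVec, ← Matrix.mulVec_mulVec,
      Matrix.smul_mulVec, Matrix.one_mulVec, apply_smul, simMult_spec, simMult_spec, ← hα]
    field_simp
  refine ⟨⟨_, hmem⟩, ?_, ?_⟩
  · show ((z * ((δ : GL ι F) * δ) : GL ι F) : Matrix ι ι F) = _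
    rw [Units.val_mul, Units.val_mul, hz, smul_mul_assoc, one_mul]
  · rw [ker_conjAut H.nondeg H.seven_le]
    refine ⟨simMult δ, ?_⟩
    show _ = (δ : GL ι F) * δ * (z * ((δ : GL ι F) * δ))⁻¹
    rw [mul_inv_rev, mul_inv_cancel_left, hzdef, map_inv, inv_inv]

theorem sqc_test {α y : F} (hy : y ≠ 0) (hα : ¬ IsSquare α) (j : ℕ) :
    sqc (y ^ 2 * α ^ j) = 1 ↔ Even j := by
  have hα0 : α ≠ 0 := by rintro rfl; exact hα IsSquare.zero
  rw [sqc_eq_one_iff (mul_ne_zero (pow_ne_zero _ hy) (pow_ne_zero _ hα0))]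
  constructor
  · rintro ⟨r, hr⟩
    rcases Nat.even_or_odd j with h | ⟨i, rfl⟩
    · exact h
    · refine absurd ⟨r / (y * α ^ i), ?_⟩ hα
      field_simp
      linear_combination hr
  · rintro ⟨i, rfl⟩
    exact ⟨y * α ^ i, by ring⟩

theorem autSubgroup_diag [Finite F] (H : EvenForm Q k) {P : simGrp Q → Prop}
    (hP : ∀ g, P g ↔ sgnHom H g = 1) :
    Cfsg.autSubgroupOf (fun β : Cfsg.POmega F (⇑Q) ≃* Cfsg.POmega F (⇑Q) =>
      ∃ g : simGrp Q, P g ∧ Cfsg.IsInducedBySemilinearPOmega (⇑Q) (g : GL ι F) (RingEquiv.refl F) β) =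
        (sgnHom H).ker.map (conjAut Q) :=
  autSubgroupOf_eq _ fun β => exists_congr fun g => and_congr_left fun _ => hP g

/-! ### Plus type -/

section Plus

variable [Fintype F] (hodd : Odd (Fintype.card F)) {m : ℕ} (hm : 4 ≤ m)
include hodd hm

theorem evenForm_qPlus : EvenForm (qPlus m F) m :=
  ⟨qPlus_nondeg m, two_ne_zero_of_odd rfl hodd, by simp; omega, hm⟩

theorem negMem_qPlus : NegMem (qPlus m F) ↔ ¬ (Odd m ∧ Fintype.card F % 4 = 3) := by
  unfold NegMem
  rw [coe_qPlus, neg_one_mem_plus_iff rfl hodd m (by omega), (pow_mod_four_cases hodd m).1]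
  have hq : Fintype.card F % 4 = 1 ∨ Fintype.card F % 4 = 3 := by
    obtain ⟨j, hj⟩ := hodd; omega
  rw [← Nat.not_even_iff_odd]
  constructor
  · rintro (h | h) ⟨h1, h2⟩
    · exact h1 h
    · omega
  · intro h
    by_cases he : Even m
    · exact Or.inl he
    · exact Or.inr (hq.resolve_right fun h3 => h ⟨he, h3⟩)

theorem exists_delta_plus : ∃ δ : simGrp (qPlus m F),
    ¬ IsSquare ((simMult δ : Fˣ) : F) ∧ sgnHom (evenForm_qPlus hodd hm) δ = 1 ∧
      (∃ T, IsSing (qPlus m F) m T ∧ Cfsg.imageSubmodule (simMat δ) T = T) ∧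
      ∃ e : ↥(Cfsg.isometryGroup F (⇑(qPlus m F))),
        δ * δ * (Subgroup.inclusion (isometry_le_sim _) e)⁻¹ ∈ (conjAut (qPlus m F)).ker ∧
        (spinO (evenForm_qPlus hodd hm) e = 1 ↔ Even m) := by
  classical
  set H := evenForm_qPlus (F := F) hodd hm
  obtain ⟨α, hα⟩ := FiniteField.exists_nonsquare (F := F) (fun h => H.two_ne (by
    have := ringChar.eq_iff.1 h
    exact CharTwo.two_eq_zero))
  have hα0 : α ≠ 0 := by rintro rfl; exact hα IsSquare.zero
  have hα1 : α ≠ 1 := by rintro rfl; exact hα IsSquare.one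
  let d : Fin m ⊕ Fin m → F := Sum.elim (fun _ => 1) (fun _ => α)
  have hdet : (Matrix.diagonal d).det = α ^ m := by
    simp [d, Matrix.det_diagonal, Fintype.prod_sum_type]
  have hsim : ∀ v, qPlus m F (Matrix.diagonal d *ᵥ v) = α * qPlus m F v := fun v => by
    simp only [coe_qPlus, Cfsg.quadFormPlus, Matrix.mulVec_diagonal, d, Sum.elim_inl, Sum.elim_inr,
      Finset.mul_sum]
    exact Finset.sum_congr rfl fun i _ => by ring
  obtain ⟨δ, hδ⟩ := exists_sim_of_matrix (Matrix.diagonal d) (by rw [hdet]; exact pow_ne_zero _ hα0)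
    (Units.mk0 α hα0) hsim
  have hμ : simMult δ = Units.mk0 α hα0 := simMult_eq H _ _ (by rw [hδ]; exact hsim)
  refine ⟨δ, by rwa [hμ], ?_, ?_, ?_⟩
  · rw [sgnHom_eq_one_iff, hδ, hdet, hμ]
    rfl
  · let L : (Fin m → F) →ₗ[F] (Fin m ⊕ Fin m → F) :=
      { toFun := fun w => Sum.elim w 0
        map_add' := fun u v => by ext x; rcases x with i | i <;> simp
        map_smul' := fun c v => by ext x; rcases x with i | i <;> simp }
    refine ⟨LinearMap.range L, ⟨?_, ?_⟩, ?_⟩
    · rw [LinearMap.finrank_range_of_inj (fun u v h => funext fun i => congrFun h (Sum.inl i)),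
        Module.finrank_pi, Fintype.card_fin]
    · rintro _ ⟨w, rfl⟩
      simp [L, coe_qPlus, Cfsg.quadFormPlus]
    · rw [Cfsg.imageSubmodule, ← LinearMap.range_comp]
      congr 1
      refine LinearMap.ext fun w => funext fun x => ?_
      rw [LinearMap.comp_apply, Matrix.toLin'_apply, hδ, Matrix.mulVec_diagonal]
      rcases x with i | i <;> simp [d, L]
  · obtain ⟨e, he, hk⟩ := exists_sq_isometry H δ
    refine ⟨e, hk, ?_⟩
    set w : Fin m ⊕ Fin m → F := Sum.elim (fun _ => 1 - α⁻¹) (fun _ => 1 - α) with hw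
    have he' : 1 - ((e : GL (Fin m ⊕ Fin m) F) : Matrix (Fin m ⊕ Fin m) (Fin m ⊕ Fin m) F) =
        Matrix.diagonal w := by
      rw [he, hμ, hδ, Matrix.diagonal_mul_diagonal, ← Matrix.diagonal_smul, ← Matrix.diagonal_one,
        Matrix.diagonal_sub]
      congr 1
      funext x
      rcases x with i | i <;> simp [d, w, hα0]
    have h1 : (1 : F) - α⁻¹ ≠ 0 := sub_ne_zero.2 fun h => hα1 (inv_eq_one.1 h.symm)
    have h2 : (1 : F) - α ≠ 0 := sub_ne_zero.2 (Ne.symm hα1)
    have hwd : (Matrix.diagonal w).det = ((1 - α⁻¹) * (1 - α)) ^ m := by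
      simp [w, Matrix.det_diagonal, Fintype.prod_sum_type, mul_pow]
    rw [spinO_eq_of_fixed_point_free H e (by
      rw [he', hwd]; exact pow_ne_zero _ (mul_ne_zero h1 h2)), he', hwd, det_gram_qPlus,
      ← mul_pow, show (1 - α⁻¹) * (1 - α) * -1 = ((1 - α) / α) ^ 2 * α by field_simp; ring,
      mul_pow, ← pow_mul, mul_comm 2 m, pow_mul]
    exact sqc_test (pow_ne_zero _ (div_ne_zero h2 hα0)) hα m

theorem inndiagPlus_eq : Cfsg.inndiagPOmegaPlus m F =
    cast (by rw [coe_qPlus]) ((sgnHom (evenForm_qPlus hodd hm)).ker.map (conjAut (qPlus m F))) := by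
  obtain ⟨δ, hδm, hδs, ⟨T, hT, hδT⟩, -⟩ := exists_delta_plus hodd hm
  have h := autSubgroup_diag (evenForm_qPlus hodd hm)
    (P := fun g => Cfsg.PreservesSingularClasses (⇑(qPlus m F)) (simMat g))
    (fun g => preserves_iff_of_delta (evenForm_qPlus hodd hm) hT δ hδm hδs hδT g)
  rw [← h]
  refine eq_of_heq (HEq.symm ((cast_heq _ _).trans ?_))
  rw [Cfsg.inndiagPOmegaPlus]
  unfold Cfsg.IsInnerDiagonalAutPOmegaPlus simMat simGrp
  rw [coe_qPlus]
  exact heq_of_eq (congrArg Cfsg.autSubgroupOf (funext fun β => propext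
    ⟨fun ⟨g, h⟩ => ⟨g.1, g.2, h⟩, fun ⟨g, hg, h⟩ => ⟨⟨g, hg⟩, h⟩⟩))

end Plus

/-! ### Minus type -/

section Minus

variable [Fintype F] (hodd : Odd (Fintype.card F)) {m : ℕ} (hm : 3 ≤ m) {a b : F}
  (hab : ∀ z₁ z₂ : F, z₁ ^ 2 + a * z₁ * z₂ + b * z₂ ^ 2 = 0 → z₁ = 0 ∧ z₂ = 0)
include hodd hm hab

theorem evenForm_qMinus : EvenForm (qMinus m F a b) (m + 1) :=
  ⟨qMinus_nondeg hab m, two_ne_zero_of_odd rfl hodd, by simp; ring, by omega⟩

theorem negMem_qMinus : NegMem (qMinus m F a b) ↔ (Even m ∧ Fintype.card F % 4 = 3) := by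
  unfold NegMem
  rw [coe_qMinus, neg_one_mem_minus_iff rfl hodd m a b hab, (pow_mod_four_cases hodd (m + 1)).2,
    Nat.odd_add_one, Nat.not_odd_iff_even]

theorem exists_delta_minus : ∃ δ : simGrp (qMinus m F a b),
    ¬ IsSquare ((simMult δ : Fˣ) : F) ∧ sgnHom (evenForm_qMinus hodd hm hab) δ = 1 ∧
      ∃ e : ↥(Cfsg.isometryGroup F (⇑(qMinus m F a b))),
        δ * δ * (Subgroup.inclusion (isometry_le_sim _) e)⁻¹ ∈ (conjAut (qMinus m F a b)).ker ∧
        (spinO (evenForm_qMinus hodd hm hab) e = 1 ↔ Odd m) := by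
  classical
  set H := evenForm_qMinus (F := F) hodd hm hab
  obtain ⟨α, hα⟩ := FiniteField.exists_nonsquare (F := F) (fun h => H.two_ne (by
    have := ringChar.eq_iff.1 h
    exact CharTwo.two_eq_zero))
  have hα0 : α ≠ 0 := by rintro rfl; exact hα IsSquare.zero
  have hα1 : α ≠ 1 := by rintro rfl; exact hα IsSquare.one
  obtain ⟨z, hz⟩ := exists_qBin_value hab α
  rw [qBin_apply] at hz
  set u := z 0
  set v := z 1
  have hv : v ≠ 0 := fun h => hα ⟨u, by rw [← hz, h]; ring⟩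
  have hD : 4 * b - a ^ 2 ≠ 0 := fun h => H.two_ne (by
    have h3 := hab (-a) 2 (by linear_combination h)
    exact h3.2)
  let A : Matrix (Fin 2) (Fin 2) F := !![u, -b * v; v, u + a * v]
  let d : Fin m ⊕ Fin m → F := Sum.elim (fun _ => 1) (fun _ => α)
  let M : Matrix ((Fin m ⊕ Fin m) ⊕ Fin 2) ((Fin m ⊕ Fin m) ⊕ Fin 2) F :=
    Matrix.fromBlocks (Matrix.diagonal d) 0 0 A
  have hdet : M.det = α ^ (m + 1) := by
    have hA : A.det = α := by
      simp only [A, Matrix.det_fin_two_of]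
      linear_combination hz
    simp [M, Matrix.det_fromBlocks_zero₂₁, Matrix.det_diagonal, d, Fintype.prod_sum_type, hA,
      pow_succ]
  have hsim : ∀ x, qMinus m F a b (M *ᵥ x) = α * qMinus m F a b x := fun x => by
    simp only [coe_qMinus, Cfsg.quadFormMinus, M, Matrix.fromBlocks_mulVec, Sum.elim_inl,
      Sum.elim_inr, Matrix.zero_mulVec, add_zero, zero_add, Matrix.mulVec_diagonal, d,
      Function.comp_apply, mul_add (α : F), Finset.mul_sum]
    congr 1
    · exact Finset.sum_congr rfl fun i _ => by ring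
    · simp [A, Matrix.mulVec, dotProduct, Fin.sum_univ_two, ← hz]
      ring
  obtain ⟨δ, hδ⟩ := exists_sim_of_matrix M (by rw [hdet]; exact pow_ne_zero _ hα0)
    (Units.mk0 α hα0) hsim
  have hμ : simMult δ = Units.mk0 α hα0 := simMult_eq H _ _ (by rw [hδ]; exact hsim)
  refine ⟨δ, by rwa [hμ], ?_, ?_⟩
  · rw [sgnHom_eq_one_iff, hδ, hdet, hμ]
    rfl
  obtain ⟨e, he, hk⟩ := exists_sq_isometry H δ
  refine ⟨e, hk, ?_⟩
  set w : Fin m ⊕ Fin m → F := Sum.elim (fun _ => 1 - α⁻¹) (fun _ => 1 - α) with hw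
  have he' : 1 - ((e : GL ((Fin m ⊕ Fin m) ⊕ Fin 2) F) :
      Matrix ((Fin m ⊕ Fin m) ⊕ Fin 2) ((Fin m ⊕ Fin m) ⊕ Fin 2) F) =
      Matrix.fromBlocks (Matrix.diagonal w) 0 0 (α⁻¹ • (α • 1 - A * A)) := by
    rw [he, hμ, hδ, ← Matrix.fromBlocks_one, Matrix.fromBlocks_multiply, Matrix.fromBlocks_smul,
      sub_eq_add_neg, Matrix.fromBlocks_neg, Matrix.fromBlocks_add]
    simp only [Units.val_mk0, Matrix.mul_zero, Matrix.zero_mul, add_zero, zero_add, smul_zero,
      neg_zero, ← sub_eq_add_neg, smul_sub, inv_smul_smul₀ hα0, Matrix.diagonal_mul_diagonal,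
      ← Matrix.diagonal_smul, ← Matrix.diagonal_one, Matrix.diagonal_sub]
    congr 2
    funext x
    rcases x with i | i <;> simp [d, w, hα0]
  have hA2 : (α • (1 : Matrix (Fin 2) (Fin 2) F) - A * A).det = α * (v ^ 2 * (4 * b - a ^ 2)) := by
    simp [A, Matrix.det_fin_two, Matrix.mul_apply, Fin.sum_univ_two, ← hz]
    ring
  have h1 : (1 : F) - α⁻¹ ≠ 0 := sub_ne_zero.2 fun h => hα1 (inv_eq_one.1 h.symm)
  have h2 : (1 : F) - α ≠ 0 := sub_ne_zero.2 (Ne.symm hα1)
  have hed : (1 - ((e : GL ((Fin m ⊕ Fin m) ⊕ Fin 2) F) :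
      Matrix ((Fin m ⊕ Fin m) ⊕ Fin 2) ((Fin m ⊕ Fin m) ⊕ Fin 2) F)).det =
      ((1 - α⁻¹) * (1 - α)) ^ m * (v ^ 2 * (4 * b - a ^ 2) / α) := by
    rw [he', Matrix.det_fromBlocks_zero₂₁, Matrix.det_smul, hA2, Fintype.card_fin]
    simp only [w, Matrix.det_diagonal, Fintype.prod_sum_type, Sum.elim_inl, Sum.elim_inr,
      Finset.prod_const, Finset.card_univ, Fintype.card_fin, mul_pow]
    field_simp
  rw [spinO_eq_of_fixed_point_free H e (by
    rw [hed]
    exact mul_ne_zero (pow_ne_zero _ (mul_ne_zero h1 h2))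
      (div_ne_zero (mul_ne_zero (pow_ne_zero _ hv) hD) hα0)), hed, det_gram_qMinus,
    show ((1 - α⁻¹) * (1 - α)) ^ m * (v ^ 2 * (4 * b - a ^ 2) / α) *
      ((-1) ^ m * (4 * b - a ^ 2)) =
        (((1 - α) / α) ^ m * (v * (4 * b - a ^ 2) / α)) ^ 2 * α ^ (m + 1) by
      rw [show ((1 - α⁻¹) * (1 - α)) = ((1 - α) / α) ^ 2 * α * -1 by field_simp; ring,
        mul_pow _ (-1 : F), mul_pow _ α, ← pow_mul ((1 - α) / α) 2 m, mul_comm 2 m, pow_mul,
        pow_succ α m]
      have : ((-1 : F) ^ m) * (-1) ^ m = 1 := by rw [← mul_pow]; simp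
      field_simp
      linear_combination this]
  rw [sqc_test (mul_ne_zero (pow_ne_zero _ (div_ne_zero h2 hα0))
    (div_ne_zero (mul_ne_zero hv hD) hα0)) hα, Nat.even_add_one, Nat.not_even_iff_odd]

theorem exists_quadratic_field :
    ∃ (K : Type u) (_ : Field K) (_ : Algebra F K), Module.finrank F K = 2 := by
  classical
  let f : Polynomial F := Polynomial.X ^ 2 + Polynomial.C a * Polynomial.X + Polynomial.C b
  have hmon : f.Monic := by unfold f; monicity!
  have hdeg : f.natDegree = 2 := by unfold f; compute_degree!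
  have hirr : Irreducible f := by
    rw [Polynomial.irreducible_iff_roots_eq_zero_of_degree_le_three (by omega) (by omega),
      Multiset.eq_zero_iff_forall_notMem]
    intro r hr
    have h := (Polynomial.mem_roots hmon.ne_zero).1 hr
    simp [Polynomial.IsRoot, f] at h
    exact one_ne_zero (hab r 1 (by linear_combination h)).2
  haveI : Fact (Irreducible f) := ⟨hirr⟩
  exact ⟨AdjoinRoot f, inferInstance, inferInstance, by
    rw [(AdjoinRoot.powerBasis hmon.ne_zero).finrank, AdjoinRoot.powerBasis_dim, hdeg]⟩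

theorem preserves_minus_iff (K : Type u) [Field K] [Algebra F K] (hK : Module.finrank F K = 2)
    (g : simGrp (qMinus m F a b)) :
    Cfsg.PreservesSingularClasses (Cfsg.quadFormMinus m K (algebraMap F K a) (algebraMap F K b))
        ((simMat g).map (algebraMap F K)) ↔ sgnHom (evenForm_qMinus hodd hm hab) g = 1 := by
  classical
  set f := algebraMap F K
  have hinj : Function.Injective f := f.injective
  haveI : Module.Finite F K := Module.finite_of_finrank_pos (by omega)
  haveI : Finite K := Module.finite_of_finite F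
  haveI := Fintype.ofFinite K
  have hcard : Fintype.card K = Fintype.card F ^ 2 := by
    rw [Module.card_eq_pow_finrank (K := F) (V := K), hK]
  have h2 : (2 : F) ≠ 0 := two_ne_zero_of_odd rfl hodd
  have h2K : (2 : K) ≠ 0 := fun h => h2 (hinj (by rw [map_ofNat, map_zero]; exact h))
  have hsq : ∀ x : F, IsSquare (f x) := by
    intro x
    by_cases hx : x = 0
    · rw [hx, map_zero]; exact IsSquare.zero
    have hcharK : ringChar K ≠ 2 := fun h => h2K (by
      have := ringChar.eq_iff.1 h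
      exact CharTwo.two_eq_zero)
    rw [FiniteField.isSquare_iff hcharK (fun h => hx (hinj (by rw [h, map_zero]))), hcard]
    obtain ⟨j, hj⟩ := hodd
    have he : Fintype.card F ^ 2 / 2 = (Fintype.card F - 1) * (j + 1) := by
      rw [hj, Nat.add_sub_cancel, show (2 * j + 1) ^ 2 = 2 * (2 * j * (j + 1)) + 1 by ring]
      omega
    rw [he, pow_mul, ← map_pow, FiniteField.pow_card_sub_one_eq_one x hx, map_one, one_pow]
  set Qk := qMinus m K (f a) (f b)
  have hdetG : (4 * f b - f a ^ 2) ≠ 0 := fun h => h2 (by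
    have h' : 4 * b - a ^ 2 = 0 :=
      hinj (by rw [map_sub, map_mul, map_pow, map_ofNat, map_zero]; exact h)
    exact (hab (-a) 2 (by linear_combination h')).2)
  have hnd : (polarBilin Qk).Nondegenerate :=
    (LinearMap.BilinForm.nondegenerate_iff_det_ne_zero _).2 (by
      rw [det_gram_qMinus]
      exact mul_ne_zero (pow_ne_zero _ (by simp)) hdetG)
  have HK : EvenForm Qk (m + 1) := ⟨hnd, h2K, by simp; ring, by omega⟩
  obtain ⟨r, hr⟩ : ∃ r : K, r ^ 2 + f a * r + f b = 0 := by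
    obtain ⟨s, hs⟩ := hsq (a ^ 2 - 4 * b)
    rw [map_sub, map_mul, map_pow, map_ofNat] at hs
    refine ⟨(s - f a) / 2, ?_⟩
    field_simp
    linear_combination -hs
  let L : ((Fin m → K) × K) →ₗ[K] ((Fin m ⊕ Fin m) ⊕ Fin 2 → K) :=
    { toFun := fun w => Sum.elim (Sum.elim w.1 0) ![r * w.2, w.2]
      map_add' := fun x y => by
        ext i
        rcases i with (i | i) | i
        · simp
        · simp
        · fin_cases i <;> simp [mul_add]
      map_smul' := fun c x => by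
        ext i
        rcases i with (i | i) | i
        · simp
        · simp
        · fin_cases i <;> simp [mul_left_comm] }
  have hT : IsSing Qk (m + 1) (LinearMap.range L) := by
    refine ⟨?_, ?_⟩
    · have hLinj : Function.Injective L := fun x y h => Prod.ext
        (funext fun i => congrFun h (Sum.inl (Sum.inl i))) (congrFun h (Sum.inr 1))
      rw [LinearMap.finrank_range_of_inj hLinj]
      simp
    · rintro _ ⟨w, rfl⟩
      simp [Qk, L, coe_qMinus, Cfsg.quadFormMinus]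
      linear_combination w.2 ^ 2 * hr
  have hbc : ∀ x : (Fin m ⊕ Fin m) ⊕ Fin 2 → F, Qk (f ∘ x) = f (qMinus m F a b x) := fun x => by
    simp [Qk, coe_qMinus, Cfsg.quadFormMinus, map_sum]
  have hpol : ∀ x y, polar Qk (f ∘ x) (f ∘ y) = f (polar (qMinus m F a b) x y) := fun x y => by
    rw [polar, polar, map_sub, map_sub, ← hbc, ← hbc, ← hbc]
    congr 3
    funext i
    simp
  set μ := ((simMult g : Fˣ) : F)
  set MK := (simMat g).map f with hMK
  have hB : LinearMap.BilinForm.comp (polarBilin Qk) (Matrix.toLin' MK) (Matrix.toLin' MK) =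
      f μ • polarBilin Qk := by
    refine LinearMap.ext_basis (Pi.basisFun K _) (Pi.basisFun K _) fun i j => ?_
    have hb : ∀ i, (Pi.basisFun K ((Fin m ⊕ Fin m) ⊕ Fin 2)) i = f ∘ Pi.single i 1 := fun i => by
      funext x
      simp [Pi.single_apply, apply_ite f]
    have hmv : ∀ x, MK *ᵥ (f ∘ x) = f ∘ (simMat g *ᵥ x) := fun x => by
      funext y
      rw [Function.comp_apply, RingHom.map_mulVec]
    simp only [LinearMap.BilinForm.comp_apply, Matrix.toLin'_apply, LinearMap.smul_apply,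
      QuadraticMap.polarBilin_apply_apply, smul_eq_mul, hb, hmv, hpol, polar_sim, map_mul]
    rfl
  have hspec : ∀ x, Qk (MK *ᵥ x) = f μ * Qk x := fun x => by
    have h := DFunLike.congr_fun (DFunLike.congr_fun hB x) x
    simp only [LinearMap.BilinForm.comp_apply, Matrix.toLin'_apply, LinearMap.smul_apply,
      QuadraticMap.polarBilin_apply_apply, smul_eq_mul, polar_self'] at h
    exact mul_left_cancel₀ h2K (by linear_combination h)
  have hdet : MK.det = f (simMat g).det := (RingHom.map_det f _).symm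
  have hdet0 : (simMat g).det ≠ 0 := Matrix.GeneralLinearGroup.det_ne_zero _
  have hμ0 : f μ ≠ 0 := fun h => (simMult g).ne_zero (hinj (by rw [h, map_zero]))
  obtain ⟨gK, hgK⟩ := exists_sim_of_matrix (Q := Qk) MK
    (by rw [hdet]; exact fun h => hdet0 (hinj (by rw [h, map_zero]))) (Units.mk0 _ hμ0) hspec
  have hmu : simMult gK = Units.mk0 _ hμ0 := simMult_eq HK _ _ (by rw [hgK]; exact hspec)
  have key := preserves_iff_of_square HK hT gK (by rw [hmu]; exact hsq μ)
  rw [hgK] at key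
  rw [← coe_qMinus, key, sgnHom_eq_one_iff, sgnHom_eq_one_iff, hgK, hmu, hdet, Units.val_mk0,
    ← map_pow]
  exact hinj.eq_iff

theorem inndiagMinus_eq : Cfsg.inndiagPOmegaMinus m F a b =
    cast (by rw [coe_qMinus]) ((sgnHom (evenForm_qMinus hodd hm hab)).ker.map
      (conjAut (qMinus m F a b))) := by
  have h := autSubgroup_diag (evenForm_qMinus hodd hm hab)
    (P := fun g => Cfsg.PreservesSingularClassesMinus m a b (simMat g))
    (fun g => ⟨fun ⟨K, _, _, hK, hp⟩ => (preserves_minus_iff hodd hm hab K hK g).1 hp, fun hs => by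
      obtain ⟨K, i1, i2, hK⟩ := exists_quadratic_field hodd hm hab
      exact ⟨K, i1, i2, hK, (preserves_minus_iff hodd hm hab K hK g).2 hs⟩⟩)
  rw [← h]
  refine eq_of_heq (HEq.symm ((cast_heq _ _).trans ?_))
  rw [Cfsg.inndiagPOmegaMinus]
  unfold Cfsg.IsInnerDiagonalAutPOmegaMinus simMat simGrp
  rw [coe_qMinus]
  exact heq_of_eq (congrArg Cfsg.autSubgroupOf (funext fun β => propext
    ⟨fun ⟨g, h⟩ => ⟨g.1, g.2, h⟩, fun ⟨g, hg, h⟩ => ⟨⟨g, hg⟩, h⟩⟩))

end Minus

end CfsgLib.Classical.Quad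

namespace CfsgLib.Classical.Quad

open scoped Matrix

universe u

variable {F : Type u} [Field F] {ι : Type} [Fintype ι] [DecidableEq ι]

/-- Moving a statement about the inner-diagonal subgroup to another spelling of the form. -/
theorem exists_hom_transfer {A : Type*} [Group A] {f f' : (ι → F) → F} (hf : f = f')
    (R : Subgroup (MulAut (Cfsg.POmega F f))) (R' : Subgroup (MulAut (Cfsg.POmega F f')))
    (hR : HEq R R')
    (h : ∃ φ : ↥R' →* A, Function.Surjective φ ∧
      φ.ker = (Cfsg.Inn (Cfsg.POmega F f')).subgroupOf R') :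
    ∃ φ : ↥R →* A, Function.Surjective φ ∧
      φ.ker = (Cfsg.Inn (Cfsg.POmega F f)).subgroupOf R := by
  subst hf
  obtain rfl := eq_of_heq hR
  exact h

end CfsgLib.Classical.Quad
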