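import Cfsg.Agent.Lib.Classical.Quad.SimilarityAction
import Mathlib.GroupTheory.SpecificGroups.KleinFour

/-!
The outer automorphism groups of `PΩ` induced by similarities, in even dimension and odd
characteristic.
-/

set_option autoImplicit false

namespace CfsgLib.Classical.Quad

open QuadraticMap (polar polarBilin)
open scoped Matrix

/-! ### Small groups -/

theorem zmod_two_mult_cases : ∀ a : Multiplicative (ZMod 2), a = 1 ∨ a = Multiplicative.ofAdd 1 := by
  decide

/-- A group of order eight with two commuting involutions exchanged by an outside element. -/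
theorem nonempty_dihedral_four {P : Type*} [Group P] (h8 : Nat.card P = 8)
    (χ : P →* Multiplicative (ZMod 2)) {a b t : P} (ha : a * a = 1) (hb : b * b = 1)
    (hab : a * b = b * a) (ha1 : a ≠ 1) (hne : a ≠ b) (ht : t * a * t⁻¹ = b) (hχa : χ a = 1)
    (hχt : χ t ≠ 1) : Nonempty (P ≃* DihedralGroup 4) := by
  have : Finite P := Nat.finite_of_card_ne_zero (by omega)
  have hχb : χ b = 1 := by rw [← ht, map_mul, map_mul, hχa, mul_one, map_inv, mul_inv_cancel]
  have hsurj : Function.Surjective χ := fun y => by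
    rcases zmod_two_mult_cases y with rfl | rfl
    · exact ⟨1, map_one χ⟩
    · exact ⟨t, (zmod_two_mult_cases (χ t)).resolve_left hχt⟩
  have hker : Nat.card χ.ker = 4 := by
    have h1 := Subgroup.card_mul_index χ.ker
    rw [Subgroup.index_ker, MonoidHom.range_eq_top.2 hsurj, Subgroup.card_top, h8,
      Nat.card_eq_fintype_card (α := Multiplicative (ZMod 2)), Fintype.card_multiplicative,
      ZMod.card] at h1
    omega
  have hb1 : b ≠ 1 := fun h => ha1 (by
    have := ht
    rw [h, mul_inv_eq_one] at this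
    exact mul_eq_left.1 this)
  have hab1 : a * b ≠ 1 := fun h => hne (by
    rw [← mul_one a, ← hb, ← mul_assoc, h, one_mul])
  have hA : ({1, a, b, a * b} : Set P) = (χ.ker : Set P) := by
    refine Set.eq_of_subset_of_ncard_le ?_ ?_ (Set.toFinite _)
    · rintro y (rfl | rfl | rfl | rfl)
      · exact one_mem _
      · exact hχa
      · exact hχb
      · show χ (a * b) = 1
        rw [map_mul, hχa, hχb, mul_one]
    · rw [← Nat.card_coe_set_eq]
      show Nat.card χ.ker ≤ _
      rw [hker, Set.ncard_insert_of_notMem, Set.ncard_insert_of_notMem, Set.ncard_pair]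
      · exact fun h => ha1 (mul_eq_right.1 h.symm)
      · rintro (h | h)
        · exact hne h
        · exact hb1 (mul_eq_left.1 h.symm)
      · rintro (h | h | h)
        exacts [ha1 h.symm, hb1 h.symm, hab1 h.symm]
  have htt : t * t ∈ ({1, a, b, a * b} : Set P) := by
    rw [hA]
    show χ (t * t) = 1
    rw [map_mul]
    exact (fun y : Multiplicative (ZMod 2) => show y * y = 1 by
      rcases zmod_two_mult_cases y with rfl | rfl <;> decide) (χ t)
  have ht' : t * b * t⁻¹ = a := by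
    have hc : Commute (t * t) a := by
      rcases htt with h | h | h | h
      · exact h.symm ▸ Commute.one_left a
      · exact h.symm ▸ Commute.refl a
      · exact h.symm ▸ hab.symm
      · exact h.symm ▸ (Commute.refl a).mul_left hab.symm
    rw [← ht, show t * (t * a * t⁻¹) * t⁻¹ = t * t * a * (t * t)⁻¹ by group, hc.eq, mul_inv_cancel_right]
  obtain ⟨u, hu, hua, hχu⟩ : ∃ u : P, u * u = 1 ∧ u * a * u⁻¹ = b ∧ χ u ≠ 1 := by
    rcases htt with h | h | h | h
    · exact ⟨t, h, ht, hχt⟩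
    · refine absurd ?_ hne
      rw [← ht, ← h]; group
    · refine absurd ?_ hne
      rw [← ht', ← h]; group
    · refine ⟨t * a, ?_, by rw [← ht]; group, by rwa [map_mul, hχa, mul_one]⟩
      calc t * a * (t * a) = (t * a * t⁻¹) * (t * t) * a := by group
        _ = b * (a * b) * a := by rw [ht, h]
        _ = 1 := by rw [hab, ← mul_assoc b b a, hb, one_mul, ha]
  set x := u * a with hx
  have hxx : x * x = b * a := by
    calc x * x = (u * a * u⁻¹) * (u * u) * a := by rw [hx]; group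
      _ = b * a := by rw [hua, hu, mul_one]
  have hba : b * a ≠ 1 := by rwa [← hab]
  have hx4 : x ^ 4 = 1 := by
    rw [show 4 = 2 * 2 from rfl, pow_mul, sq x, hxx, sq]
    calc b * a * (b * a) = b * (a * b) * a := by group
      _ = 1 := by rw [hab, ← mul_assoc b b a, hb, one_mul, ha]
  have hord : orderOf x = 4 :=
    orderOf_eq_prime_pow (p := 2) (n := 1) (by rw [pow_one, sq, hxx]; exact hba) hx4
  have hainv : a⁻¹ = a := inv_eq_of_mul_eq_one_right ha
  have huinv : u⁻¹ = u := inv_eq_of_mul_eq_one_right hu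
  have haxa : a * x * a = x⁻¹ := by
    rw [hx, mul_inv_rev, hainv, huinv, mul_assoc, mul_assoc, ha, mul_one]
  have hpow : ∀ n : ℕ, x ^ n * a = a * (x⁻¹) ^ n := by
    intro n
    have h1 : SemiconjBy a x⁻¹ x := by
      show a * x⁻¹ = x * a
      rw [← haxa, ← mul_assoc, ← mul_assoc, ha, one_mul]
    exact ((h1.pow_right n).eq).symm
  have e : ∀ i j : ZMod 4, x ^ (i + j).val = x ^ i.val * x ^ j.val := fun i j => by
    rw [← pow_add, ZMod.val_add, ← pow_mod_orderOf x (i.val + j.val), hord]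
  have esub : ∀ i j : ZMod 4, x ^ (j - i).val = (x⁻¹) ^ i.val * x ^ j.val := fun i j => by
    rw [inv_pow, eq_inv_mul_iff_mul_eq, ← e, add_sub_cancel]
  let F₀ : DihedralGroup 4 → P
    | .r i => x ^ i.val
    | .sr i => a * x ^ i.val
  have hF₁ : ∀ i, F₀ (.r i) = x ^ i.val := fun _ => rfl
  have hF₂ : ∀ i, F₀ (.sr i) = a * x ^ i.val := fun _ => rfl
  let f : DihedralGroup 4 →* P := MonoidHom.mk' F₀ (by
    rintro (i | i) (j | j)
    · rw [DihedralGroup.r_mul_r, hF₁, hF₁, hF₁, e]
    · rw [DihedralGroup.r_mul_sr, hF₁, hF₂, hF₂, ← mul_assoc, hpow, mul_assoc, esub]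
    · rw [DihedralGroup.sr_mul_r, hF₁, hF₂, hF₂, e, mul_assoc]
    · rw [DihedralGroup.sr_mul_sr, hF₁, hF₂, hF₂, mul_assoc, ← mul_assoc (x ^ i.val), hpow,
        mul_assoc, ← mul_assoc a a, ha, one_mul, esub])
  have hinj : Function.Injective f := by
    rw [injective_iff_map_eq_one]
    rintro (i | i) h
    · change x ^ i.val = 1 at h
      have := Nat.eq_zero_of_dvd_of_lt (orderOf_dvd_of_pow_eq_one h) (hord.symm ▸ ZMod.val_lt i)
      rw [(ZMod.val_eq_zero i).1 this]
      rfl
    · change a * x ^ i.val = 1 at h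
      exfalso
      have hc : a * x = x * a := by
        rw [eq_inv_of_mul_eq_one_left h]
        exact ((Commute.refl x).pow_left _).inv_left.eq
      apply hba
      rw [← hxx]
      nth_rw 1 [show x = x⁻¹ by rw [← haxa, hc, mul_assoc, ha, mul_one]]
      exact inv_mul_cancel x
  refine ⟨(MulEquiv.ofBijective f ((Nat.bijective_iff_injective_and_card f).2 ⟨hinj, ?_⟩)).symm⟩
  rw [DihedralGroup.nat_card, h8]

theorem sq_mul_eq_one {P : Type*} [Group P] (hc : ∀ a b : P, a * b = b * a) {x y : P}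
    (hx : x * x = 1) (hy : y * y = 1) : x * y * (x * y) = 1 := by
  rw [mul_assoc, ← mul_assoc y x y, hc y x, mul_assoc, hy, mul_one, hx]

/-! ### Invariants of a similarity -/

variable {F : Type*} [Field F] {ι : Type} [Fintype ι] [DecidableEq ι]

/-- The matrix of a similarity. -/
abbrev simMat {Q : QuadraticForm F (ι → F)} (g : simGrp Q) : Matrix ι ι F := (g : GL ι F)

variable {Q : QuadraticForm F (ι → F)} {k : ℕ}

/-- The multiplier of a similarity. -/
noncomputable def simMult (g : simGrp Q) : Fˣ := g.2.choose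

theorem simMult_spec (g : simGrp Q) (v : ι → F) : Q (simMat g *ᵥ v) = simMult g * Q v :=
  g.2.choose_spec v

theorem polar_sim (g : simGrp Q) (u v : ι → F) :
    polar Q (simMat g *ᵥ u) (simMat g *ᵥ v) = simMult g * polar Q u v := by
  simp only [polar, ← Matrix.mulVec_add, simMult_spec]
  ring

/-- Standing hypotheses: a non-degenerate form of dimension `2 k ≥ 8` in odd characteristic. -/
structure EvenForm (Q : QuadraticForm F (ι → F)) (k : ℕ) : Prop where
  nondeg : (polarBilin Q).Nondegenerate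
  two_ne : (2 : F) ≠ 0
  card_eq : Fintype.card ι = 2 * k
  four_le : 4 ≤ k

variable [Finite F] (H : EvenForm Q k)
include H

omit [Finite F] in
theorem EvenForm.seven_le : 7 ≤ Fintype.card ι := by
  have := H.card_eq; have := H.four_le; omega

omit [Finite F] in
theorem EvenForm.exists_ne : ∃ v, Q v ≠ 0 := by
  have : Nontrivial (ι → F) := Module.nontrivial_of_finrank_pos (R := F)
    (by rw [Module.finrank_pi]; have := H.seven_le; omega)
  exact exists_apply_ne_zero H.nondeg

theorem EvenForm.exists_value {c : F} (hc : c ≠ 0) : ∃ v, Q v = c :=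
  exists_apply_eq H.nondeg (by rw [Module.finrank_pi]; have := H.seven_le; omega) hc

omit [Finite F] in
theorem simMult_eq (g : simGrp Q) (c : Fˣ) (h : ∀ v, Q (simMat g *ᵥ v) = c * Q v) :
    simMult g = c := by
  obtain ⟨v, hv⟩ := H.exists_ne
  exact Units.ext (mul_right_cancel₀ hv (by rw [← simMult_spec, h]))

/-- The multiplier as a homomorphism. -/
noncomputable def multHom : simGrp Q →* Fˣ where
  toFun := simMult
  map_one' := simMult_eq H 1 1 fun v => by simp [simMat]
  map_mul' a b := simMult_eq H _ _ fun v => by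
    rw [Units.val_mul, mul_assoc, ← simMult_spec, ← simMult_spec, Matrix.mulVec_mulVec]
    rfl

omit [Finite F] in
theorem det_sq_sim (g : simGrp Q) : (simMat g).det ^ 2 = ((simMult g : F) ^ k) ^ 2 := by
  set b := Pi.basisFun F ι
  set M := simMat g with hM
  have h : (simMult g : F) • polarBilin Q =
      LinearMap.BilinForm.comp (polarBilin Q) (Matrix.toLin' M) (Matrix.toLin' M) :=
    LinearMap.ext fun u => LinearMap.ext fun v => (polar_sim g u v).symm
  have h2 := congrArg (fun B => (LinearMap.BilinForm.toMatrix b B).det) h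
  rw [LinearMap.BilinForm.toMatrix_comp b, map_smul, Matrix.det_smul, Matrix.det_mul,
    Matrix.det_mul, Matrix.det_transpose] at h2
  have h3 : (LinearMap.toMatrix b b (Matrix.toLin' M)).det = M.det := by
    rw [LinearMap.det_toMatrix, LinearMap.det_toLin']
  rw [h3] at h2
  have h0 := (LinearMap.BilinForm.nondegenerate_iff_det_ne_zero b).1 H.nondeg
  refine mul_left_cancel₀ h0 ?_
  rw [← pow_mul, mul_comm k 2, ← H.card_eq]
  linear_combination -h2

/-- Determinant divided by the middle power of the multiplier. -/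
noncomputable def sgnHom : simGrp Q →* Fˣ where
  toFun g := Matrix.GeneralLinearGroup.det (g : GL ι F) * (multHom H g ^ k)⁻¹
  map_one' := by simp
  map_mul' a b := by
    rw [Subgroup.coe_mul, map_mul, map_mul, mul_pow, mul_inv, mul_mul_mul_comm]

omit [Finite F] in
theorem sgnHom_eq_one_iff (g : simGrp Q) :
    sgnHom H g = 1 ↔ (simMat g).det = (simMult g : F) ^ k := by
  show (_ * _ : Fˣ) = 1 ↔ _
  rw [mul_inv_eq_one, Units.ext_iff]
  simp [multHom]

omit [Finite F] in
theorem sgnHom_cases (g : simGrp Q) : sgnHom H g = 1 ∨ sgnHom H g = -1 := by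
  rcases sq_eq_sq_iff_eq_or_eq_neg.1 (det_sq_sim H g) with h | h
  · exact Or.inl ((sgnHom_eq_one_iff H g).2 h)
  · refine Or.inr ?_
    show (_ * _ : Fˣ) = -1
    rw [mul_inv_eq_iff_eq_mul, Units.ext_iff]
    simpa [multHom] using h

omit [Finite F] in
theorem neg_one_units_ne : (-1 : Fˣ) ≠ 1 := fun h => H.two_ne (by
  have := congrArg (fun u : Fˣ => (u : F)) h
  simp only [Units.val_neg, Units.val_one] at this
  linear_combination -this)

/-- The sign as a bit. -/
noncomputable def sgnBit : simGrp Q →* Multiplicative (ZMod 2) :=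
  MonoidHom.mk' (fun g => by classical exact if sgnHom H g = 1 then 1 else Multiplicative.ofAdd 1)
    fun a b => by
      have hne := neg_one_units_ne H
      rcases sgnHom_cases H a with h | h <;> rcases sgnHom_cases H b with h' | h' <;>
        simp [map_mul, h, h', hne] <;> decide

omit [Finite F] in
theorem sgnBit_eq_one_iff (g : simGrp Q) : sgnBit H g = 1 ↔ sgnHom H g = 1 := by
  classical
  show (if sgnHom H g = 1 then (1 : Multiplicative (ZMod 2)) else _) = 1 ↔ _
  split_ifs with h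
  · exact iff_of_true rfl h
  · exact iff_of_false (by decide) h

/-- The square class of the multiplier, as a bit. -/
noncomputable def multBit : simGrp Q →* Multiplicative (ZMod 2) :=
  haveI : Fact (Nat.Prime 2) := ⟨Nat.prime_two⟩
  ((mulEquivOfPrimeCardEq (p := 2) (card_sqClass_of_odd H.two_ne)
    (by simp)).toMonoidHom.comp (toSqClass F)).comp (multHom H)

theorem multBit_eq_one_iff (g : simGrp Q) :
    multBit H g = 1 ↔ IsSquare ((simMult g : Fˣ) : F) := by
  simp only [multBit, MonoidHom.coe_comp, Function.comp_apply, MulEquiv.coe_toMonoidHom,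
    EmbeddingLike.map_eq_one_iff]
  rw [← sqc_eq_one_iff (simMult g).ne_zero, sqc_of_ne (simMult g).ne_zero, Units.mk0_val]
  rfl

/-- The two invariants together. -/
noncomputable def phi0 : simGrp Q →* Multiplicative (ZMod 2 × ZMod 2) :=
  (MulEquiv.prodMultiplicative (ZMod 2) (ZMod 2)).symm.toMonoidHom.comp
    ((multBit H).prod (sgnBit H))

theorem phi0_eq_one_iff (g : simGrp Q) :
    phi0 H g = 1 ↔ IsSquare ((simMult g : Fˣ) : F) ∧ sgnHom H g = 1 := by
  rw [phi0, MonoidHom.comp_apply, MulEquiv.coe_toMonoidHom, EmbeddingLike.map_eq_one_iff,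
    MonoidHom.prod_apply, Prod.mk_eq_one, multBit_eq_one_iff, sgnBit_eq_one_iff]

/-! ### Isometries -/

omit [Finite F] in
theorem mult_incl (h : ↥(Cfsg.isometryGroup F (⇑Q))) :
    simMult (Subgroup.inclusion (isometry_le_sim Q) h) = 1 :=
  simMult_eq H _ 1 fun v => by rw [Units.val_one, one_mul]; exact h.2 v v

omit [Finite F] in
theorem sgn_incl (h : ↥(Cfsg.isometryGroup F (⇑Q))) :
    sgnHom H (Subgroup.inclusion (isometry_le_sim Q) h) = Matrix.GeneralLinearGroup.det (h : GL ι F) := by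
  show _ * (simMult _ ^ k)⁻¹ = _
  rw [mult_incl H, one_pow, inv_one, mul_one]
  rfl

omit [Finite F] in
theorem mem_soS_iff (g : simGrp Q) : g ∈ soS Q ↔ simMult g = 1 ∧ sgnHom H g = 1 := by
  constructor
  · rintro ⟨h1, h2⟩
    have e : Subgroup.inclusion (isometry_le_sim Q) ⟨(g : GL ι F), h1⟩ = g := rfl
    rw [← e, mult_incl H, sgn_incl H]
    exact ⟨rfl, h2⟩
  · rintro ⟨h1, h2⟩
    have hi : (g : GL ι F) ∈ Cfsg.isometryGroup F (⇑Q) := fun u v => by
      show Q (simMat g *ᵥ u) = Q u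
      rw [simMult_spec, h1, Units.val_one, one_mul]
    have e : Subgroup.inclusion (isometry_le_sim Q) ⟨(g : GL ι F), hi⟩ = g := rfl
    rw [← e, sgn_incl H] at h2
    exact ⟨hi, h2⟩

theorem scalar_invariants {z : simGrp Q} (hz : z ∈ (conjAut Q).ker) :
    IsSquare ((simMult z : Fˣ) : F) ∧ sgnHom H z = 1 := by
  rw [ker_conjAut H.nondeg H.seven_le] at hz
  obtain ⟨c, hc⟩ := (Cfsg.Geo.mem_scalars_iff _).1 hz
  have hc' : simMat z = (c : F) • 1 := hc
  have hm : simMult z = c * c := simMult_eq H _ _ fun v => by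
    rw [hc', Matrix.smul_mulVec, Matrix.one_mulVec, apply_smul, Units.val_mul]
  rw [sgnHom_eq_one_iff, hm, hc', Matrix.det_smul, Matrix.det_one, H.card_eq, mul_one,
    Units.val_mul, pow_mul, sq]
  exact ⟨⟨_, rfl⟩, rfl⟩

theorem ker_phi0 : (phi0 H).ker = soS Q ⊔ (conjAut Q).ker := by
  refine le_antisymm (fun g hg => ?_) (sup_le ?_ ?_)
  · obtain ⟨⟨c, hc⟩, hs⟩ := (phi0_eq_one_iff H g).1 hg
    have hc0 : c ≠ 0 := fun e => (simMult g).ne_zero (by rw [hc, e, mul_zero])
    set zg : GL ι F := Units.map (Matrix.scalar ι : F →+* Matrix ι ι F).toMonoidHom (Units.mk0 c hc0)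
    have hzg : (zg : Matrix ι ι F) = c • 1 := by simp [zg, Matrix.smul_one_eq_diagonal]
    have hzs : zg ∈ simGrp Q := ⟨Units.mk0 (c * c) (mul_ne_zero hc0 hc0), fun v => by
      rw [hzg, Matrix.smul_mulVec, Matrix.one_mulVec, apply_smul]; rfl⟩
    have hz : (⟨zg, hzs⟩ : simGrp Q) ∈ (conjAut Q).ker := by
      rw [ker_conjAut H.nondeg H.seven_le]; exact ⟨Units.mk0 c hc0, rfl⟩
    have hmz : simMult (⟨zg, hzs⟩ : simGrp Q) = simMult g := simMult_eq H _ _ fun v => by
      show Q ((zg : Matrix ι ι F) *ᵥ v) = _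
      rw [hzg, hc, Matrix.smul_mulVec, Matrix.one_mulVec, apply_smul]
    rw [← mul_inv_cancel_right g (⟨zg, hzs⟩⁻¹ : simGrp Q), inv_inv]
    refine Subgroup.mul_mem_sup ((mem_soS_iff H _).2 ⟨?_, ?_⟩) hz
    · show multHom H (g * _) = 1
      rw [map_mul, map_inv]
      exact mul_inv_eq_one.2 hmz.symm
    · rw [map_mul, map_inv, hs, (scalar_invariants H hz).2, inv_one, mul_one]
  · intro g hg
    obtain ⟨h1, h2⟩ := (mem_soS_iff H g).1 hg
    exact (phi0_eq_one_iff H g).2 ⟨by rw [h1]; simp, h2⟩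
  · exact fun g hg => (phi0_eq_one_iff H g).2 (scalar_invariants H hg)

/-- The spinor norm of a matrix isometry. -/
noncomputable def spinO : ↥(Cfsg.isometryGroup F (⇑Q)) →* SqClass F :=
  (MonoidHom.snd _ _).comp (invHomM H.nondeg (hex_of_two_ne_zero H.two_ne (n := Fintype.card ι)))

omit [Finite F] in
theorem parity_iff_det (g : OQ Q) :
    (invariants g).1 = 1 ↔ LinearEquiv.det (g : (ι → F) ≃ₗ[F] (ι → F)) = 1 := by
  classical
  have hR := reflGroup_pi_eq_top H.nondeg (hex_of_two_ne_zero H.two_ne (n := Fintype.card ι))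
  let s : Multiplicative (ZMod 2) →* Fˣ :=
    MonoidHom.mk' (fun a => if a = 1 then 1 else -1) fun a b => by
      rcases zmod_two_mult_cases a with rfl | rfl <;> rcases zmod_two_mult_cases b with rfl | rfl <;>
        simp [show Multiplicative.ofAdd (1 : ZMod 2) * Multiplicative.ofAdd 1 = 1 from by decide]
  have key : (LinearEquiv.det.comp (OQ Q).subtype) =
      s.comp ((MonoidHom.fst _ _).comp (invHom H.nondeg hR)) := by
    refine MonoidHom.eq_of_eqOn_dense (s := {r | ∃ (v : ι → F) (hv : Q v ≠ 0), r = refl hv}) hR ?_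
    rintro _ ⟨v, hv, rfl⟩
    simp only [MonoidHom.coe_comp, Function.comp_apply, invHom_refl, MonoidHom.coe_fst,
      Subgroup.coe_subtype]
    refine Units.ext ?_
    rw [LinearEquiv.coe_det]
    show LinearMap.det (reflMap Q v) = ((if _ then (1 : Fˣ) else -1 : Fˣ) : F)
    rw [det_refl hv, if_neg (by decide)]
    simp
  have hg := DFunLike.congr_fun key g
  simp only [MonoidHom.coe_comp, Function.comp_apply, Subgroup.coe_subtype] at hg
  rw [hg]
  show _ ↔ (if (invariants g).1 = 1 then (1 : Fˣ) else -1) = 1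
  split_ifs with h
  · exact iff_of_true h rfl
  · exact iff_of_false h (neg_one_units_ne H)

theorem mem_Omega_iff (h : ↥(Cfsg.isometryGroup F (⇑Q))) :
    h ∈ Cfsg.Omega F (⇑Q) ↔ Matrix.GeneralLinearGroup.det (h : GL ι F) = 1 ∧ spinO H h = 1 := by
  rw [← ker_invHomM H.nondeg (hex_of_two_ne_zero H.two_ne (n := Fintype.card ι))
    (by have := H.seven_le; omega), MonoidHom.mem_ker, Prod.ext_iff]
  refine and_congr ?_ Iff.rfl
  show (invariants (oEquiv Q h)).1 = 1 ↔ _
  rw [parity_iff_det H, Units.ext_iff, Units.ext_iff, Matrix.GeneralLinearGroup.val_det_apply,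
    LinearEquiv.coe_det, ← LinearMap.det_toLin']
  rfl

/-- A reflection as a matrix isometry. -/
noncomputable def rO {v : ι → F} (hv : Q v ≠ 0) : ↥(Cfsg.isometryGroup F (⇑Q)) :=
  (oEquiv Q).symm (refl hv)

omit [Finite F] H in
theorem rO_mulVec {v : ι → F} (hv : Q v ≠ 0) (z : ι → F) :
    ((rO hv : GL ι F) : Matrix ι ι F) *ᵥ z = reflMap Q v z := by
  rw [← oEquiv_apply, rO, MulEquiv.apply_symm_apply]
  rfl

omit [Finite F] H in
theorem rO_mul_self {v : ι → F} (hv : Q v ≠ 0) : rO hv * rO hv = 1 := by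
  rw [rO, ← map_mul, refl_mul_self, map_one]

omit [Finite F] H in
theorem det_rO {v : ι → F} (hv : Q v ≠ 0) :
    Matrix.GeneralLinearGroup.det (rO hv : GL ι F) = -1 := by
  refine Units.ext ?_
  rw [Matrix.GeneralLinearGroup.val_det_apply, ← LinearMap.det_toLin',
    show Matrix.toLin' ((rO hv : GL ι F) : Matrix ι ι F) = reflMap Q v from
      LinearMap.ext fun z => rO_mulVec hv z, det_refl hv]
  simp

omit [Finite F] in
theorem spinO_rO {v : ι → F} (hv : Q v ≠ 0) : spinO H (rO hv) = sqc (Q v) := by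
  simp only [spinO, invHomM, MonoidHom.coe_comp, Function.comp_apply, MulEquiv.coe_toMonoidHom,
    rO, MulEquiv.apply_symm_apply, invHom_refl, MonoidHom.coe_snd]

omit [Finite F] H in
theorem conjO_rO (g : simGrp Q) {v : ι → F} (hv : Q v ≠ 0) (hv' : Q (simMat g *ᵥ v) ≠ 0) :
    conjO Q g (rO hv) = rO hv' := by
  refine Subtype.ext ?_
  rw [conjO_apply, mul_inv_eq_iff_eq_mul]
  refine Units.ext (Matrix.toLin'.injective (LinearMap.ext fun z => ?_))
  simp only [Units.val_mul, Matrix.toLin'_apply, ← Matrix.mulVec_mulVec, rO_mulVec, reflMap_apply,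
    Matrix.mulVec_sub, Matrix.mulVec_smul]
  rw [polar_sim, simMult_spec, mul_inv, mul_mul_mul_comm, inv_mul_cancel₀ (simMult g).ne_zero,
    one_mul]

/-- Whether `-1` lies in `Ω`. -/
abbrev NegMem (Q : QuadraticForm F (ι → F)) : Prop :=
  ∃ g : ↥(Cfsg.isometryGroup F (⇑Q)), g ∈ Cfsg.Omega F (⇑Q) ∧
    ((g : GL ι F) : Matrix ι ι F) = -1

theorem exists_negO : ∃ e : ↥(Cfsg.isometryGroup F (⇑Q)),
    ((e : GL ι F) : Matrix ι ι F) = -1 ∧ Matrix.GeneralLinearGroup.det (e : GL ι F) = 1 := by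
  refine ⟨(oEquiv Q).symm (negIsom H.nondeg), ?_⟩
  have h : (((oEquiv Q).symm (negIsom H.nondeg) : GL ι F) : Matrix ι ι F) = -1 :=
    Matrix.toLin'.injective (LinearMap.ext fun z => by
      rw [Matrix.toLin'_apply, Matrix.toLin'_apply, ← oEquiv_apply, MulEquiv.apply_symm_apply,
        negIsom_apply, Matrix.neg_mulVec, Matrix.one_mulVec])
  refine ⟨h, Units.ext ?_⟩
  rw [Matrix.GeneralLinearGroup.val_det_apply, h, Matrix.det_neg, Matrix.det_one, H.card_eq,
    (even_two_mul k).neg_one_pow, one_mul, Units.val_one]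

theorem sqClass_mul_of_ne {a b : SqClass F} (ha : a ≠ 1) (hb : b ≠ 1) : a = b := by
  have h := card_sqClass_of_odd H.two_ne
  have : Finite (SqClass F) := Nat.finite_of_card_ne_zero (by omega)
  exact ((Nat.card_eq_two_iff' (1 : SqClass F)).1 h).unique ha hb

/-- `Ω` together with the scalars. -/
abbrev innS (Q : QuadraticForm F (ι → F)) : Subgroup (simGrp Q) :=
  (Cfsg.Inn (Cfsg.POmega F (⇑Q))).comap (conjAut Q)

omit [Finite F] H in
theorem innS_eq : innS Q = omS Q ⊔ (conjAut Q).ker := by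
  rw [innS, inn_eq, Subgroup.comap_map_eq]

omit [Finite F] H in
theorem omega_mem_innS {h : ↥(Cfsg.isometryGroup F (⇑Q))} (hh : h ∈ Cfsg.Omega F (⇑Q)) :
    Subgroup.inclusion (isometry_le_sim Q) h ∈ innS Q := by
  rw [innS_eq]
  exact Subgroup.mem_sup_left ⟨h, hh, rfl⟩

theorem omS_le_soS : omS Q ≤ soS Q := by
  rintro g ⟨h, hh, he⟩
  have h1 := (mem_Omega_iff H h).1 hh
  show (g : GL ι F) ∈ Cfsg.specialIsometryGL F (⇑Q)
  rw [← show (h : GL ι F) = g from he]
  exact ⟨h.2, h1.1⟩

theorem innS_le_ker_phi0 : innS Q ≤ (phi0 H).ker := by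
  rw [innS_eq, ker_phi0]
  exact sup_le_sup_right (omS_le_soS H) _

theorem incl_mem_innS_iff (h : ↥(Cfsg.isometryGroup F (⇑Q))) :
    Subgroup.inclusion (isometry_le_sim Q) h ∈ innS Q ↔
      Matrix.GeneralLinearGroup.det (h : GL ι F) = 1 ∧ (spinO H h = 1 ∨ ¬ NegMem Q) := by
  constructor
  · intro hh
    refine ⟨?_, ?_⟩
    · rw [← sgn_incl H]
      exact ((phi0_eq_one_iff H _).1 (innS_le_ker_phi0 H hh)).2
    · rw [innS_eq, Subgroup.mem_sup_of_normal_right] at hh
      obtain ⟨y, ⟨ω, hω, hy⟩, z, hz, e⟩ := hh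
      rw [ker_conjAut H.nondeg H.seven_le] at hz
      obtain ⟨c, hc⟩ := (Cfsg.Geo.mem_scalars_iff _).1 hz
      set z' := ω⁻¹ * h with hz'
      have hzz : (z' : GL ι F) = (z : GL ι F) := by
        have e' : (y : GL ι F) * (z : GL ι F) = h := congrArg Subtype.val e
        rw [← show (ω : GL ι F) = y from hy] at e'
        rw [hz', Subgroup.coe_mul, Subgroup.coe_inv, ← e', inv_mul_cancel_left]
      have hh' : h = ω * z' := by rw [hz', mul_inv_cancel_left]
      have hzm : ((z' : GL ι F) : Matrix ι ι F) = (c : F) • 1 := by rw [hzz]; exact hc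
      by_cases hN : NegMem Q
      · left
        rw [hh', map_mul, ((mem_Omega_iff H ω).1 hω).2, one_mul]
        obtain ⟨v, hv⟩ := H.exists_ne
        have hcc : (c : F) * c = 1 := mul_right_cancel₀ hv (by
          have := z'.2 v v
          change Q (((z' : GL ι F) : Matrix ι ι F) *ᵥ v) = Q v at this
          rw [hzm, Matrix.smul_mulVec, Matrix.one_mulVec, apply_smul] at this
          rw [this, one_mul])
        rcases mul_self_eq_one_iff.1 hcc with hc1 | hc1
        · have : z' = 1 := Subtype.ext (Units.ext (by rw [hzm, hc1, one_smul]; rfl))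
          rw [this, map_one]
        · obtain ⟨e₀, he₀, he₀m⟩ := hN
          have : z' = e₀ := Subtype.ext (Units.ext (by rw [hzm, hc1, he₀m, neg_one_smul]))
          rw [this]
          exact ((mem_Omega_iff H e₀).1 he₀).2
      · exact Or.inr hN
  · rintro ⟨hd, hs⟩
    by_cases hsh : spinO H h = 1
    · exact omega_mem_innS ((mem_Omega_iff H h).2 ⟨hd, hsh⟩)
    · obtain ⟨e, he, hed⟩ := exists_negO H
      have hN := hs.resolve_left hsh
      have hes : spinO H e ≠ 1 := fun he1 => hN ⟨e, (mem_Omega_iff H e).2 ⟨hed, he1⟩, he⟩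
      have hm : h * e ∈ Cfsg.Omega F (⇑Q) := (mem_Omega_iff H _).2 ⟨by
        rw [Subgroup.coe_mul, map_mul, hd, hed, one_mul],
        by rw [map_mul, sqClass_mul_of_ne H hsh hes, sqClass_mul_self]⟩
      have he' : Subgroup.inclusion (isometry_le_sim Q) e ∈ innS Q := by
        rw [innS_eq]
        refine Subgroup.mem_sup_right ?_
        rw [ker_conjAut H.nondeg H.seven_le]
        exact (Cfsg.Geo.mem_scalars_iff _).2 ⟨-1, by
          show ((e : GL ι F) : Matrix ι ι F) = _
          rw [he, Units.val_neg, Units.val_one, neg_one_smul]⟩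
      have := mul_mem (omega_mem_innS hm) (inv_mem he')
      rwa [map_mul, mul_inv_cancel_right] at this

/-! ### `PSO` over `Inn` -/

theorem soS_elem (g : simGrp Q) (hg : g ∈ soS Q) : ∃ h : ↥(Cfsg.isometryGroup F (⇑Q)),
    Matrix.GeneralLinearGroup.det (h : GL ι F) = 1 ∧
      Subgroup.inclusion (isometry_le_sim Q) h = g :=
  ⟨⟨g, hg.1⟩, hg.2, rfl⟩

theorem soS_le_innS (hN : ¬ NegMem Q) : soS Q ≤ innS Q := fun g hg => by
  obtain ⟨h, hd, rfl⟩ := soS_elem H g hg
  exact (incl_mem_innS_iff H h).2 ⟨hd, Or.inr hN⟩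

theorem ker_phi0_eq_innS (hN : ¬ NegMem Q) : (phi0 H).ker = innS Q := by
  refine le_antisymm ?_ (innS_le_ker_phi0 H)
  rw [ker_phi0]
  exact sup_le (soS_le_innS H hN) (by rw [innS_eq]; exact le_sup_right)

theorem exists_so_nonsquare : ∃ h : ↥(Cfsg.isometryGroup F (⇑Q)),
    Matrix.GeneralLinearGroup.det (h : GL ι F) = 1 ∧ spinO H h ≠ 1 := by
  obtain ⟨α, hα⟩ := FiniteField.exists_nonsquare (F := F) (fun h => H.two_ne (by
    have := ringChar.eq_iff.1 h
    exact CharTwo.two_eq_zero))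
  have hα0 : α ≠ 0 := by rintro rfl; exact hα IsSquare.zero
  obtain ⟨v, hv⟩ := H.exists_value (one_ne_zero (α := F))
  obtain ⟨w, hw⟩ := H.exists_value hα0
  refine ⟨rO (hv.trans_ne one_ne_zero) * rO (hw.trans_ne hα0), ?_, ?_⟩
  · rw [Subgroup.coe_mul, map_mul, det_rO, det_rO, neg_one_mul, neg_neg]
  · rw [map_mul, spinO_rO, spinO_rO, hv, hw, sqc_one, one_mul, Ne, sqc_eq_one_iff hα0]
    exact hα

theorem relIndex_pso_of_not (hN : ¬ NegMem Q) :
    (Cfsg.Inn (Cfsg.POmega F (⇑Q))).relIndex (Cfsg.psoAut F (⇑Q)) = 1 := by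
  rw [Subgroup.relIndex_eq_one, psoAut_eq, Subgroup.map_le_iff_le_comap]
  exact soS_le_innS H hN

theorem relIndex_pso_of_mem (hN : NegMem Q) :
    (Cfsg.Inn (Cfsg.POmega F (⇑Q))).relIndex (Cfsg.psoAut F (⇑Q)) = 2 := by
  obtain ⟨h₀, hd₀, hs₀⟩ := exists_so_nonsquare H
  rw [psoAut_eq, Subgroup.relIndex_eq_two_iff_exists_notMem_and]
  refine ⟨conjAut Q (Subgroup.inclusion (isometry_le_sim Q) h₀),
    Subgroup.mem_map_of_mem _ ⟨h₀.2, hd₀⟩, fun h => ?_, ?_⟩
  · exact hs₀ (((incl_mem_innS_iff H h₀).1 h).2.resolve_right (not_not.2 hN))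
  · rintro _ ⟨g, hg, rfl⟩
    obtain ⟨h, hd, rfl⟩ := soS_elem H g hg
    by_cases hs : spinO H h = 1
    · exact Or.inr ((incl_mem_innS_iff H h).2 ⟨hd, Or.inl hs⟩)
    · left
      rw [← map_mul, ← map_mul]
      exact (incl_mem_innS_iff H _).2 ⟨by rw [Subgroup.coe_mul, map_mul, hd, hd₀, one_mul],
        Or.inl (by rw [map_mul, sqClass_mul_of_ne H hs hs₀, sqClass_mul_self])⟩

/-! ### The quotients -/

variable (δ : simGrp Q) (hδm : ¬ IsSquare ((simMult δ : Fˣ) : F)) (hδs : sgnHom H δ = 1)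
include δ hδm hδs

theorem phi0_surjective : Function.Surjective (phi0 H) := by
  obtain ⟨v, hv⟩ := H.exists_ne
  set r := Subgroup.inclusion (isometry_le_sim Q) (rO hv)
  have hr1 : multBit H r = 1 := by rw [multBit_eq_one_iff, mult_incl H]; simp
  have hr2 : sgnBit H r = Multiplicative.ofAdd 1 := (zmod_two_mult_cases _).resolve_left fun h => by
    rw [sgnBit_eq_one_iff, sgn_incl H, det_rO] at h
    exact neg_one_units_ne H h
  have hd1 : multBit H δ = Multiplicative.ofAdd 1 := (zmod_two_mult_cases _).resolve_left fun h =>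
    hδm ((multBit_eq_one_iff H δ).1 h)
  have hd2 : sgnBit H δ = 1 := (sgnBit_eq_one_iff H δ).2 hδs
  intro y
  obtain ⟨⟨a, b⟩, rfl⟩ := (MulEquiv.prodMultiplicative (ZMod 2) (ZMod 2)).symm.surjective y
  rcases zmod_two_mult_cases a with rfl | rfl <;> rcases zmod_two_mult_cases b with rfl | rfl
  · exact ⟨1, by simp [phi0]⟩
  · exact ⟨r, by simp [phi0, hr1, hr2]⟩
  · exact ⟨δ, by simp [phi0, hd1, hd2]⟩
  · exact ⟨δ * r, by simp [phi0, hr1, hr2, hd1, hd2]⟩

theorem exists_pgo_mod_pso :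
    ∃ φ : ↥(Cfsg.pgoAut F (⇑Q)) →* Multiplicative (ZMod 2 × ZMod 2), Function.Surjective φ ∧
      φ.ker = (Cfsg.psoAut F (⇑Q)).subgroupOf (Cfsg.pgoAut F (⇑Q)) := by
  obtain ⟨φ, h1, h2⟩ := exists_hom_range (conjAut Q) (phi0 H) (phi0_surjective H δ hδm hδs)
    (soS Q) (ker_phi0 H) (Cfsg.pgoAut F (⇑Q)) (pgoAut_eq Q)
  exact ⟨φ, h1, by rw [h2, psoAut_eq]⟩

theorem exists_pgo_mod_inn_of_not (hN : ¬ NegMem Q) :
    ∃ φ : ↥(Cfsg.pgoAut F (⇑Q)) →* Multiplicative (ZMod 2 × ZMod 2), Function.Surjective φ ∧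
      φ.ker = (Cfsg.Inn (Cfsg.POmega F (⇑Q))).subgroupOf (Cfsg.pgoAut F (⇑Q)) := by
  obtain ⟨φ, h1, h2⟩ := exists_hom_range (conjAut Q) (phi0 H) (phi0_surjective H δ hδm hδs)
    (omS Q) (by rw [ker_phi0_eq_innS H hN, innS_eq]) (Cfsg.pgoAut F (⇑Q)) (pgoAut_eq Q)
  exact ⟨φ, h1, by rw [h2, inn_eq]⟩

omit δ hδm hδs in
theorem relIndex_innS_ker_phi0 (hN : NegMem Q) : (innS Q).relIndex (phi0 H).ker = 2 := by
  rw [innS_eq, ker_phi0, ← Subgroup.relIndex_map_map, ← inn_eq, ← psoAut_eq]
  exact relIndex_pso_of_mem H hN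

theorem exists_pgo_mod_inn_of_mem (hN : NegMem Q) :
    ∃ φ : ↥(Cfsg.pgoAut F (⇑Q)) →* DihedralGroup 4, Function.Surjective φ ∧
      φ.ker = (Cfsg.Inn (Cfsg.POmega F (⇑Q))).subgroupOf (Cfsg.pgoAut F (⇑Q)) := by
  have h8 : Nat.card (simGrp Q ⧸ innS Q) = 8 := by
    rw [← Subgroup.index_eq_card, ← Subgroup.relIndex_mul_index (innS_le_ker_phi0 H),
      relIndex_innS_ker_phi0 H hN, Subgroup.index_ker,
      MonoidHom.range_eq_top.2 (phi0_surjective H δ hδm hδs), Subgroup.card_top]
    simp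
  have hle : innS Q ≤ (multBit H).ker := fun g hg =>
    (multBit_eq_one_iff H g).2 ((phi0_eq_one_iff H g).1 (innS_le_ker_phi0 H hg)).1
  set α := ((simMult δ : Fˣ) : F) with hα
  have hα0 : α ≠ 0 := (simMult δ).ne_zero
  obtain ⟨v, hv⟩ := H.exists_value (one_ne_zero (α := F))
  obtain ⟨w, hw⟩ := H.exists_value hα0
  have hv0 : Q v ≠ 0 := hv.trans_ne one_ne_zero
  have hw0 : Q w ≠ 0 := hw.trans_ne hα0
  let ι' := Subgroup.inclusion (isometry_le_sim Q)
  let m := QuotientGroup.mk' (innS Q)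
  have heq : ∀ x y : ↥(Cfsg.isometryGroup F (⇑Q)), x⁻¹ * y ∈ Cfsg.Omega F (⇑Q) →
      m (ι' x) = m (ι' y) := fun x y h => by
    rw [QuotientGroup.mk'_apply, QuotientGroup.mk'_apply, QuotientGroup.eq, ← map_inv, ← map_mul]
    exact omega_mem_innS h
  obtain ⟨e⟩ := nonempty_dihedral_four h8 (QuotientGroup.lift (innS Q) (multBit H) hle)
    (a := m (ι' (rO hv0))) (b := m (ι' (rO hw0))) (t := m δ)
    (by rw [← map_mul, ← map_mul, rO_mul_self, map_one, map_one])
    (by rw [← map_mul, ← map_mul, rO_mul_self, map_one, map_one])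
    (by
      rw [← map_mul, ← map_mul, ← map_mul, ← map_mul]
      refine heq _ _ ((mem_Omega_iff H _).2 ⟨?_, ?_⟩)
      · simp only [Subgroup.coe_mul, Subgroup.coe_inv, map_mul, map_inv, det_rO]
        simp
      · rw [map_mul, map_inv, map_mul, map_mul, mul_comm (spinO H (rO hv0)), inv_mul_cancel])
    (fun h => by
      rw [QuotientGroup.mk'_apply, QuotientGroup.eq_one_iff, incl_mem_innS_iff H, det_rO] at h
      exact neg_one_units_ne H h.1)
    (fun h => by
      rw [QuotientGroup.mk'_apply, QuotientGroup.mk'_apply, QuotientGroup.eq, ← map_inv, ← map_mul,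
        incl_mem_innS_iff H, map_mul, map_inv, spinO_rO, spinO_rO, hv, hw, sqc_one, inv_one,
        one_mul, sqc_eq_one_iff hα0] at h
      exact (h.2.resolve_right (not_not.2 hN)) |> hδm)
    (by
      have hv' : Q (simMat δ *ᵥ v) ≠ 0 := by rw [simMult_spec, hv, mul_one]; exact hα0
      have hc : δ * ι' (rO hv0) * δ⁻¹ = ι' (rO hv') := by
        rw [← conjO_rO δ hv0 hv']; exact Subtype.ext rfl
      rw [← map_inv, ← map_mul, ← map_mul, hc]
      refine heq _ _ ((mem_Omega_iff H _).2 ⟨?_, ?_⟩)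
      · rw [Subgroup.coe_mul, Subgroup.coe_inv, map_mul, map_inv, det_rO, det_rO, inv_mul_cancel]
      · rw [map_mul, map_inv, spinO_rO, spinO_rO, simMult_spec, hv, hw, mul_one, inv_mul_cancel])
    ((multBit_eq_one_iff H _).2 (by rw [mult_incl H]; simp))
    (fun h => hδm ((multBit_eq_one_iff H δ).1 h))
  let ψ : simGrp Q →* DihedralGroup 4 := e.toMonoidHom.comp m
  have hψ : ψ.ker = omS Q ⊔ (conjAut Q).ker := by
    ext g
    rw [MonoidHom.mem_ker, ← innS_eq]
    simp [ψ, m]
  obtain ⟨φ, h1, h2⟩ := exists_hom_range (conjAut Q) ψ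
    (e.surjective.comp (QuotientGroup.mk'_surjective _)) (omS Q) hψ _ (pgoAut_eq Q)
  exact ⟨φ, h1, by rw [h2, inn_eq]⟩

/-! ### The inner-diagonal part -/

omit δ hδm hδs [Finite F] in
theorem exists_hom_diag {A : Type*} [Group A] (ψ : (sgnHom H).ker →* A)
    (hsurj : Function.Surjective ψ) [Finite F]
    (hker : ψ.ker = (innS Q).subgroupOf (sgnHom H).ker) :
    ∃ φ : ↥((sgnHom H).ker.map (conjAut Q)) →* A, Function.Surjective φ ∧
      φ.ker = (Cfsg.Inn (Cfsg.POmega F (⇑Q))).subgroupOf ((sgnHom H).ker.map (conjAut Q)) := by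
  have hom : omS Q ≤ (sgnHom H).ker := fun g hg => ((mem_soS_iff H g).1 (omS_le_soS H hg)).2
  have hk : (conjAut Q).ker ≤ (sgnHom H).ker := fun g hg => (scalar_invariants H hg).2
  let f := (conjAut Q).comp (sgnHom H).ker.subtype
  have hmap : ((omS Q).subgroupOf (sgnHom H).ker).map f = Cfsg.Inn (Cfsg.POmega F (⇑Q)) := by
    rw [← Subgroup.map_map, Subgroup.map_subgroupOf_eq_of_le hom, inn_eq]
  obtain ⟨φ, h1, h2⟩ := exists_hom_range f ψ hsurj ((omS Q).subgroupOf (sgnHom H).ker)
    (by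
      rw [hker, innS_eq, Subgroup.subgroupOf_sup hom hk]
      congr 1) ((sgnHom H).ker.map (conjAut Q))
    (by rw [MonoidHom.range_comp, Subgroup.range_subtype])
  exact ⟨φ, h1, by rw [h2, hmap]⟩

omit hδs in
theorem multBit_restrict_surjective (hδs : sgnHom H δ = 1) :
    Function.Surjective ((multBit H).comp (sgnHom H).ker.subtype) := fun y => by
  rcases zmod_two_mult_cases y with rfl | rfl
  · exact ⟨1, map_one _⟩
  · exact ⟨⟨δ, hδs⟩, (zmod_two_mult_cases _).resolve_left fun h =>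
      hδm ((multBit_eq_one_iff H δ).1 h)⟩

omit δ hδm hδs in
theorem ker_multBit_restrict :
    ((multBit H).comp (sgnHom H).ker.subtype).ker = (phi0 H).ker.subgroupOf (sgnHom H).ker := by
  ext g
  simp only [MonoidHom.mem_ker, MonoidHom.coe_comp, Function.comp_apply, Subgroup.coe_subtype,
    Subgroup.mem_subgroupOf, multBit_eq_one_iff, phi0_eq_one_iff]
  exact ⟨fun h => ⟨h, g.2⟩, fun h => h.1⟩

theorem exists_diag_two (hN : ¬ NegMem Q) :
    ∃ φ : ↥((sgnHom H).ker.map (conjAut Q)) →* Multiplicative (ZMod 2), Function.Surjective φ ∧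
      φ.ker = (Cfsg.Inn (Cfsg.POmega F (⇑Q))).subgroupOf ((sgnHom H).ker.map (conjAut Q)) :=
  exists_hom_diag H _ (multBit_restrict_surjective H δ hδm hδs)
    (by rw [ker_multBit_restrict H, ker_phi0_eq_innS H hN])

theorem card_diag_quotient (hN : NegMem Q) :
    Nat.card ((sgnHom H).ker ⧸ (innS Q).subgroupOf (sgnHom H).ker) = 4 := by
  rw [← Subgroup.index_eq_card]
  show (innS Q).relIndex (sgnHom H).ker = 4
  have h2 : (phi0 H).ker ≤ (sgnHom H).ker := fun g hg => ((phi0_eq_one_iff H g).1 hg).2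
  rw [← Subgroup.relIndex_mul_relIndex _ _ _ (innS_le_ker_phi0 H) h2,
    relIndex_innS_ker_phi0 H hN]
  show 2 * ((phi0 H).ker.subgroupOf (sgnHom H).ker).index = 4
  rw [← ker_multBit_restrict H, Subgroup.index_ker,
    MonoidHom.range_eq_top.2 (multBit_restrict_surjective H δ hδm hδs), Subgroup.card_top]
  simp

variable (e : ↥(Cfsg.isometryGroup F (⇑Q)))
  (he : δ * δ * (Subgroup.inclusion (isometry_le_sim Q) e)⁻¹ ∈ (conjAut Q).ker)
include e he

theorem sq_mem_innS_iff (hN : NegMem Q) : δ * δ ∈ innS Q ↔ spinO H e = 1 := by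
  set z := δ * δ * (Subgroup.inclusion (isometry_le_sim Q) e)⁻¹
  have hz : z ∈ innS Q := by rw [innS_eq]; exact Subgroup.mem_sup_right he
  have hd : Matrix.GeneralLinearGroup.det (e : GL ι F) = 1 := by
    have h1 := (scalar_invariants H he).2
    rw [map_mul, map_mul, map_inv, hδs, one_mul, one_mul, inv_eq_one, sgn_incl H] at h1
    exact h1
  rw [← inv_mul_cancel_right (δ * δ) (Subgroup.inclusion (isometry_le_sim Q) e),
    Subgroup.mul_mem_cancel_left _ hz, incl_mem_innS_iff H]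
  exact ⟨fun h => h.2.resolve_right (not_not.2 hN), fun h => ⟨hd, Or.inl h⟩⟩

theorem exists_diag_four (hN : NegMem Q) (hes : spinO H e ≠ 1) :
    ∃ φ : ↥((sgnHom H).ker.map (conjAut Q)) →* Multiplicative (ZMod 4), Function.Surjective φ ∧
      φ.ker = (Cfsg.Inn (Cfsg.POmega F (⇑Q))).subgroupOf ((sgnHom H).ker.map (conjAut Q)) := by
  set N := (innS Q).subgroupOf (sgnHom H).ker
  have h4 := card_diag_quotient H δ hδm hδs hN
  have : Finite ((sgnHom H).ker ⧸ N) := Nat.finite_of_card_ne_zero (h4.trans_ne (by norm_num))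
  set t : (sgnHom H).ker ⧸ N := QuotientGroup.mk ⟨δ, hδs⟩
  have ht : ¬ t ^ 2 ^ 1 = 1 := by
    rw [pow_one, sq, ← QuotientGroup.mk_mul, QuotientGroup.eq_one_iff]
    exact fun h => hes ((sq_mem_innS_iff H δ hδm hδs e he hN).1 h)
  have ho : orderOf t = 4 :=
    orderOf_eq_prime_pow (p := 2) (n := 1) ht (orderOf_dvd_iff_pow_eq_one.1 ((orderOf_dvd_natCard t).trans (dvd_of_eq h4)))
  have hcyc : IsCyclic ((sgnHom H).ker ⧸ N) := isCyclic_of_orderOf_eq_card t (ho.trans h4.symm)
  let E : (sgnHom H).ker ⧸ N ≃* Multiplicative (ZMod 4) :=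
    mulEquivOfCyclicCardEq (h4.trans (by simp))
  refine exists_hom_diag H (E.toMonoidHom.comp (QuotientGroup.mk' N))
    (E.surjective.comp (QuotientGroup.mk'_surjective N)) ?_
  ext g
  simp [N]

theorem exists_diag_klein (hN : NegMem Q) (hes : spinO H e = 1) :
    ∃ φ : ↥((sgnHom H).ker.map (conjAut Q)) →* Multiplicative (ZMod 2 × ZMod 2),
      Function.Surjective φ ∧
      φ.ker = (Cfsg.Inn (Cfsg.POmega F (⇑Q))).subgroupOf ((sgnHom H).ker.map (conjAut Q)) := by
  set N := (innS Q).subgroupOf (sgnHom H).ker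
  have h4 := card_diag_quotient H δ hδm hδs hN
  have : Finite ((sgnHom H).ker ⧸ N) := Nat.finite_of_card_ne_zero (h4.trans_ne (by norm_num))
  have hsq : ∀ g : (sgnHom H).ker, (g : simGrp Q) ∈ (phi0 H).ker →
      (QuotientGroup.mk g : (sgnHom H).ker ⧸ N) * QuotientGroup.mk g = 1 := by
    intro g hg
    rw [← QuotientGroup.mk_mul, QuotientGroup.eq_one_iff]
    show (g : simGrp Q) * g ∈ innS Q
    rw [ker_phi0, Subgroup.mem_sup_of_normal_right] at hg
    obtain ⟨y, hy, z, hz, hyz⟩ := hg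
    show conjAut Q _ ∈ Cfsg.Inn _
    rw [← hyz, map_mul, map_mul, MonoidHom.mem_ker.1 hz, mul_one, ← map_mul]
    obtain ⟨h, hd, rfl⟩ := soS_elem H y hy
    rw [← map_mul]
    exact (incl_mem_innS_iff H _).2 ⟨by rw [Subgroup.coe_mul, map_mul, hd, one_mul],
      Or.inl (by rw [map_mul, sqClass_mul_self])⟩
  have hcomm : ∀ a b : (sgnHom H).ker ⧸ N, a * b = b * a :=
    haveI : Fact (Nat.Prime 2) := ⟨Nat.prime_two⟩
    IsPGroup.commutative_of_card_eq_prime_sq (p := 2) (h4.trans (by norm_num))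
  have htt : (QuotientGroup.mk ⟨δ, hδs⟩ : (sgnHom H).ker ⧸ N) * QuotientGroup.mk ⟨δ, hδs⟩ = 1 := by
    rw [← QuotientGroup.mk_mul, QuotientGroup.eq_one_iff]
    exact (sq_mem_innS_iff H δ hδm hδs e he hN).2 hes
  have hall : ∀ x : (sgnHom H).ker ⧸ N, x * x = 1 := by
    intro x
    obtain ⟨g, rfl⟩ := QuotientGroup.mk'_surjective N x
    by_cases hg : IsSquare ((simMult (g : simGrp Q) : Fˣ) : F)
    · exact hsq g ((phi0_eq_one_iff H _).2 ⟨hg, MonoidHom.mem_ker.1 g.2⟩)
    · let D : (sgnHom H).ker := ⟨δ, hδs⟩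
      obtain ⟨g', hg'⟩ : ∃ g' : (sgnHom H).ker, g = D * g' :=
        ⟨D⁻¹ * g, (mul_inv_cancel_left D g).symm⟩
      have hb : ((D * g' : (sgnHom H).ker) : simGrp Q) = δ * (g' : simGrp Q) :=
        Subgroup.coe_mul _ _ _
      have hm : multBit H (g' : simGrp Q) = 1 := by
        rcases zmod_two_mult_cases (multBit H (g' : simGrp Q)) with h | h
        · exact h
        · exfalso
          apply hg
          rw [← multBit_eq_one_iff H, hg', hb, map_mul, h,
            (zmod_two_mult_cases (multBit H δ)).resolve_left fun h' =>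
              hδm ((multBit_eq_one_iff H δ).1 h')]
          decide
      have h1 := hsq g' ((phi0_eq_one_iff H _).2
        ⟨(multBit_eq_one_iff H _).1 hm, MonoidHom.mem_ker.1 g'.2⟩)
      rw [hg', map_mul]
      exact sq_mul_eq_one hcomm htt h1
  have : Nontrivial ((sgnHom H).ker ⧸ N) := Finite.one_lt_card_iff_nontrivial.1 (by rw [h4]; norm_num)
  have hP : IsKleinFour ((sgnHom H).ker ⧸ N) :=
    ⟨h4, Monoid.exponent_eq_prime_iff (hp := Nat.prime_two) |>.2 fun g hg =>
      orderOf_eq_prime (by rw [sq]; exact hall g) hg⟩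
  have hV : IsKleinFour (Multiplicative (ZMod 2 × ZMod 2)) := inferInstance
  obtain ⟨E⟩ := IsKleinFour.nonempty_mulEquiv (G₁ := (sgnHom H).ker ⧸ N)
    (G₂ := Multiplicative (ZMod 2 × ZMod 2))
  refine exists_hom_diag H (E.toMonoidHom.comp (QuotientGroup.mk' N))
    (E.surjective.comp (QuotientGroup.mk'_surjective N)) ?_
  ext g
  simp [N]

end CfsgLib.Classical.Quad
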